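import Groth.Agent.FormalFun.TowerVan
import Groth.Agent.GGDesc.Basic
import Groth.Agent.SerrePn.Coherent
import Groth.Agent.FDesc.QuasiFlat
import Groth.Agent.CohDev.Coh
import Groth.Agent.Omega.Stalks
import Groth.Agent.ChgRings.Basic
import Groth.Agent.KFlat.ProjFormula

/-!
# Compatible covers of towers of coherent modules by twists

`exists_cover`: for a tower whose transition kernels have no `H¹` after twisting by `L^d`, sections generating
the twist of one level lift to compatible maps from one coherent module.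
-/

set_option autoImplicit false

universe u

open CategoryTheory Limits AlgebraicGeometry Opposite TopologicalSpace Abelian
open Groth.Agent Groth.Agent.PullStalk.Sky Groth.Agent.PullStalk.Exact
open scoped MonoidalCategory

noncomputable section

namespace Groth.Agent.FormalExist.Cover

variable {X : Scheme.{u}}

/-- `E ↦ (E ⊗ P) ⊗ N` is the identity for `P ⊗ N ≅ O`. -/
def untwist (P N : X.Modules) (ε : CohB1.tensorMod P N ≅ Coh.structureModule X) :
    (DCoh.tensorBi (X := X)).flip.obj P ⋙ (DCoh.tensorBi (X := X)).flip.obj N ≅ 𝟭 X.Modules :=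
  ChgRings.tensRComp N P ≪≫ (ModSite.tensorBi X.sheaf).flip.mapIso ε ≪≫ KFlat.ProjFormula.unitRight X

theorem untwist_natural {C : Type*} [Category C] (t tN : C ⥤ C) (ρ : t ⋙ tN ≅ 𝟭 C) {O A B : C} (f : A ⟶ B)
    (v : O ⟶ t.obj A) : (tN.map v ≫ ρ.hom.app A) ≫ f = tN.map (v ≫ t.map f) ≫ ρ.hom.app B := by
  rw [tN.map_comp, Category.assoc, Category.assoc]
  exact congrArg (tN.map v ≫ ·) (ρ.hom.naturality f).symm

theorem exists_fin_epi [CompactSpace X] {G : X.Modules} (hG : Coh.IsCoh G) (h : Curv2.IsGloballyGenerated G) :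
    ∃ (ι : Type u) (_ : Finite ι) (f : ι → (Coh.structureModule X ⟶ G)), Epi (Sigma.desc f) := by
  classical
  let O := Coh.structureModule X
  have hO : Coh.IsCoh O := ProperFin.isCoh_structureModule X
  let p : ∀ S : Finset Γ(G, ⊤), (∐ fun _ : S => O) ⟶ G := fun S => Sigma.desc fun σ => Props.GenLocus.homOfSec σ.1
  have hmem : ∀ (S : Finset Γ(G, ⊤)) σ (_ : σ ∈ S) (y : X),
      germM G ⊤ y trivial σ ∈ LinearMap.range (stalkLin (p S) y) := by
    intro S σ hσ y
    refine ⟨stalkLin (Sigma.ι (fun _ : S => O) ⟨σ, hσ⟩) y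
      (germM O ⊤ y trivial (Props.GenLocus.one' (X := X) ⊤)), ?_⟩
    rw [← Omega.Stalks.stalkLin_comp, Sigma.ι_desc]
    exact (stalkLin_germ (Props.GenLocus.homOfSec σ) ⊤ y trivial _).trans
      (congrArg _ ((Props.GenLocus.sec_homOfSec σ ⊤).trans (QCoh.res_self G le_top σ)))
  have hx : ∀ x : X, ∃ S : Finset Γ(G, ⊤), Function.Surjective (stalkLin (p S) x) := by
    intro x
    haveI := FDesc.QuasiFlat.finite_stalk_of_isCoh G hG x
    obtain ⟨t, ht⟩ := (Module.Finite.fg_top : (⊤ : Submodule (X.presheaf.stalk x) (G.presheaf.stalk x)).FG)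
    have hspan := GGDesc.globSpan_eq_top h x
    choose T hT hT' using fun m : t => Submodule.mem_span_finite_of_mem_span
      (show (m : G.presheaf.stalk x) ∈ GGDesc.globSpan G x from hspan ▸ trivial)
    choose σ hσ using fun (m : t) (v : T m) => hT m v.2
    obtain ⟨S₀, hS₀⟩ : ∃ S₀ : Finset Γ(G, ⊤), ∀ (m : t) (v : T m), σ m v ∈ S₀ :=
      ⟨Finset.univ.biUnion fun m => Finset.univ.image (σ m), fun m v => Finset.mem_biUnion.mpr
        ⟨m, Finset.mem_univ _, Finset.mem_image.mpr ⟨v, Finset.mem_univ _, rfl⟩⟩⟩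
    refine ⟨S₀, LinearMap.range_eq_top.mp (top_le_iff.mp ?_)⟩
    rw [← ht, Submodule.span_le]
    intro m hm
    refine Submodule.span_le.mpr (fun v hv => ?_) (hT' ⟨m, hm⟩)
    have h1 := hmem S₀ (σ ⟨m, hm⟩ ⟨v, hv⟩) (hS₀ ⟨m, hm⟩ ⟨v, hv⟩) x
    have hv' : germM G ⊤ x trivial (σ ⟨m, hm⟩ ⟨v, hv⟩) = v := hσ ⟨m, hm⟩ ⟨v, hv⟩
    exact Eq.mp (congrArg (fun w => w ∈ LinearMap.range (stalkLin (p S₀) x)) hv') h1
  choose S hS using hx
  have hcoh : ∀ T : Finset Γ(G, ⊤), Coh.IsCoh (cokernel (p T)) := fun T =>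
    CohDev.isCoh_cokernel _ (SerrePn.isCoh_coprod _ fun _ => hO).1 hG
  have hiff : ∀ (T : Finset Γ(G, ⊤)) y, Function.Surjective (stalkLin (p T) y) ↔
      Subsingleton ((cokernel (p T)).presheaf.stalk y) := by
    intro T y
    let C := ShortComplex.mk (kernel.ι (cokernel.π (p T))) (cokernel.π (p T)) (kernel.condition _)
    have hC : C.ShortExact := { exact := ShortComplex.exact_of_f_is_kernel _ (kernelIsKernel _) }
    obtain ⟨-, hexact, hsurj⟩ := stalk_exact hC y
    constructor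
    · intro hs
      refine subsingleton_of_forall_eq 0 fun c => ?_
      obtain ⟨g, rfl⟩ := hsurj c
      obtain ⟨z, rfl⟩ := hs g
      rw [← Omega.Stalks.stalkLin_comp, cokernel.condition, Omega.Stalks.stalkLin_zero]
    · intro hs g
      obtain ⟨z, rfl⟩ := (hexact g).mp (Subsingleton.elim _ _)
      haveI : Epi (Abelian.factorThruImage (p T)) := inferInstance
      obtain ⟨w, rfl⟩ := stalk_surjective (Abelian.factorThruImage (p T)) y z
      exact ⟨w, by rw [← Omega.Stalks.stalkLin_comp, Abelian.image.fac]⟩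
  let O' : X → X.Opens := fun x =>
    ⟨(CohB1.support (cokernel (p (S x))))ᶜ, (CohDev.isClosed_support (hcoh (S x))).isOpen_compl⟩
  have hxO : ∀ x, x ∈ O' x := fun x =>
    fun hn => hn ((hiff (S x) x).mp (hS x))
  obtain ⟨t, ht⟩ := isCompact_univ.elim_finite_subcover (fun x : X => (O' x : Set X)) (fun x => (O' x).2)
    fun x _ => Set.mem_iUnion.mpr ⟨x, hxO x⟩
  let T := t.biUnion S
  refine ⟨T, inferInstance, fun σ => Props.GenLocus.homOfSec σ.1, ?_⟩
  refine Omega.Stalks.epi_of_stalk fun y => ?_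
  obtain ⟨x, hxt, hyx⟩ := Set.mem_iUnion₂.mp (ht (Set.mem_univ y))
  have h1 : Function.Surjective (stalkLin (p (S x)) y) :=
    (hiff (S x) y).mpr (not_not.mp hyx)
  let j : (∐ fun _ : S x => O) ⟶ ∐ fun _ : T => O :=
    Sigma.desc fun σ => Sigma.ι (fun _ : T => O) ⟨σ.1, Finset.mem_biUnion.mpr ⟨x, hxt, σ.2⟩⟩
  have hj : j ≫ p T = p (S x) := Sigma.hom_ext _ _ fun σ => by simp [j, p]
  intro g
  obtain ⟨w, rfl⟩ := h1 g
  exact ⟨stalkLin j y w, (Omega.Stalks.stalkLin_comp j (p T) y w).symm.trans (by rw [hj])⟩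

/-- Compatible maps to a tower from one coherent module, epi at a given level. -/
theorem exists_cover [IsNoetherian X] (E : ℕᵒᵖ ⥤ X.Modules)
    [hepi : ∀ n, Epi (E.map (homOfLE (Nat.le_succ n)).op)] {L : X.Modules} (hL : PicF.IsInvertible L) (d c : ℕ)
    (hcoh : Coh.IsCoh (E.obj (op c)))
    (hK : ∀ n, c ≤ n → Subsingleton (Coh.HH X ((FormalFun.twist L d).obj
      (kernel (E.map (homOfLE (Nat.le_succ n)).op))) 1))
    (hgg : Curv2.IsGloballyGenerated ((FormalFun.twist L d).obj (E.obj (op c)))) :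
    ∃ (M : X.Modules) (g : ∀ n, M ⟶ E.obj (op n)), Coh.IsCoh M ∧
      (∀ n, g (n + 1) ≫ E.map (homOfLE (Nat.le_succ n)).op = g n) ∧ Epi (g c) := by
  let P := CohB1.tensorPow L d
  have hP : PicF.IsInvertible P := AmpleLib.isInvertible_tensorPow hL d
  obtain ⟨N, hN, ⟨ε⟩⟩ := PicLaw.exists_inverse hP
  let t := FormalFun.twist L d
  let tN := (DCoh.tensorBi (X := X)).flip.obj N
  obtain ⟨ρ⟩ : Nonempty (t ⋙ tN ≅ 𝟭 X.Modules) := ⟨untwist P N ε⟩
  let O := Coh.structureModule X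
  obtain ⟨ι, hι, f, hf⟩ := exists_fin_epi (ProjTwist.isCoh_tensor hP hcoh) hgg
  obtain ⟨θ₀, hθ₀⟩ := ExtHom.exists_constUnit (Opens.grothendieckTopology X) X.ringCatSheaf
  let e : ∀ N : X.Modules, (O ⟶ N) ≃ Coh.HH X N 0 := fun N =>
    (Equiv.ofBijective _ (hθ₀ N)).trans Ext.homEquiv₀.symm
  have he : ∀ {N N' : X.Modules} (ψ : N ⟶ N') (f : O ⟶ N),
      e N' (f ≫ ψ) = CohLin.hMap ψ 0 (e N f) := by
    intro N N' ψ f
    show Ext.mk₀ (θ₀ ≫ (SheafOfModules.toSheaf X.ringCatSheaf).map (f ≫ ψ)) =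
      (Ext.mk₀ (θ₀ ≫ (SheafOfModules.toSheaf X.ringCatSheaf).map f)).comp (Ext.mk₀ (CohLin.abMap ψ)) (add_zero 0)
    refine Eq.trans ?_ (Ext.mk₀_comp_mk₀ _ _).symm
    refine congrArg Ext.mk₀ (Eq.trans (congrArg (θ₀ ≫ ·) ?_) (Category.assoc _ _ _).symm)
    exact Functor.map_comp _ _ _
  have hlift : ∀ k (v : O ⟶ t.obj (E.obj (op (c + k)))), ∃ w : O ⟶ t.obj (E.obj (op (c + k + 1))),
      w ≫ t.map (E.map (homOfLE (Nat.le_succ (c + k))).op) = v := by
    intro k v
    let S := ShortComplex.mk (kernel.ι (E.map (homOfLE (Nat.le_succ (c + k))).op))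
      (E.map (homOfLE (Nat.le_succ (c + k))).op) (kernel.condition _)
    have hS : S.ShortExact :=
      { exact := ShortComplex.exact_of_f_is_kernel _ (kernelIsKernel _), epi_g := hepi (c + k) }
    obtain ⟨z, hz⟩ := CohLin.exists_hMap_g_eq (ProjTwist.shortExact_tensor hP hS) (e _ v)
      ((hK (c + k) (Nat.le_add_right c k)).elim _ _)
    refine ⟨(e _).symm z, (e _).injective ?_⟩
    exact (he (t.map S.g) ((e _).symm z)).trans ((congrArg _ ((e _).apply_symm_apply z)).trans hz)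
  choose lift hlift using hlift
  let s : ∀ (k : ℕ) (_ : ι), O ⟶ t.obj (E.obj (op (c + k))) := fun k =>
    Nat.rec (motive := fun k => ι → (O ⟶ t.obj (E.obj (op (c + k))))) f (fun k v l => lift k (v l)) k
  let b : ∀ n, (O ⟶ t.obj (E.obj (op n))) → (tN.obj O ⟶ E.obj (op n)) := fun n v =>
    tN.map v ≫ ρ.hom.app (E.obj (op n))
  have hb : ∀ {n m : ℕ} (h : n ≤ m) (v : O ⟶ t.obj (E.obj (op m))),
      b m v ≫ E.map (homOfLE h).op = b n (v ≫ t.map (E.map (homOfLE h).op)) := by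
    intro n m h v
    exact untwist_natural t tN ρ _ v
  have hs : ∀ k l, s (k + 1) l ≫ t.map (E.map (homOfLE (Nat.le_succ (c + k))).op) = s k l :=
    fun k l => hlift k (s k l)
  let g : ∀ n, (∐ fun _ : ι => tN.obj O) ⟶ E.obj (op n) := fun n =>
    Sigma.desc fun l => b (c + n) (s n l) ≫ E.map (homOfLE (Nat.le_add_left n c)).op
  have hgs : ∀ n, g (n + 1) ≫ E.map (homOfLE (Nat.le_succ n)).op = g n := by
    intro n
    refine Sigma.hom_ext _ _ fun l => ?_
    simp only [g, Sigma.ι_desc_assoc, Sigma.ι_desc, Category.assoc]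
    rw [← E.map_comp, ← hs n l, ← hb]
    simp only [b, Category.assoc, ← E.map_comp]
    rfl
  have hgle : ∀ {n m : ℕ} (h : n ≤ m), g m ≫ E.map (homOfLE h).op = g n := by
    intro n m h
    induction m, h using Nat.le_induction with
    | base => rw [show (homOfLE (le_refl n)).op = 𝟙 (op n) from rfl, E.map_id, Category.comp_id]
    | succ m hm ih =>
      rw [← ih, ← hgs m, Category.assoc, ← E.map_comp]
      rfl
  have hbs : ∀ k l, b (c + k) (s k l) ≫ E.map (homOfLE (Nat.le_add_right c k)).op = b c (f l) := by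
    intro k l
    induction k with
    | zero =>
      exact ((congrArg (b (c + 0) (s 0 l) ≫ ·) (E.map_id (op c))).trans (Category.comp_id _))
    | succ k ih =>
      rw [← ih, ← hs k l, ← hb]
      simp only [b, Category.assoc, ← E.map_comp]
      rfl
  refine ⟨_, g, SerrePn.isCoh_coprod _ fun _ => ProjTwist.isCoh_tensor hN (ProperFin.isCoh_structureModule X),
    hgs, ?_⟩
  haveI : tN.IsLeftAdjoint := by
    haveI := KFlat.hasSheafHom_scheme N
    haveI : ((DCoh.tensorBi (X := X)).obj N).IsLeftAdjoint := (DCoh.sheafHomAdj N).isLeftAdjoint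
    exact ((DCoh.sheafHomAdj N).ofNatIsoLeft
      ((KFlat.tensorBiFlipIso (O := X.sheaf)).app N).symm).isLeftAdjoint
  let p₀ : (∐ fun _ : ι => O) ⟶ t.obj (E.obj (op c)) := Sigma.desc f
  haveI : Epi p₀ := hf
  haveI : Epi (tN.map p₀ ≫ ρ.hom.app (E.obj (op c))) := epi_comp _ _
  refine Preadditive.epi_of_cancel_zero _ fun {Z} v hv => ?_
  refine (cancel_epi (tN.map p₀ ≫ ρ.hom.app (E.obj (op c)))).1 ?_
  rw [comp_zero, Category.assoc]
  refine Cofan.IsColimit.hom_ext (isColimitCofanMkObjOfIsColimit tN (fun _ : ι => O)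
    (Sigma.ι _) (coproductIsCoproduct _)) _ _ fun l => ?_
  show tN.map (Sigma.ι (fun _ : ι => O) l) ≫ tN.map p₀ ≫ ρ.hom.app _ ≫ v = _ ≫ 0
  rw [comp_zero, ← tN.map_comp_assoc, show Sigma.ι (fun _ : ι => O) l ≫ p₀ = f l from Sigma.ι_desc f l,
    ← Category.assoc]
  show b c (f l) ≫ v = 0
  have h1 := congrArg (Sigma.ι (fun _ : ι => tN.obj O) l ≫ ·) hv
  simp only [g, Sigma.ι_desc_assoc, comp_zero] at h1
  rw [← hbs c l]
  exact h1

end Groth.Agent.FormalExist.Cover
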