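import Groth.Agent.ParaFLib.QSepBC
import Mathlib.CategoryTheory.Adjunction.Unique

/-!
# Flat base change of direct images
-/

set_option autoImplicit false
set_option linter.style.haveILetI false
set_option backward.isDefEq.respectTransparency false
set_option backward.isDefEq.respectTransparency.types false

universe u

open CategoryTheory CategoryTheory.Limits AlgebraicGeometry TopologicalSpace Opposite
open scoped TensorProduct

noncomputable section

namespace Groth.Agent.FormalExist.BaseChange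

open Groth.Agent Groth.Agent.LFDesc Groth.Agent.ParaFLib.QSepBC
open Groth.Agent.PullStalk.Sky

variable {X S S' X' : Scheme.{u}} {f : X ⟶ S} {g : S' ⟶ S} {p : X' ⟶ X} {q : X' ⟶ S'}

/-- the adjoint of the base change map -/
def ψ (w : p ≫ f = q ≫ g) (L : X.Modules) : (Scheme.Modules.pushforward f).obj L ⟶
    (Scheme.Modules.pushforward g).obj ((Scheme.Modules.pushforward q).obj ((Scheme.Modules.pullback p).obj L)) :=
  (Scheme.Modules.pushforward f).map ((Scheme.Modules.pullbackPushforwardAdjunction p).unit.app L) ≫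
    (Scheme.Modules.pushforwardComp p f).hom.app _ ≫ (Scheme.Modules.pushforwardCongr w).hom.app _ ≫
    (Scheme.Modules.pushforwardComp q g).inv.app _

/-- the base change map -/
def θ (w : p ≫ f = q ≫ g) (L : X.Modules) :
    (Scheme.Modules.pullback g).obj ((Scheme.Modules.pushforward f).obj L) ⟶
      (Scheme.Modules.pushforward q).obj ((Scheme.Modules.pullback p).obj L) :=
  ((Scheme.Modules.pullbackPushforwardAdjunction g).homEquiv _ _).symm (ψ w L)

theorem isIso_θ (H : IsPullback p q f g) [QuasiCompact f] [QuasiSeparated f] [AlgebraicGeometry.Flat g]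
    (L : X.Modules) [L.IsQuasicoherent] : IsIso (θ H.w L) := by
  haveI hNq : ((Scheme.Modules.pushforward f).obj L).IsQuasicoherent := QCoh.isQuasicoherent_pushforward f L
  let N := (Scheme.Modules.pushforward f).obj L
  let P := (Scheme.Modules.pullback p).obj L
  let adjg := Scheme.Modules.pullbackPushforwardAdjunction g
  let θ : (Scheme.Modules.pullback g).obj N ⟶ (Scheme.Modules.pushforward q).obj P := BaseChange.θ H.w L
  show IsIso θ
  let ψ := BaseChange.ψ H.w L
  have hle : ∀ U : S.Opens, q ⁻¹ᵁ (g ⁻¹ᵁ U) ≤ p ⁻¹ᵁ (f ⁻¹ᵁ U) := fun U x hx => by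
    show f (p x) ∈ U
    rw [← Scheme.Hom.comp_apply, H.w, Scheme.Hom.comp_apply]
    exact hx
  have hψ : ∀ (U : S.Opens) (m : Γ(L, f ⁻¹ᵁ U)), ψ.app U m = LimTop.unitSec p L (hle U) m := fun U m => rfl
  have hθψ : adjg.unit.app N ≫ (Scheme.Modules.pushforward g).map θ = ψ := by
    exact (Adjunction.homEquiv_unit adjg N _ θ).symm.trans (Equiv.apply_symm_apply _ ψ)
  have hθ : ∀ (US : S.Opens) (UT : S'.Opens) (hT : UT ≤ g ⁻¹ᵁ US) (m : Γ(L, f ⁻¹ᵁ US)),
      θ.app UT (LimTop.unitSec g N hT m) =
        (show Γ((Scheme.Modules.pushforward q).obj P, UT) from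
          LimTop.unitSec p L ((q.preimage_mono hT).trans (hle US)) m) := by
    intro US UT hT m
    rw [LimTop.unitSec_apply, QCoh.app_res]
    refine (congrArg (QCoh.res ((Scheme.Modules.pushforward q).obj P) hT)
      (congrArg (fun χ : N ⟶ _ => Scheme.Modules.Hom.app χ US m) hθψ)).trans ?_
    exact (congrArg (QCoh.res ((Scheme.Modules.pushforward q).obj P) hT) (hψ US m)).trans
      (LimTop.res_unitSec p L (hle US) (q.preimage_mono hT) m)
  refine isIso_of_bijective_small θ fun x W hx => ?_
  obtain ⟨US, hUS, hxUS, -⟩ := exists_isAffineOpen_mem_and_subset (X := S) (Opens.mem_top (g x))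
  obtain ⟨UT, hUT, hxV, hVle⟩ := exists_isAffineOpen_mem_and_subset (X := S') (show x ∈ W ⊓ g ⁻¹ᵁ US from ⟨hx, hxUS⟩)
  have hT : UT ≤ g ⁻¹ᵁ US := fun y hy => (hVle hy).2
  refine ⟨UT, hxV, fun y hy => (hVle hy).1, ?_⟩
  letI := (g.appLE US UT hT).hom.toAlgebra
  letI := LimTop.secModule g N hT
  haveI : IsScalarTower Γ(S, US) Γ(S', UT) Γ((Scheme.Modules.pullback g).obj N, UT) :=
    IsScalarTower.of_algebraMap_smul fun _ _ => rfl
  have hbc := LimTop.isBaseChange_unitSec g N hT hUS hUT
  have hover : over p q UT (f ⁻¹ᵁ US) = q ⁻¹ᵁ UT :=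
    le_antisymm inf_le_right (le_inf ((q.preimage_mono hT).trans (hle US)) le_rfl)
  have hr : Function.Bijective (QCoh.res P hover.ge) := by
    have : IsIso (homOfLE hover.ge) := ⟨homOfLE hover.le, rfl, rfl⟩
    exact (ConcreteCategory.isIso_iff_bijective _).1 (inferInstanceAs (IsIso (P.presheaf.map (homOfLE hover.ge).op)))
  let j : Sec f L (le_refl (f ⁻¹ᵁ US)) ≃ₗ[Γ(S, US)] Γ(N, US) :=
    { toFun := fun m => m
      invFun := fun m => m
      left_inv := fun _ => rfl
      right_inv := fun _ => rfl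
      map_add' := fun _ _ => rfl
      map_smul' := fun a m => by
        show (f.appLE US (f ⁻¹ᵁ US) le_rfl a : Γ(X, f ⁻¹ᵁ US)) • (show Γ(L, f ⁻¹ᵁ US) from m) =
          (f.app US a : Γ(X, f ⁻¹ᵁ US)) • (show Γ(L, f ⁻¹ᵁ US) from m)
        rw [Scheme.Hom.app_eq_appLE] }
  let Λ : Γ(S', UT) ⊗[Γ(S, US)] Sec f L (le_refl (f ⁻¹ᵁ US)) → Γ((Scheme.Modules.pullback g).obj N, UT) :=
    fun z => hbc.equiv (LinearEquiv.lTensor Γ(S', UT) j z)
  have key : ∀ z : Γ(S', UT) ⊗[Γ(S, US)] Sec f L (le_refl (f ⁻¹ᵁ US)), (θ.app UT (Λ z) : Γ(P, q ⁻¹ᵁ UT)) =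
      QCoh.res P hover.ge (Φ f g p q L hT H.w (le_refl (f ⁻¹ᵁ US)) z) := by
    intro z
    induction z using TensorProduct.induction_on with
    | zero => simp only [Λ, map_zero]
    | tmul b m =>
      show θ.app UT (hbc.equiv (b ⊗ₜ (show Γ(N, US) from m))) = QCoh.res P hover.ge (Φ f g p q L hT H.w (le_refl _) (b ⊗ₜ m))
      rw [IsBaseChange.equiv_tmul, Φ_tmul, QCoh.res_smul, LimTop.res_unitSec, Scheme.Modules.Hom.app_smul]
      refine (congrArg (fun y => b • y) (hθ US UT hT m)).trans ?_
      show (q.app UT b : Γ(X', q ⁻¹ᵁ UT)) •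
        (LimTop.unitSec p L ((q.preimage_mono hT).trans (hle US)) (show Γ(L, f ⁻¹ᵁ US) from m) : Γ(P, q ⁻¹ᵁ UT)) = _
      refine congrArg (fun r : Γ(X', q ⁻¹ᵁ UT) =>
        r • (LimTop.unitSec p L ((q.preimage_mono hT).trans (hle US)) (show Γ(L, f ⁻¹ᵁ US) from m) : Γ(P, q ⁻¹ᵁ UT))) ?_
      rw [Scheme.Hom.app_eq_appLE]
      exact (ConcreteCategory.congr_hom (q.appLE_map _ _) b).symm
    | add a c ha hc =>
      simp only [Λ, map_add] at ha hc ⊢
      rw [ha, hc]
  have hΛ : Function.Bijective Λ := hbc.equiv.bijective.comp (LinearEquiv.lTensor Γ(S', UT) j).bijective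
  rw [← Function.Bijective.of_comp_iff _ hΛ]
  rw [show (θ.app UT) ∘ Λ = (QCoh.res P hover.ge) ∘ (Φ f g p q L hT H.w (le_refl (f ⁻¹ᵁ US))) from funext key]
  exact hr.comp (Φ_bijective f g p q L hT H hUS hUT)

/-- natural in the module -/
theorem θ_natural (w : p ≫ f = q ≫ g) {L L' : X.Modules} (φ : L ⟶ L') :
    (Scheme.Modules.pullback g).map ((Scheme.Modules.pushforward f).map φ) ≫ θ w L' =
      θ w L ≫ (Scheme.Modules.pushforward q).map ((Scheme.Modules.pullback p).map φ) := by
  let adjp := Scheme.Modules.pullbackPushforwardAdjunction p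
  refine ((Scheme.Modules.pullbackPushforwardAdjunction g).homEquiv _ _).injective ?_
  rw [Adjunction.homEquiv_naturality_left, Adjunction.homEquiv_naturality_right, θ, θ, Equiv.apply_symm_apply,
    Equiv.apply_symm_apply]
  simp only [ψ]
  rw [← Category.assoc, ← Functor.map_comp]
  erw [adjp.unit.naturality φ]
  simp only [Functor.comp_map, Functor.map_comp, Category.assoc]
  refine congrArg ((Scheme.Modules.pushforward f).map (adjp.unit.app L) ≫ ·) ?_
  exact ((Scheme.Modules.pushforwardComp p f ≪≫ Scheme.Modules.pushforwardCongr w ≪≫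
    (Scheme.Modules.pushforwardComp q g).symm).hom.naturality ((Scheme.Modules.pullback p).map φ))

/-- `q^* g^* ≅ p^* f^*`, adjoint to the base change map -/
def κ (w : p ≫ f = q ≫ g) :
    Scheme.Modules.pullback g ⋙ Scheme.Modules.pullback q ≅ Scheme.Modules.pullback f ⋙ Scheme.Modules.pullback p :=
  Adjunction.leftAdjointUniq
    ((Scheme.Modules.pullbackPushforwardAdjunction g).comp (Scheme.Modules.pullbackPushforwardAdjunction q))
    (((Scheme.Modules.pullbackPushforwardAdjunction f).comp (Scheme.Modules.pullbackPushforwardAdjunction p)).ofNatIsoRight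
      (Scheme.Modules.pushforwardComp p f ≪≫ Scheme.Modules.pushforwardCongr w ≪≫
        (Scheme.Modules.pushforwardComp q g).symm))

/-- the units are compatible with base change -/
theorem κ_spec (w : p ≫ f = q ≫ g) (G : S.Modules) :
    (Scheme.Modules.pullback g).map ((Scheme.Modules.pullbackPushforwardAdjunction f).unit.app G) ≫
        θ w ((Scheme.Modules.pullback f).obj G) =
      (Scheme.Modules.pullbackPushforwardAdjunction q).unit.app ((Scheme.Modules.pullback g).obj G) ≫
        (Scheme.Modules.pushforward q).map ((κ w).hom.app G) := by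
  refine ((Scheme.Modules.pullbackPushforwardAdjunction g).homEquiv _ _).injective ?_
  refine (Adjunction.homEquiv_naturality_left _ _ _).trans ?_
  refine (congrArg ((Scheme.Modules.pullbackPushforwardAdjunction f).unit.app G ≫ ·)
    (Equiv.apply_symm_apply _ _)).trans ?_
  refine Eq.trans ?_ (Adjunction.homEquiv_unit _ _ _ _).symm
  have h : ((Scheme.Modules.pullbackPushforwardAdjunction g).comp
        (Scheme.Modules.pullbackPushforwardAdjunction q)).unit.app G ≫
      (Scheme.Modules.pushforward q ⋙ Scheme.Modules.pushforward g).map ((κ w).hom.app G) = _ :=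
    Adjunction.unit_leftAdjointUniq_hom_app
    ((Scheme.Modules.pullbackPushforwardAdjunction g).comp (Scheme.Modules.pullbackPushforwardAdjunction q))
    (((Scheme.Modules.pullbackPushforwardAdjunction f).comp (Scheme.Modules.pullbackPushforwardAdjunction p)).ofNatIsoRight
      (Scheme.Modules.pushforwardComp p f ≪≫ Scheme.Modules.pushforwardCongr w ≪≫
        (Scheme.Modules.pushforwardComp q g).symm)) G
  generalize (κ w).hom.app G = k at h ⊢
  simp [Adjunction.comp, Adjunction.ofNatIsoRight] at h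
  simp only [ψ, Functor.map_comp]
  exact h.symm

end Groth.Agent.FormalExist.BaseChange
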