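import Groth.Agent.FormalExist.Exist
import Groth.Agent.FormalFun.Near
import Groth.Agent.EtShriekLib.Proper
import Groth.Agent.S0384

/-!
# Algebraization of coherent formal modules with proper support
-/

set_option autoImplicit false

universe u

open CategoryTheory Limits AlgebraicGeometry Opposite TopologicalSpace
open Groth.Agent

noncomputable section

namespace Groth.Agent.FormalExist.ProperSupp

open Tricky

theorem subsingleton_sections {X : Scheme.{u}} {M : X.Modules} {V : X.Opens}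
    (h : ∀ x ∈ V, x ∉ CohB1.support M) : Subsingleton Γ(M, V) :=
  subsingleton_of_forall_eq 0 fun s => FormalFun.section_eq_zero M s fun x hx => not_not.mp (h x hx)

theorem not_mem_support {X : Scheme.{u}} {M : X.Modules} (W : X.Opens)
    (h : ∀ V : X.affineOpens, V.1 ≤ W → ∀ s : Γ(M, V.1), s = 0) (x : X) (hx : x ∈ W) :
    x ∉ CohB1.support M := fun hn => hn (subsingleton_of_forall_eq 0 fun t => by
  obtain ⟨U, hxU, s, rfl⟩ := M.presheaf.exists_germ_eq t
  obtain ⟨V, hV, hxV, hVU⟩ := exists_isAffineOpen_mem_and_subset (X := X) (show x ∈ U ⊓ W from ⟨hxU, hx⟩)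
  rw [← TopCat.Presheaf.germ_res_apply M.presheaf (homOfLE fun y hy => (hVU hy).1) x hxV s,
    show M.presheaf.map (homOfLE fun y hy => (hVU hy).1).op s = 0 from h ⟨V, hV⟩ (fun y hy => (hVU hy).2) _,
    map_zero])

variable {A : Type u} [CommRing A] {I : Ideal A}

section Formal

variable {X : Scheme.{u}} [X.Over (Spec (CommRingCat.of A))] [AlgebraicGeometry.IsNoetherian X]

/-- All the terms of a formal module are supported on the support of the first one. -/
theorem support_le {G : ℕᵒᵖ ⥤ X.Modules} (hG : Formal.IsCohFormal I G) (n : ℕ) :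
    CohB1.support (G.obj (op n)) ⊆ CohB1.support (G.obj (op 0)) := by
  intro x hx
  by_contra h
  haveI := (hG.1 0).1
  let W : X.Opens := ⟨_, (CycLib.isClosed_support _ (hG.1 0)).isOpen_compl⟩
  have hW : ∀ y ∈ W, y ∉ CohB1.support (G.obj (op 0)) := fun y hy hn =>
    hy (not_subsingleton_iff_nontrivial.mp hn)
  have key : ∀ (m : ℕ) (V : X.affineOpens), V.1 ≤ W → ∀ s : Γ(G.obj (op m), V.1), s = 0 := by
    intro m
    induction m with
    | zero =>
      intro V hV s
      haveI := subsingleton_sections (M := G.obj (op 0)) (V := V.1) fun y hy => hW y (hV hy)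
      exact Subsingleton.elim _ _
    | succ m ih =>
      intro V hV s
      haveI := (hG.1 (m + 1)).1
      let J := (I.map (FormalFun.gA (A := A) V.1)) ^ (m + 1)
      let N : Submodule Γ(X, V.1) Γ(G.obj (op (m + 1)), V.1) := ⊤
      have h1 : N = J • N := by
        refine le_antisymm (fun t _ => ?_) le_top
        exact (app_eq_zero_iff (hG.2.2 m) V t).1 (ih V hV _)
      have h2 : N = (J * J) • N := by rw [Submodule.mul_smul, ← h1, ← h1]
      have hs : s ∈ (J * J) • N := h2 ▸ trivial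
      refine Submodule.smul_induction_on hs (fun r hr t _ => ?_) fun a b ha hb => by rw [ha, hb, add_zero]
      have hr0 : r ∈ (I.map (FormalFun.gA (A := A) V.1)) ^ (m + 1 + (m + 1)) := by
        rw [pow_add]
        exact hr
      have hr' : r ∈ (I.map (FormalFun.gA (A := A) V.1)) ^ (m + 1 + 1) :=
        Ideal.pow_le_pow_right (by omega) hr0
      rw [← Ideal.map_pow] at hr'
      clear hr hr0
      induction hr' using Submodule.span_induction with
      | mem r hr =>
        obtain ⟨a, ha, rfl⟩ := hr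
        refine (FormalFun.smulMod_app _ a _ t).symm.trans ?_
        rw [hG.2.1 (m + 1) a ha]
        rfl
      | zero => exact zero_smul _ _
      | add r r' _ _ hr hr' => rw [add_smul, hr, hr', add_zero]
      | smul c r _ hr => rw [smul_eq_mul, mul_smul, hr, smul_zero]
  exact not_mem_support W (key n) x (fun hn => h (not_subsingleton_iff_nontrivial.mpr hn)) hx

end Formal

section Extend

variable {X Z : Scheme.{u}} [X.Over (Spec (CommRingCat.of A))] [Z.Over (Spec (CommRingCat.of A))]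
  [AlgebraicGeometry.IsNoetherian Z] (j : X ⟶ Z) [IsOpenImmersion j] [QuasiCompact j]
  {T : Set X} (hT : IsClosed (j '' T))

include hT in
theorem affine_cases (x : Z) : ∃ V : Z.affineOpens, x ∈ V.1 ∧
    (V.1 ≤ j.opensRange ∨ ∀ y ∈ V.1, y ∉ j '' T) := by
  by_cases hx : x ∈ j '' T
  · obtain ⟨V, hV, hxV, hle⟩ := exists_isAffineOpen_mem_and_subset (X := Z)
      (show x ∈ j.opensRange from Set.image_subset_range _ _ hx)
    exact ⟨⟨V, hV⟩, hxV, Or.inl hle⟩
  · obtain ⟨V, hV, hxV, hle⟩ := exists_isAffineOpen_mem_and_subset (X := Z)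
      (show x ∈ (⟨_, hT.isOpen_compl⟩ : Z.Opens) from hx)
    exact ⟨⟨V, hV⟩, hxV, Or.inr fun y hy => hle hy⟩

theorem bijective_app_of_le {V : Z.Opens} (hV : V ≤ j.opensRange) : Function.Bijective (j.app V) := by
  haveI : IsIso (j.app V) := j.isIso_app V hV
  exact ConcreteCategory.bijective_of_isIso _

theorem isAffine_preimage {V : Z.Opens} (hV : IsAffineOpen V) (hle : V ≤ j.opensRange) :
    IsAffineOpen (j ⁻¹ᵁ V) := by
  rw [← j.isAffineOpen_iff_of_isOpenImmersion, Scheme.Hom.image_preimage_eq_opensRange_inf, inf_eq_right.mpr hle]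
  exact hV

theorem subsingleton_push {M : X.Modules} (hM : CohB1.support M ⊆ T) {V : Z.Opens}
    (hV : ∀ y ∈ V, y ∉ j '' T) : Subsingleton Γ((Scheme.Modules.pushforward j).obj M, V) :=
  subsingleton_sections (M := M) (V := j ⁻¹ᵁ V) fun x hx hn => hV _ hx ⟨x, hM hn, rfl⟩

include hT in
theorem isCoh_push {M : X.Modules} (hM : Coh.IsCoh M) (hs : CohB1.support M ⊆ T) :
    Coh.IsCoh ((Scheme.Modules.pushforward j).obj M) := by
  haveI := hM.1
  haveI : SheafOfModules.IsFiniteType.{u} M := hM.2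
  haveI hq := QCoh.isQuasicoherent_pushforward j M
  refine ⟨hq, QCoh.isFiniteType_of_forall_exists _ fun x => ?_⟩
  obtain ⟨V, hx, hle | hd⟩ := affine_cases j hT x
  · refine ⟨V.1, V.2, hx, ?_⟩
    haveI := QCoh.finite_sections_of_isFiniteType M (isAffine_preimage j V.2 hle)
    let e := RingEquiv.ofBijective (j.app V.1).hom (bijective_app_of_le j hle)
    obtain ⟨s, hs'⟩ := (Module.finite_def.mp ‹Module.Finite Γ(X, j ⁻¹ᵁ V.1) Γ(M, j ⁻¹ᵁ V.1)›)
    refine ⟨s, eq_top_iff.mpr fun m _ => ?_⟩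
    let N := Submodule.span Γ(Z, V.1) (show Set Γ((Scheme.Modules.pushforward j).obj M, V.1) from (s : Set Γ(M, j ⁻¹ᵁ V.1)))
    show m ∈ N
    suffices hall : ∀ y : Γ(M, j ⁻¹ᵁ V.1), y ∈ Submodule.span Γ(X, j ⁻¹ᵁ V.1) (s : Set Γ(M, j ⁻¹ᵁ V.1)) →
        (show Γ((Scheme.Modules.pushforward j).obj M, V.1) from y) ∈ N from hall m (hs'.ge trivial)
    intro y hy
    induction hy using Submodule.span_induction with
    | mem m hm => exact Submodule.subset_span hm
    | zero => exact zero_mem _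
    | add a b _ _ ha hb => exact add_mem ha hb
    | smul r a _ ha =>
      obtain ⟨c, rfl⟩ := (bijective_app_of_le j hle).2 r
      exact (ProperFin.push_smul' j M c a) ▸ N.smul_mem c ha
  · haveI := subsingleton_push j hs hd
    exact ⟨V.1, V.2, hx, inferInstance⟩

include hT in
theorem isCohFormal_push [AlgebraicGeometry.IsNoetherian X]
    (hj : j ≫ (Z ↘ Spec (CommRingCat.of A)) = X ↘ Spec (CommRingCat.of A)) {G : ℕᵒᵖ ⥤ X.Modules}
    (hG : Formal.IsCohFormal I G) (hs : ∀ n, CohB1.support (G.obj (op n)) ⊆ T) :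
    Formal.IsCohFormal I (G ⋙ Scheme.Modules.pushforward j) := by
  let ph := Scheme.Modules.pushforward j
  have hc : ∀ n, Coh.IsCoh (ph.obj (G.obj (op n))) := fun n => isCoh_push j hT (hG.1 n) (hs n)
  have hk : ∀ n, Formal.KilledBy (I ^ (n + 1)) (ph.obj (G.obj (op n))) := fun n a ha => by
    rw [← Formal61.Pullback.pushforward_smulMod j hj, hG.2.1 n a ha, Functor.map_zero]
  refine ⟨hc, hk, fun n => ?_⟩
  let t : ph.obj (G.obj (op (n + 1))) ⟶ ph.obj (G.obj (op n)) := ph.map (tr1 G n)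
  show Formal61.Sys.IsModQuot (I ^ (n + 1)) t
  haveI := (hG.1 n).1
  haveI := (hG.1 (n + 1)).1
  haveI := (hc n).1
  haveI := (hc (n + 1)).1
  haveI : Epi (tr1 G n) := Formal61.Sys.IsModQuot.epi (hG.2.2 n)
  haveI : Epi t := by
    haveI := (CohDev.isCoh_cokernel t (hc (n + 1)).1 (hc n)).1
    refine Abelian.epi_of_cokernel_π_eq_zero _ (QCohGen.Noeth.eq_zero_of_cover _ fun x => ?_)
    obtain ⟨V, hx, hle | hd⟩ := affine_cases j hT x
    · refine ⟨V, hx, fun y => ?_⟩
      obtain ⟨z, hz⟩ := QCoh.app_surjective_of_epi (tr1 G n) (isAffine_preimage j V.2 hle)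
        (show Γ(G.obj (op n), j ⁻¹ᵁ V.1) from y)
      rw [show y = t.app V.1 z from hz.symm, ← FormalFun.app_comp, cokernel.condition]
      rfl
    · refine ⟨V, hx, fun y => ?_⟩
      haveI := subsingleton_push j (hs n) hd
      rw [Subsingleton.elim y 0, map_zero]
  refine Formal61.Sys.IsModQuot.mk' ((Formal61.Sys.smulFamily_comp_eq_zero_iff _).1
    (Formal61.Sys.comp_eq_zero_of_killedBy (hk n) _)) fun Z' v hv => ?_
  obtain ⟨v', hv'⟩ := (Formal61.Sys.isModQuot_modPowπ I (n + 1) _).exists_desc v hv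
  have hz : kernel.ι t ≫ Formal.modPowπ I (n + 1) (ph.obj (G.obj (op (n + 1)))) = 0 := by
    haveI := (CohDev.isCoh_kernel t (hc (n + 1)) (hc n).1).1
    refine QCohGen.Noeth.eq_zero_of_cover _ fun x => ?_
    obtain ⟨V, hx, hle | hd⟩ := affine_cases j hT x
    · refine ⟨V, hx, fun w => ?_⟩
      rw [FormalFun.app_comp, IdealQuot.modPowπ_app_eq_zero_iff I (n + 1) _ V.2]
      let y : Γ(G.obj (op (n + 1)), j ⁻¹ᵁ V.1) := (kernel.ι t).app V.1 w
      have hy : (tr1 G n).app (j ⁻¹ᵁ V.1) y = 0 := by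
        show t.app V.1 ((kernel.ι t).app V.1 w) = 0
        rw [← FormalFun.app_comp, kernel.condition]; rfl
      have h2 := (app_eq_zero_iff (hG.2.2 n) ⟨j ⁻¹ᵁ V.1, isAffine_preimage j V.2 hle⟩ y).mp hy
      have h3 : (I.map (FormalFun.gA (A := A) (j ⁻¹ᵁ V.1))) ^ (n + 1) =
          ((I.map (FormalFun.gA (A := A) V.1)) ^ (n + 1)).map (j.app V.1).hom := by
        rw [Ideal.map_pow, Ideal.map_map]
        refine congrArg (fun φ => Ideal.map φ I ^ (n + 1)) ?_
        exact RingHom.ext fun a => (Formal61.Pullback.gA_comp j hj V.1 a).symm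
      exact ClosedLift.mem_push_smul j (G.obj (op (n + 1))) V.1 _ (h3 ▸ h2)
    · refine ⟨V, hx, fun w => ?_⟩
      haveI := subsingleton_push j (hs (n + 1)) hd
      rw [FormalFun.app_comp, Subsingleton.elim ((kernel.ι t).app V.1 w) 0, map_zero]
  refine ⟨Abelian.epiDesc t _ hz ≫ v', ?_⟩
  rw [← Category.assoc, Abelian.comp_epiDesc, hv']

end Extend

variable [IsNoetherianRing A]

/-- A coherent module on a scheme proper over a complete base whose reduction vanishes outside a closed
set vanishes outside it. -/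
theorem support_le_of_reduction {Z : Scheme.{u}} [Z.Over (Spec (CommRingCat.of A))]
    [AlgebraicGeometry.IsNoetherian Z] [IsAdicComplete I A] [IsProper (Z ↘ Spec (CommRingCat.of A))]
    {M : Z.Modules} (hM : Coh.IsCoh M) (U : Z.Opens)
    (h : CohB1.support ((Formal.completion I M).obj (op 0)) ⊆ U) : CohB1.support M ⊆ U := by
  intro z hz
  by_contra hzU
  haveI := hM.1
  haveI : SheafOfModules.IsFiniteType.{u} M := hM.2
  let f := Z ↘ Spec (CommRingCat.of A)
  have hcl : IsClosed (CohB1.support M) := by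
    convert CycLib.isClosed_support M hM using 1
    ext y
    exact not_subsingleton_iff_nontrivial
  have hC : IsClosed (CohB1.support M \ U) := hcl.sdiff U.2
  -- a point over `V(I)`
  have hfC : IsClosed (f '' (CohB1.support M \ U)) := f.isClosedMap _ hC
  obtain ⟨m, hm, hzm⟩ := Ideal.exists_le_maximal (f z).asIdeal (f z).2.ne_top
  have hmem : (⟨m, hm.isPrime⟩ : PrimeSpectrum A) ∈ f '' (CohB1.support M \ U) :=
    hfC.stableUnderSpecialization
      ((PrimeSpectrum.le_iff_specializes (f z) ⟨m, hm.isPrime⟩).mp hzm) ⟨z, ⟨hz, hzU⟩, rfl⟩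
  obtain ⟨x, ⟨hxM, hxU⟩, hxm⟩ := hmem
  have hI : I ≤ (f x).asIdeal := by
    rw [hxm]
    exact (IsAdicComplete.le_jacobson_bot I).trans (sInf_le ⟨bot_le, hm⟩)
  -- near `x` the reduction vanishes
  have hc0 : Coh.IsCoh ((Formal.completion I M).obj (op 0)) :=
    (isCohFormal_completion' (I := I) hM).1 0
  have hcl0 : IsClosed (CohB1.support ((Formal.completion I M).obj (op 0))) := by
    haveI := hc0.1
    convert CycLib.isClosed_support _ hc0 using 1
    ext y
    exact not_subsingleton_iff_nontrivial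
  obtain ⟨V, hV, hxV, hVle⟩ := exists_isAffineOpen_mem_and_subset (X := Z)
    (show x ∈ (⟨_, hcl0.isOpen_compl⟩ : Z.Opens) from fun hn => hxU (h hn))
  let J := I.map (FormalFun.gA (A := A) V)
  haveI := subsingleton_sections (M := (Formal.completion I M).obj (op 0)) (V := V) fun y hy => hVle hy
  have htop : (⊤ : Submodule Γ(Z, V) Γ(M, V)) ≤ J • ⊤ := fun s _ => by
    have h1 := (cπ_app_eq_zero_iff (I := I) M 0 ⟨V, hV⟩ s).1 (Subsingleton.elim _ _)
    rwa [zero_add, pow_one] at h1
  haveI := QCoh.finite_sections_of_isFiniteType M hV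
  obtain ⟨r, hr1, hr0⟩ := Submodule.exists_sub_one_mem_and_smul_eq_zero_of_fg_of_le_smul J ⊤
    Module.Finite.fg_top htop
  have hJx : ∀ b ∈ J, x ∉ Z.basicOpen b := by
    intro b hb
    have h1 : J ≤ (hV.primeIdealOf ⟨x, hxV⟩).asIdeal := by
      refine Ideal.map_le_iff_le_comap.mpr fun a ha => ?_
      have h2 : (Spec.map (CommRingCat.ofHom (FormalFun.gA (A := A) V))) (hV.primeIdealOf ⟨x, hxV⟩) = f x := by
        rw [← Basic.fromSpec_str hV, Scheme.Hom.comp_apply, hV.fromSpec_primeIdealOf]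
      have h3 : a ∈ ((Spec.map (CommRingCat.ofHom (FormalFun.gA (A := A) V)))
          (hV.primeIdealOf ⟨x, hxV⟩)).asIdeal := by rw [h2]; exact hI ha
      exact h3
    intro hxb
    exact (CycLib.not_mem_primeIdealOf_iff hV hxV b).2 ((Z.mem_basicOpen b x hxV).1 hxb) (h1 hb)
  have hxr : x ∈ Z.basicOpen r := by
    rw [Z.mem_basicOpen r x hxV]
    refine (CycLib.not_mem_primeIdealOf_iff hV hxV r).1 fun hr => ?_
    have h1 : (hV.primeIdealOf ⟨x, hxV⟩).asIdeal ≠ ⊤ := (hV.primeIdealOf ⟨x, hxV⟩).2.ne_top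
    refine h1 ((Ideal.eq_top_iff_one _).2 ?_)
    have h2 : r - 1 ∈ (hV.primeIdealOf ⟨x, hxV⟩).asIdeal := by
      by_contra hn
      exact hJx _ hr1 ((Z.mem_basicOpen _ x hxV).2 ((CycLib.not_mem_primeIdealOf_iff hV hxV _).1 hn))
    simpa using sub_mem hr h2
  refine not_mem_support (Z.basicOpen r) (fun W hW s => ?_) x hxr hxM
  haveI hsub : Subsingleton Γ(M, Z.basicOpen r) := subsingleton_of_forall_eq 0 fun t => by
    obtain ⟨k, t', ht'⟩ := (QCoh.isLocalizingAt M hV r).surj t
    have hu : IsUnit (QCoh.rres (Z.basicOpen_le r) r) := Z.toRingedSpace.isUnit_res_basicOpen r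
    refine ((hu.pow (k + 1)).smul_eq_zero).mp ?_
    rw [pow_succ', mul_smul, ← ht', ← QCoh.res_smul, hr0 t' trivial, map_zero]
  obtain ⟨W', hW'⟩ : ∃ W' : Z.Opens, W' = Z.basicOpen r := ⟨_, rfl⟩
  refine FormalFun.section_eq_zero M s fun y hy => ?_
  refine subsingleton_of_forall_eq 0 fun t => ?_
  obtain ⟨O, hyO, t₀, rfl⟩ := M.presheaf.exists_germ_eq t
  obtain ⟨g, hg, hyg⟩ := hV.exists_basicOpen_le (V := O ⊓ Z.basicOpen r) ⟨y, hyO, hW hy⟩ (Z.basicOpen_le r (hW hy))
  rw [← TopCat.Presheaf.germ_res_apply M.presheaf (homOfLE (hg.trans inf_le_left)) y hyg t₀]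
  obtain ⟨k, t', ht'⟩ := (QCoh.isLocalizingAt M hV g).surj (QCoh.res M (hg.trans inf_le_left) t₀)
  have h0 : QCoh.res M (Z.basicOpen_le g) t' = 0 := by
    rw [← QCoh.res_res M (Z.basicOpen_le r) (hg.trans inf_le_right), Subsingleton.elim (QCoh.res M (Z.basicOpen_le r) t') 0,
      map_zero]
  have hu : IsUnit (QCoh.rres (Z.basicOpen_le g) g) := Z.toRingedSpace.isUnit_res_basicOpen g
  have h4 : QCoh.res M (hg.trans inf_le_left) t₀ = 0 := ((hu.pow k).smul_eq_zero).mp (ht'.symm.trans h0)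
  exact (congrArg (M.presheaf.germ (Z.basicOpen g) y hyg) h4).trans (map_zero _)

theorem exists_algebraization [IsAdicComplete I A] {X : Scheme.{u}} [X.Over (Spec (CommRingCat.of A))]
    [IsSeparated (X ↘ Spec (CommRingCat.of A))] [LocallyOfFiniteType (X ↘ Spec (CommRingCat.of A))]
    [QuasiCompact (X ↘ Spec (CommRingCat.of A))] {G : ℕᵒᵖ ⥤ X.Modules} (hG : Formal.IsCohFormal I G)
    (hGs : ClSub.IsProperOver (X ↘ Spec (CommRingCat.of A)) (CohB1.support (G.obj (op 0)))) :
    ∃ M : X.Modules, Coh.IsCoh M ∧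
      ClSub.IsProperOver (X ↘ Spec (CommRingCat.of A)) (CohB1.support M) ∧
      Nonempty (Formal.completion I M ≅ G) := by
  obtain ⟨Z, j, g, hj, hjq, hg, hjg⟩ := Groth.Agent.S0384.result (X ↘ Spec (CommRingCat.of A))
  haveI := hj
  haveI := hjq
  letI : Z.Over (Spec (CommRingCat.of A)) := ⟨g⟩
  haveI : IsProper (Z ↘ Spec (CommRingCat.of A)) := hg
  haveI := FormalFun.isLocallyNoetherian_of_proper A Z
  haveI := FormalFun.compactSpace_of_proper A Z
  haveI : IsNoetherian Z := ⟨⟩
  haveI : IsLocallyNoetherian X := LocallyOfFiniteType.isLocallyNoetherian (X ↘ Spec (CommRingCat.of A))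
  haveI : CompactSpace X := QuasiCompact.compactSpace_of_compactSpace (X ↘ Spec (CommRingCat.of A))
  haveI : IsNoetherian X := ⟨⟩
  let T := CohB1.support (G.obj (op 0))
  -- `T` is closed in the compactification
  have hTcl : IsClosed (j '' T) := by
    let i := EtShriekLib.redι hGs.1
    haveI : IsProper ((i ≫ j) ≫ g) := by
      rw [Category.assoc, hjg]
      exact EtShriekLib.isProper_redι (X ↘ Spec (CommRingCat.of A)) hGs
    haveI : IsProper (i ≫ j) := IsProper.of_comp (i ≫ j) g
    have h1 : Set.range (i ≫ j) = j '' T :=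
      (Set.range_comp j i).trans (congrArg (Set.image j) (EtShriekLib.range_redι hGs.1))
    exact h1 ▸ (i ≫ j).isClosedMap.isClosed_range
  have hs : ∀ n, CohB1.support (G.obj (op n)) ⊆ T := support_le hG
  have hjg' : j ≫ (Z ↘ Spec (CommRingCat.of A)) = X ↘ Spec (CommRingCat.of A) := hjg
  obtain ⟨M₀, hM₀, ⟨e₀⟩⟩ := Exist.exists_algebraization (X := Z) (isCohFormal_push (A := A) (Z := Z) j hTcl hjg' hG hs)
  let jp := Scheme.Modules.pullback j
  let adj := Scheme.Modules.pullbackPushforwardAdjunction j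
  haveI hiso : ∀ N, IsIso (adj.counit.app N) := fun N => inferInstance
  let q : ∀ n, jp.obj M₀ ⟶ G.obj (op n) := fun n =>
    jp.map (cπ I M₀ n ≫ e₀.hom.app (op n)) ≫ adj.counit.app (G.obj (op n))
  have hq : ∀ n, Formal61.Sys.IsModQuot (I ^ (n + 1)) (q n) := fun n =>
    QuotLem.comp_iso (Formal61.Pullback.isModQuot_pullback j hjg'
      (QuotLem.comp_iso (Formal61.Sys.isModQuot_modPowπ I (n + 1) M₀) (e₀.app (op n))))
      (@asIso _ _ _ _ (adj.counit.app (G.obj (op n))) (hiso _))
  have hq' : ∀ n, q (n + 1) ≫ tr1 G n = q n := fun n => by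
    have h1 : (cπ I M₀ (n + 1) ≫ e₀.hom.app (op (n + 1))) ≫ (Scheme.Modules.pushforward j).map (tr1 G n) =
        cπ I M₀ n ≫ e₀.hom.app (op n) :=
      (Category.assoc _ _ _).trans ((congrArg (_ ≫ ·) (e₀.hom.naturality _).symm).trans
        ((Category.assoc _ _ _).symm.trans (congrArg (· ≫ _) (cπ_trM M₀ (Nat.le_succ n)))))
    refine (Category.assoc _ _ _).trans ((congrArg (_ ≫ ·) (adj.counit.naturality (tr1 G n)).symm).trans ?_)
    refine (Category.assoc _ _ _).symm.trans (congrArg (· ≫ _) ?_)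
    exact (jp.map_comp _ _).symm.trans (congrArg jp.map h1)
  have hM : Coh.IsCoh (jp.obj M₀) := ZClosLib.CohDescent.isCoh_pullback j _ hM₀
  obtain ⟨eM, -⟩ := Formal61.Sys.exists_completion_iso (jp.obj M₀) q hq hq'
  refine ⟨jp.obj M₀, hM, ?_, ⟨eM⟩⟩
  haveI := hM₀.1
  haveI := hM.1
  -- the support
  have h0 : CohB1.support ((Formal.completion I M₀).obj (op 0)) ⊆ j.opensRange := by
    refine (FormalFun.support_subset_of_mono (e₀.hom.app (op 0))).trans fun z hz => ?_
    by_contra hn
    refine not_mem_support (⟨_, hTcl.isOpen_compl⟩ : Z.Opens) (fun V hV s => ?_) z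
      (fun hzT => hn (Set.image_subset_range _ _ hzT)) hz
    haveI : Subsingleton Γ((G ⋙ Scheme.Modules.pushforward j).obj (op 0), V.1) :=
      subsingleton_push j (M := G.obj (op 0)) (hs 0) (V := V.1) fun y hy => hV hy
    exact Subsingleton.elim _ _
  have hsM := support_le_of_reduction hM₀ j.opensRange h0
  have hcl : IsClosed (CohB1.support M₀) := by
    convert CycLib.isClosed_support M₀ hM₀ using 1
    ext y
    exact not_subsingleton_iff_nontrivial
  let C : Set X := j ⁻¹' CohB1.support M₀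
  have hC : IsClosed C := hcl.preimage j.continuous
  have hCp : ClSub.IsProperOver (X ↘ Spec (CommRingCat.of A)) C := by
    refine ⟨hC, ?_⟩
    let i := EtShriekLib.redι hC
    show IsProper (i ≫ (X ↘ Spec (CommRingCat.of A)))
    haveI : IsClosedImmersion (i ≫ j) := IsClosedImmersion.of_isPreimmersion (i ≫ j) (by
      have h1 : Set.range (i ≫ j) = j '' C :=
        (Set.range_comp j i).trans (congrArg (Set.image j) (EtShriekLib.range_redι hC))
      have h2 : j '' C = CohB1.support M₀ := Set.image_preimage_eq_of_subset hsM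
      rw [h1, h2]
      exact hcl)
    have h3 : IsProper ((i ≫ j) ≫ g) := inferInstance
    rwa [Category.assoc, hjg] at h3
  refine EtShriekLib.ipo_mono _ hCp ?_ ?_
  · convert CycLib.isClosed_support (jp.obj M₀) hM using 1
    ext y
    exact not_subsingleton_iff_nontrivial
  · intro x hx
    by_contra hn
    refine not_mem_support (M := jp.obj M₀) (⟨_, hC.isOpen_compl⟩ : X.Opens) (fun V hV s => ?_) x hn hx
    haveI : Subsingleton Γ((Scheme.Modules.restrictFunctor j).obj M₀, V.1) :=
      subsingleton_sections (M := M₀) (V := j ''ᵁ V.1) fun y hy hy' => by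
        obtain ⟨w, hw, rfl⟩ := hy
        exact hV hw hy'
    exact QCoh.app_injective_of_mono ((Scheme.Modules.restrictFunctorIsoPullback j).app M₀).inv V.1
      (Subsingleton.elim _ _)

end Groth.Agent.FormalExist.ProperSupp
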