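import Groth.Agent.Formal61.Sys
import Groth.Agent.FormalFun.Powers

/-!
# `IsModQuot` and isomorphisms
-/

set_option autoImplicit false

universe u

open CategoryTheory Limits AlgebraicGeometry Opposite
open Groth.Agent

noncomputable section

namespace Groth.Agent.FormalExist.QuotLem

variable {A : Type u} [CommRing A] {X : Scheme.{u}} [X.Over (Spec (CommRingCat.of A))] {J : Ideal A}
  {M M' N N' : X.Modules}

theorem comp_iso {π : M ⟶ N} (hπ : Formal61.Sys.IsModQuot J π) (e : N ≅ N') :
    Formal61.Sys.IsModQuot J (π ≫ e.hom) := by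
  haveI := hπ.epi
  haveI : Epi (π ≫ e.hom) := epi_comp _ _
  refine Formal61.Sys.IsModQuot.mk' (fun a ha => ?_) fun Z v hv => ?_
  · rw [← Category.assoc, hπ.condition a ha, zero_comp]
  · obtain ⟨w, hw⟩ := hπ.exists_desc v hv
    exact ⟨e.inv ≫ w, by rw [Category.assoc, Iso.hom_inv_id_assoc, hw]⟩

theorem iso_comp {π : M ⟶ N} (hπ : Formal61.Sys.IsModQuot J π) (e : M' ≅ M) :
    Formal61.Sys.IsModQuot J (e.hom ≫ π) := by
  haveI := hπ.epi
  haveI : Epi (e.hom ≫ π) := epi_comp _ _
  refine Formal61.Sys.IsModQuot.mk' (fun a ha => ?_) fun Z v hv => ?_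
  · rw [← Category.assoc, FormalFun.smulMod_natural, Category.assoc, hπ.condition a ha, comp_zero]
  · obtain ⟨w, hw⟩ := hπ.exists_desc (e.inv ≫ v) fun a ha => by
      rw [← Category.assoc, FormalFun.smulMod_natural, Category.assoc, hv a ha, comp_zero]
    exact ⟨w, by rw [Category.assoc, hw, Iso.hom_inv_id_assoc]⟩

end Groth.Agent.FormalExist.QuotLem
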