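import Groth.Agent.FormalExist.Tricky
import Groth.Agent.Formal61.Pullback
import Groth.Agent.ProperFin.FiniteMap
import Groth.Agent.FormalExist.QuotLem

/-!
# Algebraization of formal modules living on a closed subscheme
-/

set_option autoImplicit false

universe u

open CategoryTheory Limits AlgebraicGeometry Opposite TopologicalSpace
open Groth.Agent

noncomputable section

namespace Groth.Agent.FormalExist.ClosedLift

variable {A : Type u} [CommRing A] {Z W : Scheme.{u}} [Z.Over (Spec (CommRingCat.of A))]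
  [W.Over (Spec (CommRingCat.of A))] {I : Ideal A} (j : W ⟶ Z)

/-- `j_*` of a module in `J • ⊤`. -/
theorem mem_push_smul (M : W.Modules) (V : Z.Opens) (J : Ideal Γ(Z, V)) {x : Γ(M, j ⁻¹ᵁ V)}
    (hx : x ∈ (J.map (j.app V).hom) • (⊤ : Submodule Γ(W, j ⁻¹ᵁ V) Γ(M, j ⁻¹ᵁ V))) :
    (show Γ((Scheme.Modules.pushforward j).obj M, V) from x) ∈
      J • (⊤ : Submodule Γ(Z, V) Γ((Scheme.Modules.pushforward j).obj M, V)) := by
  refine Submodule.smul_induction_on hx (fun r hr m _ => ?_) fun s t hs ht => add_mem hs ht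
  induction hr using Submodule.span_induction generalizing m with
  | mem r hr =>
    obtain ⟨a, ha, rfl⟩ := hr
    rw [← ProperFin.push_smul' j M a m]
    exact Submodule.smul_mem_smul ha trivial
  | zero => rw [zero_smul]; exact zero_mem _
  | add r s _ _ hr hs => rw [add_smul]; exact add_mem (hr m trivial) (hs m trivial)
  | smul c r _ hr =>
    rw [smul_eq_mul, mul_comm, mul_smul]
    exact hr (c • m) trivial

variable [IsClosedImmersion j] [AlgebraicGeometry.IsNoetherian Z]

theorem killed_push (M : W.Modules) : ClSub.KilledByIdeal j.ker ((Scheme.Modules.pushforward j).obj M) := by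
  intro U a ha m
  rw [Scheme.Hom.ker_apply, RingHom.mem_ker] at ha
  exact (ProperFin.push_smul' j M a m).trans
    ((congrArg (· • (show Γ(M, j ⁻¹ᵁ U.1) from m)) ha).trans (zero_smul _ _))

/-- A formal module killed by the ideal of a closed subscheme is algebraizable if its restriction is. -/
theorem exists_of_closed (hj : j ≫ (Z ↘ Spec (CommRingCat.of A)) = W ↘ Spec (CommRingCat.of A))
    {G : ℕᵒᵖ ⥤ Z.Modules} (hG : Formal.IsCohFormal I G) (hk : ∀ n, ClSub.KilledByIdeal j.ker (G.obj (op n)))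
    {MW : W.Modules} (hMW : Coh.IsCoh MW)
    (e : Formal.completion I MW ≅ G ⋙ Scheme.Modules.pullback j) :
    ∃ M : Z.Modules, Coh.IsCoh M ∧ ClSub.KilledByIdeal j.ker M ∧ Nonempty (Formal.completion I M ≅ G) := by
  let adj := Scheme.Modules.pullbackPushforwardAdjunction j
  haveI hi : ∀ n, IsIso (adj.unit.app (G.obj (op n))) := fun n =>
    (ClUnit.isIso_unit_iff j _).mpr fun V a ha s => hk n V a ha s
  let M := (Scheme.Modules.pushforward j).obj MW
  have hM : Coh.IsCoh M := ProperFin.isCoh_push_of_isFinite j _ hMW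
  haveI := hMW.1
  haveI := hM.1
  let p : ∀ n, MW ⟶ (Scheme.Modules.pullback j).obj (G.obj (op n)) := fun n =>
    Formal.modPowπ I (n + 1) MW ≫ e.hom.app (op n)
  let q : ∀ n, M ⟶ G.obj (op n) := fun n => (Scheme.Modules.pushforward j).map (p n) ≫ inv (adj.unit.app _)
  have hp : ∀ n, Formal61.Sys.IsModQuot (I ^ (n + 1)) (p n) := fun n =>
    QuotLem.comp_iso (Formal61.Sys.isModQuot_modPowπ I (n + 1) MW) (e.app (op n))
  have hqη : ∀ n, q n ≫ adj.unit.app (G.obj (op n)) = (Scheme.Modules.pushforward j).map (p n) := fun n => by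
    rw [Category.assoc, IsIso.inv_hom_id]
    exact Category.comp_id _
  have hqc : ∀ n, q (n + 1) ≫ G.map (homOfLE (Nat.le_succ n)).op = q n := fun n => by
    haveI : Mono (adj.unit.app (G.obj (op n))) := inferInstance
    rw [← cancel_mono (adj.unit.app (G.obj (op n))), hqη, Category.assoc]
    refine (congrArg (q (n + 1) ≫ ·) (adj.unit.naturality _)).trans ?_
    refine (Category.assoc _ _ _).symm.trans ((congrArg (· ≫ _) (hqη (n + 1))).trans ?_)
    refine ((Scheme.Modules.pushforward j).map_comp _ _).symm.trans (congrArg _ ?_)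
    refine (Category.assoc _ _ _).trans ((congrArg (_ ≫ ·) (e.hom.naturality _).symm).trans ?_)
    exact (Category.assoc _ _ _).symm.trans (congrArg (· ≫ _)
      (Formal61.Sys.modPowπ_comp_completion_map I MW (Nat.le_succ n)))
  haveI hepi : ∀ n, Epi (q n) := fun n => by
    haveI := (hG.1 n).1
    refine Tricky.epi_of_affine (q n) fun V g => ?_
    haveI : ((Scheme.Modules.pullback j).obj (G.obj (op n))).IsQuasicoherent :=
      (ZClosLib.CohDescent.isCoh_pullback j _ (hG.1 n)).1
    haveI := (hp n).epi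
    obtain ⟨x, hx⟩ := QCoh.app_surjective_of_epi (p n) (V.2.preimage j)
      (show Γ((Scheme.Modules.pullback j).obj (G.obj (op n)), j ⁻¹ᵁ V.1) from
        (adj.unit.app (G.obj (op n))).app V.1 g)
    refine ⟨x, QCoh.app_injective_of_mono (adj.unit.app (G.obj (op n))) V.1 ?_⟩
    exact (FormalFun.app_comp _ _ _ _).symm.trans
      ((congrArg (fun φ => Scheme.Modules.Hom.app φ V.1 x) (hqη n)).trans hx)
  have hq : ∀ n, Formal61.Sys.IsModQuot (I ^ (n + 1)) (q n) := fun n => by
    refine Formal61.Sys.IsModQuot.mk' ((Formal61.Sys.smulFamily_comp_eq_zero_iff _).1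
      (Formal61.Sys.comp_eq_zero_of_killedBy (hG.2.1 n) _)) fun T v hv => ?_
    obtain ⟨v', hv'⟩ := (Formal61.Sys.isModQuot_modPowπ I (n + 1) M).exists_desc v hv
    have hz : kernel.ι (q n) ≫ Formal.modPowπ I (n + 1) M = 0 := by
      haveI := (CohDev.isCoh_kernel (q n) hM (hG.1 n).1).1
      refine QCohGen.Noeth.eq_zero_of_cover _ fun y => ?_
      obtain ⟨V, hV, hyV, -⟩ := exists_isAffineOpen_mem_and_subset (X := Z) (Opens.mem_top y)
      refine ⟨⟨V, hV⟩, hyV, fun w => ?_⟩
      rw [FormalFun.app_comp, IdealQuot.modPowπ_app_eq_zero_iff I (n + 1) M hV]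
      let x : Γ(MW, j ⁻¹ᵁ V) := (kernel.ι (q n)).app V w
      have hx : (p n).app (j ⁻¹ᵁ V) x = 0 := by
        have h0 : kernel.ι (q n) ≫ (Scheme.Modules.pushforward j).map (p n) = 0 :=
          ((congrArg (fun ψ => kernel.ι (q n) ≫ ψ) (hqη n).symm).trans
            ((Category.assoc (kernel.ι (q n)) (q n) (adj.unit.app (G.obj (op n)))).symm)).trans
            ((congrArg (fun ψ => ψ ≫ adj.unit.app (G.obj (op n))) (kernel.condition (q n))).trans zero_comp)
        have h1 := FormalFun.app_comp (kernel.ι (q n)) ((Scheme.Modules.pushforward j).map (p n)) V w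
        rw [h0] at h1
        exact h1.symm.trans rfl
      have h2 := (Tricky.app_eq_zero_iff (hp n) ⟨j ⁻¹ᵁ V, hV.preimage j⟩ x).mp hx
      have h3 : (I.map (FormalFun.gA (A := A) (j ⁻¹ᵁ V))) ^ (n + 1) =
          ((I.map (FormalFun.gA (A := A) V)) ^ (n + 1)).map (j.app V).hom := by
        rw [Ideal.map_pow, Ideal.map_map]
        refine congrArg (fun φ => Ideal.map φ I ^ (n + 1)) ?_
        exact RingHom.ext fun a => (Formal61.Pullback.gA_comp j hj V a).symm
      exact mem_push_smul j MW V _ (h3 ▸ h2)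
    refine ⟨Abelian.epiDesc (q n) _ hz ≫ v', ?_⟩
    rw [← Category.assoc, Abelian.comp_epiDesc, hv']
  obtain ⟨eM, -⟩ := Formal61.Sys.exists_completion_iso M q hq hqc
  exact ⟨M, hM, killed_push j MW, ⟨eM⟩⟩

end Groth.Agent.FormalExist.ClosedLift
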