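import Groth.Agent.FormalExist.Step
import Groth.Agent.FormalExist.ClosedLift
import Groth.Agent.ProjProper.Basic
import Groth.Agent.ProjMorph.Ample
import Groth.Agent.S0025

/-!
# Algebraization of coherent formal modules on schemes proper over a complete base
-/

set_option autoImplicit false

universe u

open CategoryTheory Limits AlgebraicGeometry Opposite TopologicalSpace
open Groth.Agent

noncomputable section

namespace Groth.Agent.FormalExist.Exist

variable {A : Type u} [CommRing A] [IsNoetherianRing A] {I : Ideal A}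

theorem of_isEmpty {Z : Scheme.{u}} [Z.Over (Spec (CommRingCat.of A))] [IsEmpty Z] {G : ℕᵒᵖ ⥤ Z.Modules}
    (hG : Formal.IsCohFormal I G) : ∃ M : Z.Modules, Coh.IsCoh M ∧ Nonempty (Formal.completion I M ≅ G) := by
  refine ⟨G.obj (op 0), hG.1 0, Formal61.Sys.exists_completion_iso_of_killedBy_pow hG.2.1 hG.2.2 (c := 0)
    fun n a _ => ?_⟩
  haveI := (hG.1 n).1
  exact QCohGen.Noeth.eq_zero_of_cover _ fun x => isEmptyElim x

theorem exists_algebraization [IsAdicComplete I A] {X : Scheme.{u}} [X.Over (Spec (CommRingCat.of A))]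
    [IsProper (X ↘ Spec (CommRingCat.of A))] {G : ℕᵒᵖ ⥤ X.Modules} (hG : Formal.IsCohFormal I G) :
    ∃ M : X.Modules, Coh.IsCoh M ∧ Nonempty (Formal.completion I M ≅ G) := by
  haveI := FormalFun.isLocallyNoetherian_of_proper A X
  haveI := FormalFun.compactSpace_of_proper A X
  haveI : IsNoetherian X := ⟨⟩
  suffices key : ∀ (T : Closeds X) (Z : Scheme.{u}) [Z.Over (Spec (CommRingCat.of A))] (i : Z ⟶ X)
      [IsClosedImmersion i], i ≫ (X ↘ Spec (CommRingCat.of A)) = Z ↘ Spec (CommRingCat.of A) →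
      Set.range i ⊆ T → ∀ G : ℕᵒᵖ ⥤ Z.Modules, Formal.IsCohFormal I G →
        ∃ M : Z.Modules, Coh.IsCoh M ∧ Nonempty (Formal.completion I M ≅ G) from
    key ⊤ X (𝟙 X) (Category.id_comp _) (fun _ _ => trivial) G hG
  intro T
  induction T using (wellFounded_lt (α := Closeds X)).induction with
  | _ T IH =>
  intro Z _ i _ hi hT G hG
  rcases isEmpty_or_nonempty Z with hZ | hZ
  · exact of_isEmpty hG
  haveI : IsProper (Z ↘ Spec (CommRingCat.of A)) := hi ▸ inferInstance
  haveI := FormalFun.isLocallyNoetherian_of_proper A Z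
  haveI := FormalFun.compactSpace_of_proper A Z
  haveI : IsNoetherian Z := ⟨⟩
  obtain ⟨n, Z', π, j, hj, hjw, hπ, -, U, hU, hUiso⟩ := Groth.Agent.S0025.result (Z ↘ Spec (CommRingCat.of A))
  haveI := hj
  haveI := hπ
  haveI := hUiso
  letI iZ' : Z'.Over (Spec (CommRingCat.of A)) := ⟨π ≫ (Z ↘ Spec (CommRingCat.of A))⟩
  haveI hp' : IsProper (π ≫ (Z ↘ Spec (CommRingCat.of A))) := inferInstance
  haveI : IsProper (Z' ↘ Spec (CommRingCat.of A)) := hp'
  haveI := ProjProper.Basic.isProper_toBase n (Spec (CommRingCat.of A))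
  haveI : IsProper (j ≫ CohB1.ProjSpaceOver.toBase n (Spec (CommRingCat.of A))) := hjw ▸ hp'
  haveI : IsProper j := IsProper.of_comp j (CohB1.ProjSpaceOver.toBase n (Spec (CommRingCat.of A)))
  haveI : IsClosedImmersion j := IsClosedImmersion.of_isPreimmersion j (j.isClosedMap.isClosed_range)
  haveI : IsAffineHom (specULiftZIsTerminal.from (Spec (CommRingCat.of A))) := isAffineHom_of_isAffine _
  have hfst : IsAffineHom (pullback.fst (CohB1.ProjSpace.toSpec n (ULift.{u} ℤ))
      (specULiftZIsTerminal.from (Spec (CommRingCat.of A)))) := MorphismProperty.pullback_fst _ _ inferInstance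
  have hp : IsAffineHom (j ≫ pullback.fst (CohB1.ProjSpace.toSpec n (ULift.{u} ℤ))
      (specULiftZIsTerminal.from (Spec (CommRingCat.of A)))) :=
    MorphismProperty.comp_mem _ _ _ (inferInstanceAs (IsAffineHom j)) hfst
  obtain ⟨F', hF', ⟨eF⟩⟩ := Proj.algebraize (X := Z') (I := I)
    (ProjMorph.isAmple_pullback_twist_of_isAffineHom _ hp) (G ⋙ Scheme.Modules.pullback π)
    (Formal61.Pullback.isCohFormal_pullback π rfl hG)
  obtain ⟨α, v, hv, hα⟩ := Alpha.exists_alpha π rfl hG hF' eF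
  obtain ⟨e, he⟩ := Step.exists_killed π I rfl hG hF' eF α v hv hα U
  have hyp : Tricky.Hyp I (Step.cK U) := by
    intro m
    refine ⟨fun M N hM hN _ _ ψ => Groth.Agent.S0060.result A I Z M N hM hN ψ, fun G₁ hG₁ hk₁ => ?_⟩
    let K := Step.cK U ^ m
    let c := K.subschemeι
    have hc : Set.range c ⊆ (U : Set Z)ᶜ := by
      rw [Scheme.IdealSheafData.range_subschemeι]
      rcases Nat.eq_zero_or_pos m with rfl | hm
      · intro z hz
        simp only [K, pow_zero] at hz
        exact (Scheme.IdealSheafData.support_top (X := Z) ▸ hz : z ∈ ((⊥ : Closeds Z) : Set Z)).elim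
      · simp only [K]
        rw [Scheme.IdealSheafData.support_pow _ _ hm.ne', Step.cK, Scheme.IdealSheafData.coe_support_vanishingIdeal]
        exact subset_rfl
    let T' : Closeds X := ⟨i '' (U : Set Z)ᶜ, i.isClosedEmbedding.isClosedMap _ U.2.isClosed_compl⟩
    have hlt : T' < T := by
      refine lt_of_le_of_ne (fun x ⟨z, _, hz⟩ => hz ▸ hT ⟨z, rfl⟩) fun heq => ?_
      obtain ⟨z, hz⟩ := hU.nonempty
      obtain ⟨z', hz', hzz⟩ := (SetLike.ext_iff.1 heq (i z)).2 (hT ⟨z, rfl⟩)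
      exact hz' (i.isClosedEmbedding.injective hzz ▸ hz)
    letI : K.subscheme.Over (Spec (CommRingCat.of A)) := ⟨c ≫ (Z ↘ Spec (CommRingCat.of A))⟩
    obtain ⟨MW, hMW, ⟨eW⟩⟩ := IH T' hlt K.subscheme (c ≫ i) (by rw [Category.assoc, hi]; rfl)
      (by rintro x ⟨w, rfl⟩; exact ⟨c w, hc ⟨w, rfl⟩, rfl⟩)
      (G₁ ⋙ Scheme.Modules.pullback c) (Formal61.Pullback.isCohFormal_pullback c rfl hG₁)
    have hker : c.ker = Step.cK U ^ m := Scheme.IdealSheafData.ker_subschemeι _
    obtain ⟨M, hM, hMk, hMe⟩ := ClosedLift.exists_of_closed c rfl hG₁ (fun n => hker.symm ▸ hk₁ n) hMW eW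
    exact ⟨M, hM, hker ▸ hMk, hMe⟩
  obtain ⟨M, -, β, hM, -, -⟩ := Tricky.main (Step.cK U) hG hyp (Alpha.isCoh_push π hF') α e
    (fun n => (he n).1) fun n => (he n).2
  exact ⟨M, hM, ⟨β.symm⟩⟩

end Groth.Agent.FormalExist.Exist
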