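import Groth.Agent.FormalExist.Tricky

/-!
# The hypotheses of `Tricky.main` for the ideal sheaf `I O_X`
-/

set_option autoImplicit false

universe u

open CategoryTheory Limits AlgebraicGeometry Opposite TopologicalSpace
open Groth.Agent

noncomputable section

namespace Groth.Agent.FormalExist.Base

open IdealQuot Tricky

variable {A : Type u} [CommRing A] {X : Scheme.{u}} [X.Over (Spec (CommRingCat.of A))] {I : Ideal A}

theorem pow_ideal (e : ℕ) (W : X.affineOpens) :
    ((baseIdeal X I) ^ e).ideal W = (I ^ e).map (FormalFun.gA (A := A) W.1) := by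
  rw [Ideal.map_pow, ← baseIdeal_ideal]
  simp [Scheme.IdealSheafData.ideal_pow]

theorem killed_of_killedBy {e : ℕ} {M : X.Modules} (h : Formal.KilledBy (I ^ e) M) :
    ClSub.KilledByIdeal ((baseIdeal X I) ^ e) M := by
  intro W r hr m
  rw [pow_ideal] at hr
  induction hr using Submodule.span_induction with
  | mem r hr =>
    obtain ⟨a, ha, rfl⟩ := hr
    refine (FormalFun.smulMod_app M a W.1 m).symm.trans ?_
    rw [h a ha]
    rfl
  | zero => exact zero_smul _ _
  | add r s _ _ hr hs => rw [add_smul, hr, hs, add_zero]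
  | smul s r _ hr => rw [smul_eq_mul, mul_smul, hr, smul_zero]

theorem killedBy_of_killed {e : ℕ} {M : X.Modules} (hM : Coh.IsQCoh M)
    (h : ClSub.KilledByIdeal ((baseIdeal X I) ^ e) M) : Formal.KilledBy (I ^ e) M := by
  haveI : M.IsQuasicoherent := hM
  intro a ha
  refine QCohGen.Noeth.eq_zero_of_cover _ fun x => ?_
  obtain ⟨W, hW, hx, -⟩ := exists_isAffineOpen_mem_and_subset (X := X) (Opens.mem_top x)
  refine ⟨⟨W, hW⟩, hx, fun m => ?_⟩
  rw [FormalFun.smulMod_app]
  exact h ⟨W, hW⟩ _ ((pow_ideal (A := A) (I := I) e ⟨W, hW⟩).symm ▸ Ideal.mem_map_of_mem _ ha) m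

variable [AlgebraicGeometry.IsNoetherian X]

theorem hyp (I : Ideal A) : Tricky.Hyp I (baseIdeal X I) := by
  intro e
  refine ⟨fun M N hM hN hMk hNk ψ => ?_, fun G hG hGk => ?_⟩
  · have hM' := killedBy_of_killed hM.1 hMk
    have hN' := killedBy_of_killed hN.1 hNk
    have iso : ∀ (P : X.Modules) (_ : Formal.KilledBy (I ^ e) P) (n : ℕ), e ≤ n + 1 →
        IsIso (cπ I P n) := fun P hP n hn =>
      (Formal61.Sys.isModQuot_modPowπ I (n + 1) P).isIso
        (Formal61.Sys.killedBy_mono (Ideal.pow_le_pow_right hn) hP)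
    haveI := iso N hN' e (Nat.le_succ e)
    refine ⟨cπ I M e ≫ ψ.app (op e) ≫ inv (cπ I N e), fun n => ?_, fun φ hφ => ?_⟩
    · have hnat : ∀ {a b : ℕ} (h : a ≤ b),
          cπ I M b ≫ ψ.app (op b) ≫ trM (Formal.completion I N) h = cπ I M a ≫ ψ.app (op a) := fun {a b} h => by
        rw [← ψ.naturality]
        exact (Category.assoc _ _ _).symm.trans (congrArg (· ≫ _) (cπ_trM M h))
      show cπ I M n ≫ ψ.app (op n) = (cπ I M e ≫ ψ.app (op e) ≫ inv (cπ I N e)) ≫ cπ I N n
      haveI := iso N hN' (max n e) ((le_max_right n e).trans (Nat.le_succ _))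
      let φ' := cπ I M (max n e) ≫ ψ.app (op (max n e)) ≫ inv (cπ I N (max n e))
      have h1 : φ' ≫ cπ I N (max n e) = cπ I M (max n e) ≫ ψ.app (op (max n e)) := by
        simp only [φ', Category.assoc, IsIso.inv_hom_id, Category.comp_id]
      have h2 : cπ I M e ≫ ψ.app (op e) ≫ inv (cπ I N e) = φ' := by
        rw [← cancel_mono (cπ I N e), Category.assoc, Category.assoc, IsIso.inv_hom_id, Category.comp_id,
          ← cπ_trM N (le_max_right n e), reassoc_of% h1, hnat]
      rw [h2, ← cπ_trM N (le_max_left n e), reassoc_of% h1, hnat]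
    · rw [← cancel_mono (cπ I N e), Category.assoc, Category.assoc, IsIso.inv_hom_id, Category.comp_id]
      exact (hφ e).symm
  · obtain ⟨iso⟩ := Formal61.Sys.exists_completion_iso_of_killedBy_pow (c := e) hG.2.1 hG.2.2
      fun n => killedBy_of_killed (hG.1 n).1 (hGk n)
    exact ⟨G.obj (op e), hG.1 e, hGk e, ⟨iso⟩⟩

end Groth.Agent.FormalExist.Base
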