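import Groth.Agent.Adic.LimitSys
import Groth.Agent.RegLoc.Completion
import Mathlib.RingTheory.AdicCompletion.Completeness
import Mathlib.RingTheory.AdicCompletion.Algebra
import Mathlib.RingTheory.Filtration

/-!
# Artin–Rees for systems of modules over a Noetherian ring

A system `M (n+1) → M n` with kernels `J^(n+1) M (n+1)` over Noetherian `B` has a finite limit over the
completion of `B`; from it one gets uniform statements about the system.
-/

set_option autoImplicit false

universe u v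

open Submodule Groth.Agent

noncomputable section

namespace Groth.Agent.FormalExist.AffSys

variable {B : Type u} [CommRing B] (J : Ideal B)

local notation "R" => AdicCompletion J B

theorem exists_rep (r : R) (n : ℕ) :
    ∃ b : B, ∀ m ≤ n, AdicCompletion.evalₐ J m r = Ideal.Quotient.mk (J ^ m) b := by
  obtain ⟨s, rfl⟩ := AdicCompletion.mk_surjective J B r
  refine ⟨s.val n, fun m hm => ?_⟩
  rw [AdicCompletion.evalₐ_mk, Ideal.Quotient.eq]
  have := SModEq.sub_mem.mp (s.property hm)
  rw [smul_eq_mul, Ideal.mul_top] at this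
  exact this

variable {M : Type v} [AddCommGroup M] [Module B M] {n : ℕ}

/-- Modules killed by `J^n` are modules over the completion. -/
def act (hk : ∀ a ∈ J ^ n, ∀ x : M, a • x = 0) : R →+* Module.End B M :=
  (Ideal.Quotient.lift (J ^ n) (algebraMap B (Module.End B M))
    fun a ha => LinearMap.ext fun x => hk a ha x).comp (AdicCompletion.evalₐ J n).toRingHom

theorem act_eq (hk : ∀ a ∈ J ^ n, ∀ x : M, a • x = 0) {r : R} {b : B}
    (h : AdicCompletion.evalₐ J n r = Ideal.Quotient.mk (J ^ n) b) (x : M) : act J hk r x = b • x := by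
  rw [act, RingHom.comp_apply]
  erw [h, Ideal.Quotient.lift_mk]
  rfl

variable {Ms : ℕ → Type v} [∀ n, AddCommGroup (Ms n)] [∀ n, Module B (Ms n)]

theorem killed {f : ∀ n, Ms (n + 1) →ₗ[B] Ms n} (hs : ∀ n, Function.Surjective (f n))
    (hker : ∀ n, LinearMap.ker (f n) = J ^ (n + 1) • (⊤ : Submodule B (Ms (n + 1)))) (n : ℕ) (a : B)
    (ha : a ∈ J ^ (n + 1)) (x : Ms n) : a • x = 0 := by
  obtain ⟨y, rfl⟩ := hs n x
  rw [← map_smul, ← LinearMap.mem_ker, hker n]
  exact smul_mem_smul ha trivial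

/-- A family of elements compatible under the transition maps. -/
def IsCompat (f : ∀ n, Ms (n + 1) →ₗ[B] Ms n) (g : ∀ n, Ms n) : Prop := ∀ n, f n (g (n + 1)) = g n

theorem exists_compat {f : ∀ n, Ms (n + 1) →ₗ[B] Ms n} (hs : ∀ n, Function.Surjective (f n)) {n : ℕ} (x : Ms n) :
    ∃ g, IsCompat f g ∧ g n = x := by
  choose s hs using hs
  induction n with
  | zero => exact ⟨fun j => Nat.rec (motive := fun j => Ms j) x (fun j y => s j y) j, fun j => hs j _, rfl⟩
  | succ n ih =>
    obtain ⟨g, hg, hgn⟩ := ih (f n x)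
    classical
    let g' : ∀ j, Ms j := fun j => Nat.rec (motive := fun j => Ms j) (g 0)
      (fun j y => if h : j = n then cast (congrArg (fun t => Ms (t + 1)) h.symm) x else
        if j + 1 ≤ n then g (j + 1) else s j y) j
    have hlow : ∀ j ≤ n, g' j = g j := by
      intro j hj
      cases j with
      | zero => rfl
      | succ j =>
        show (if h : j = n then _ else if j + 1 ≤ n then g (j + 1) else _) = _
        rw [dif_neg (by omega), if_pos hj]
    have htop : g' (n + 1) = x := by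
      show (if h : n = n then _ else _) = _
      rw [dif_pos rfl]
      rfl
    refine ⟨g', fun j => ?_, htop⟩
    rcases lt_trichotomy j n with hj | rfl | hj
    · rw [hlow j hj.le, hlow (j + 1) hj]
      exact hg j
    · rw [hlow j le_rfl, htop, hgn]
    · show f j (if h : j = n then _ else if j + 1 ≤ n then g (j + 1) else s j (g' j)) = g' j
      rw [dif_neg (by omega), if_neg (by omega)]
      exact hs j _

/-- Uniform vanishing: elements of `b^k M (n+c)` killed by `b^e` die in `M n`. -/
theorem exists_die [IsNoetherianRing B] {f : ∀ n, Ms (n + 1) →ₗ[B] Ms n} (hs : ∀ n, Function.Surjective (f n))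
    (hker : ∀ n, LinearMap.ker (f n) = J ^ (n + 1) • (⊤ : Submodule B (Ms (n + 1))))
    (h0 : Module.Finite B (Ms 0)) (b : Ideal B) (e : ℕ) :
    ∃ k₀, ∀ k, k₀ ≤ k → ∃ c, ∀ n, ∀ g : ∀ j, Ms j, IsCompat f g →
      g (n + c) ∈ b ^ k • (⊤ : Submodule B (Ms (n + c))) → (∀ a ∈ b ^ e, a • g (n + c) = 0) → g n = 0 := by
  classical
  have hk := killed J hs hker
  letI : ∀ n, Module R (Ms n) := fun n => Module.compHom (Ms n) (act J (hk n))
  have hsmul : ∀ n (r : R) (x : Ms n), r • x = act J (hk n) r x := fun _ _ _ => rfl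
  haveI : ∀ n, IsScalarTower B R (Ms n) := fun n => IsScalarTower.of_algebraMap_smul fun a x => by
    rw [hsmul]
    exact act_eq J (hk n) (AlgHom.commutes (AdicCompletion.evalₐ J (n + 1)) a) x
  let fR : ∀ n, Ms (n + 1) →ₗ[R] Ms n := fun n =>
    { toFun := f n, map_add' := map_add _, map_smul' := fun r x => by
        obtain ⟨a, ha⟩ := exists_rep J r (n + 1 + 1)
        rw [RingHom.id_apply, hsmul, hsmul, act_eq J (hk (n + 1)) (ha _ le_rfl),
          act_eq J (hk n) (ha _ (Nat.le_succ _)), map_smul] }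
  let L : Submodule R (∀ n, Ms n) :=
    { carrier := {g | ∀ n, fR n (g (n + 1)) = g n}
      add_mem' := fun {a c} ha hc n => by rw [Pi.add_apply, map_add, ha n, hc n]; rfl
      zero_mem' := fun n => map_zero _
      smul_mem' := fun r g hg n => by rw [Pi.smul_apply, map_smul, hg n]; rfl }
  let π : ∀ n, L →ₗ[R] Ms n := fun n => (LinearMap.proj n).comp L.subtype
  let JR : Ideal R := J.map (algebraMap B R)
  let bR : Ideal R := b.map (algebraMap B R)
  have hJR : ∀ k n, ((JR ^ k • ⊤ : Submodule R (Ms n))).restrictScalars B = J ^ k • (⊤ : Submodule B (Ms n)) :=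
    fun k n => by rw [← Ideal.map_pow, Ideal.smul_restrictScalars, Submodule.restrictScalars_top]
  have hsys : Adic.LimSys R JR Ms fR L π :=
    { surj := hs
      ker_eq := fun n => Submodule.restrictScalars_injective B R _ (by
        rw [hJR, ← hker n]
        rfl)
      compat := fun n => LinearMap.ext fun x => x.2 n
      inj := fun x hx => Subtype.ext (funext hx)
      lift := fun y hy => ⟨⟨y, hy⟩, fun n => rfl⟩ }
  haveI : IsNoetherianRing R := RegLoc.Completion.isNoetherianRing_adicCompletion' J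
  haveI : IsAdicComplete J R := AdicCompletion.isAdicComplete (IsNoetherian.noetherian J)
  haveI : IsAdicComplete JR R := (IsAdicComplete.map_algebraMap_iff (S := R) J R).mpr ‹_›
  haveI : Module.Finite R (Ms 0) := Module.Finite.of_restrictScalars_finite B R (Ms 0)
  obtain ⟨r, φ, hφ, hkerπ⟩ := hsys.exists_surjective_of_finite (inferInstance : Module.Finite R (Ms 0))
  haveI : Module.Finite R L := Module.Finite.of_surjective φ hφ
  obtain ⟨s, a, hspan⟩ := Submodule.fg_iff_exists_fin_generating_family.mp (IsNoetherian.noetherian (b ^ e))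
  let Φ : L →ₗ[R] (Fin s → L) := LinearMap.pi fun i => algebraMap B R (a i) • LinearMap.id
  obtain ⟨k1, hk1⟩ := Ideal.exists_pow_inf_eq_pow_smul bR (LinearMap.ker Φ)
  refine ⟨k1 + e, fun k hk' => ?_⟩
  let Q : Submodule R L := bR ^ k • ⊤
  have hinj : ∀ x ∈ Q, Φ x = 0 → x = 0 := by
    intro x hx hΦ
    have hx' : x ∈ bR ^ k • ⊤ ⊓ LinearMap.ker Φ := ⟨hx, hΦ⟩
    rw [hk1 k (by omega)] at hx'
    have hle : bR ^ (k - k1) • (bR ^ k1 • ⊤ ⊓ LinearMap.ker Φ) ≤ bR ^ e • LinearMap.ker Φ :=
      smul_mono (Ideal.pow_le_pow_right (by omega)) inf_le_right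
    refine (Submodule.eq_bot_iff _).mp (le_bot_iff.mp ?_) x (hle hx')
    rw [← Ideal.map_pow, Ideal.map, ← Submodule.span_eq (LinearMap.ker Φ), Ideal.span, Submodule.span_smul_span]
    refine Submodule.span_le.mpr ?_
    rintro _ ⟨_, ⟨c, hc, rfl⟩, y, hy, rfl⟩
    show algebraMap B R c • y = 0
    rw [← hspan] at hc
    induction hc using Submodule.span_induction with
    | mem z hz => obtain ⟨i, rfl⟩ := hz; exact congrFun (LinearMap.mem_ker.mp hy) i
    | zero => rw [map_zero, zero_smul]
    | add z w _ _ hz hw => rw [map_add, add_smul, hz, hw, add_zero]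
    | smul t z _ hz => rw [smul_eq_mul, map_mul, mul_smul, hz, smul_zero]
  obtain ⟨k2, hk2⟩ := Ideal.exists_pow_inf_eq_pow_smul JR (Q.map Φ)
  refine ⟨k2, fun n g hg hmem hkill => ?_⟩
  -- a lift in `Q`
  obtain ⟨x, hxQ, hx⟩ : ∃ x ∈ Q, π (n + k2) x = g (n + k2) := by
    refine Submodule.smul_induction_on hmem (fun c hc m _ => ?_) fun p q ⟨x, hx, ex⟩ ⟨y, hy, ey⟩ => ?_
    · obtain ⟨l, rfl⟩ := hsys.surjective_proj (n + k2) m
      refine ⟨algebraMap B R c • l, smul_mem_smul ((Ideal.map_pow _ b k).le (Ideal.mem_map_of_mem _ hc)) trivial, ?_⟩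
      rw [map_smul, algebraMap_smul]
    · exact ⟨x + y, Q.add_mem hx hy, by rw [map_add, ex, ey]⟩
  have hΦx : Φ x ∈ JR ^ (n + k2 + 1) • (⊤ : Submodule R (Fin s → L)) := by
    refine Adic.mem_smul_pi _ _ fun i => ?_
    rw [← hkerπ, LinearMap.mem_ker]
    show π (n + k2) (algebraMap B R (a i) • x) = 0
    rw [map_smul, hx, algebraMap_smul]
    exact hkill (a i) (hspan.le (Submodule.subset_span ⟨i, rfl⟩))
  have h2 : Φ x ∈ JR ^ (n + k2 + 1) • ⊤ ⊓ Q.map Φ := ⟨hΦx, Submodule.mem_map_of_mem hxQ⟩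
  rw [hk2 _ (by omega)] at h2
  have h3 : Φ x ∈ (JR ^ (n + 1) • Q).map Φ := by
    rw [Submodule.map_smul'']
    refine smul_mono (Ideal.pow_le_pow_right (by omega)) inf_le_right h2
  obtain ⟨y, hy, hyx⟩ := h3
  have hxy : x - y = 0 := hinj _ (Q.sub_mem hxQ ((smul_le_right : JR ^ (n + 1) • Q ≤ Q) hy))
    (by rw [map_sub, hyx, sub_self])
  rw [sub_eq_zero] at hxy
  have h4 : π n x = 0 := by
    rw [← LinearMap.mem_ker, hkerπ, hxy]
    exact smul_mono le_rfl le_top hy
  have h5 : (⟨g, hg⟩ : L) - x ∈ LinearMap.ker (π (n + k2)) := by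
    rw [LinearMap.mem_ker, map_sub, hx]
    exact sub_self _
  have h6 := LinearMap.mem_ker.mp (hsys.ker_le_ker (Nat.le_add_right n k2) h5)
  rw [map_sub, h4, sub_zero] at h6
  exact h6

end Groth.Agent.FormalExist.AffSys
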