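import Groth.Agent.FormalExist.IdealQuot
import Groth.Agent.FormalExist.AffSys
import Groth.Agent.Formal61.Sys
import Groth.Prelude.Def_Formal2

/-!
# Algebraizing a formal module which maps to a completion with small kernel and cokernel
-/

set_option autoImplicit false

universe u

open CategoryTheory Limits AlgebraicGeometry Opposite TopologicalSpace
open Groth.Agent

noncomputable section

namespace Groth.Agent.FormalExist.Tricky

open IdealQuot CohDev

variable {A : Type u} [CommRing A] {X : Scheme.{u}} [X.Over (Spec (CommRingCat.of A))] {I : Ideal A}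

/-- transition maps -/
abbrev trM (G : ℕᵒᵖ ⥤ X.Modules) {n m : ℕ} (h : n ≤ m) : G.obj (op m) ⟶ G.obj (op n) :=
  G.map (homOfLE h).op

/-- one step -/
abbrev tr1 (G : ℕᵒᵖ ⥤ X.Modules) (n : ℕ) : G.obj (op (n + 1)) ⟶ G.obj (op n) :=
  trM G (Nat.le_succ n)

variable (I) in
/-- the projection to a completion -/
def cπ (M : X.Modules) (n : ℕ) : M ⟶ (Formal.completion I M).obj (op n) := Formal.modPowπ I (n + 1) M

instance epi_cπ (M : X.Modules) (n : ℕ) : Epi (cπ I M n) := inferInstanceAs (Epi (cokernel.π _))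

theorem cπ_trM (M : X.Modules) {n m : ℕ} (h : n ≤ m) : cπ I M m ≫ trM (Formal.completion I M) h = cπ I M n :=
  Formal61.Sys.modPowπ_comp_completion_map I M h

theorem cπ_app_eq_zero_iff (M : X.Modules) [M.IsQuasicoherent] (n : ℕ) (W : X.affineOpens) (x : Γ(M, W.1)) :
    (cπ I M n).app W.1 x = 0 ↔
      x ∈ (I.map (FormalFun.gA (A := A) W.1)) ^ (n + 1) • (⊤ : Submodule Γ(X, W.1) Γ(M, W.1)) :=
  modPowπ_app_eq_zero_iff I (n + 1) M W.2 x

/-- Compatible maps into a system killed by the powers of `I` factor through the completion. -/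
theorem exists_desc_completion (M : X.Modules) {G : ℕᵒᵖ ⥤ X.Modules}
    (hk : ∀ n, Formal.KilledBy (I ^ (n + 1)) (G.obj (op n))) (g : ∀ n, M ⟶ G.obj (op n))
    (hg : ∀ n, g (n + 1) ≫ tr1 G n = g n) :
    ∃ α : Formal.completion I M ⟶ G, ∀ n, cπ I M n ≫ α.app (op n) = g n := by
  choose a ha using fun n => (Formal61.Sys.isModQuot_modPowπ I (n + 1) M).exists_desc_of_killedBy (g n) (hk n)
  refine ⟨NatTrans.ofOpSequence a fun n => ?_, ha⟩
  refine (cancel_epi (Formal.modPowπ I (n + 1 + 1) M)).1 ?_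
  refine (Category.assoc _ _ _).symm.trans (Eq.trans ?_ (Category.assoc _ _ _))
  refine (congrArg (· ≫ a n) (Formal61.Sys.modPowπ_comp_completion_map I M (Nat.le_succ n))).trans ?_
  exact ((ha n).trans (hg n).symm).trans (congrArg (· ≫ _) (ha (n + 1)).symm)

variable (I) in
/-- functoriality of the completion -/
def cmap {M N : X.Modules} (f : M ⟶ N) : Formal.completion I M ⟶ Formal.completion I N :=
  (exists_desc_completion (G := Formal.completion I N) M (fun n => Formal61.Sys.killedBy_modPow I (n + 1) N)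
    (fun n => f ≫ cπ I N n) fun n => by rw [Category.assoc, cπ_trM]).choose

theorem cπ_cmap {M N : X.Modules} (f : M ⟶ N) (n : ℕ) :
    cπ I M n ≫ (cmap I f).app (op n) = f ≫ cπ I N n :=
  (exists_desc_completion (G := Formal.completion I N) M (fun n => Formal61.Sys.killedBy_modPow I (n + 1) N)
    (fun n => f ≫ cπ I N n) fun n => by rw [Category.assoc, cπ_trM]).choose_spec n

theorem cmap_comp_app {M N P : X.Modules} (f : M ⟶ N) (g : N ⟶ P) (n : ℕ) :
    (cmap I f).app (op n) ≫ (cmap I g).app (op n) = (cmap I (f ≫ g)).app (op n) := by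
  rw [← cancel_epi (cπ I M n), reassoc_of% (cπ_cmap (I := I) f n), cπ_cmap, cπ_cmap, Category.assoc]

/-! ## Sections over affine opens -/

section Aff

variable {M N : X.Modules}

theorem exists_app_eq_of_kernel (f : M ⟶ N) (W : X.Opens) (x : Γ(M, W)) (hx : f.app W x = 0) :
    ∃ y, (kernel.ι f).app W y = x :=
  QCoh.exists_app_eq_of_app_eq_zero (ShortComplex.mk (kernel.ι f) f (kernel.condition f))
    (ShortComplex.exact_of_f_is_kernel _ (kernelIsKernel f)) W x hx

theorem exists_app_eq_of_cokernel [IsNoetherian X] (f : M ⟶ N) (hM : Coh.IsCoh M) (hN : Coh.IsCoh N)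
    (W : X.affineOpens) (y : Γ(N, W.1)) (hy : (cokernel.π f).app W.1 y = 0) : ∃ x, f.app W.1 x = y := by
  obtain ⟨z, hz⟩ := exists_app_eq_of_kernel (cokernel.π f) W.1 y hy
  haveI := hM.1
  haveI : (Abelian.image f).IsQuasicoherent :=
    (isCoh_kernel (cokernel.π f) hN (isCoh_cokernel f hM.1 hN).1).1
  obtain ⟨x, hx⟩ := QCoh.app_surjective_of_epi (Abelian.factorThruImage f) W.2
    (show Γ(Abelian.image f, W.1) from z)
  refine ⟨x, ?_⟩
  rw [← Abelian.image.fac f, FormalFun.app_comp, hx]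
  exact hz

theorem epi_of_affine (f : M ⟶ N) [N.IsQuasicoherent]
    (h : ∀ W : X.affineOpens, ∀ y : Γ(N, W.1), ∃ x, f.app W.1 x = y) : Epi f := by
  refine Abelian.epi_of_cokernel_π_eq_zero _ (QCohGen.Noeth.eq_zero_of_cover _ fun x => ?_)
  obtain ⟨W, hW, hx, -⟩ := exists_isAffineOpen_mem_and_subset (X := X) (Opens.mem_top x)
  refine ⟨⟨W, hW⟩, hx, fun y => ?_⟩
  obtain ⟨t, rfl⟩ := h ⟨W, hW⟩ y
  rw [← FormalFun.app_comp, cokernel.condition]
  rfl

/-- Kernels of quotient maps modulo `I^n`. -/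
theorem app_eq_zero_iff {n : ℕ} {q : M ⟶ N} (hq : Formal61.Sys.IsModQuot (I ^ n) q) [M.IsQuasicoherent]
    (W : X.affineOpens) (x : Γ(M, W.1)) :
    q.app W.1 x = 0 ↔ x ∈ (I.map (FormalFun.gA (A := A) W.1)) ^ n • (⊤ : Submodule Γ(X, W.1) Γ(M, W.1)) := by
  obtain ⟨w, hw⟩ := hq.exists_desc (Formal.modPowπ I n M) fun a ha => FormalFun.smulMod_comp_π M ha
  obtain ⟨w', hw'⟩ := (Formal61.Sys.isModQuot_modPowπ I n M).exists_desc q hq.condition
  rw [← modPowπ_app_eq_zero_iff I n M W.2]
  constructor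
  · intro h; rw [← hw, FormalFun.app_comp, h, map_zero]
  · intro h; rw [← hw', FormalFun.app_comp, h, map_zero]

theorem killed_pow_mono (K : X.IdealSheafData) {a b : ℕ} (h : a ≤ b) {Z : X.Modules}
    (hZ : ClSub.KilledByIdeal (K ^ a) Z) : ClSub.KilledByIdeal (K ^ b) Z := fun W r hr m => by
  refine hZ W r ?_ m
  simp only [Scheme.IdealSheafData.ideal_pow, Pi.pow_apply] at hr ⊢
  exact Ideal.pow_le_pow_right h hr

theorem killed_of_iso (K : X.IdealSheafData) (e : M ≅ N) (h : ClSub.KilledByIdeal K M) :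
    ClSub.KilledByIdeal K N :=
  CohDev.killed_of_mono (I := K) e.inv h

theorem killed_of_epi' (K : X.IdealSheafData) (f : M ⟶ N) [Epi f] (hM : Coh.IsCoh M) (hN : Coh.IsCoh N)
    (h : ClSub.KilledByIdeal K M) : ClSub.KilledByIdeal K N :=
  CohDev.killed_of_epi (I := K) f hM.1 hN.1 h

end Aff

/-! ## Cokernel towers -/

/-- componentwise cokernels -/
def cokT {F G : ℕᵒᵖ ⥤ X.Modules} (β : F ⟶ G) : ℕᵒᵖ ⥤ X.Modules where
  obj i := cokernel (β.app i)
  map f := cokernel.map _ _ (F.map f) (G.map f) (β.naturality f).symm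
  map_id i := by
    refine (cancel_epi (cokernel.π (β.app i))).1 ?_
    simp
  map_comp f g := by
    refine (cancel_epi (cokernel.π _)).1 ?_
    simp

/-- the projection to the cokernels -/
def cokTπ {F G : ℕᵒᵖ ⥤ X.Modules} (β : F ⟶ G) : G ⟶ cokT β where
  app i := cokernel.π (β.app i)
  naturality _ _ f := (cokernel.π_desc _ _ _).symm

instance epi_cokTπ {F G : ℕᵒᵖ ⥤ X.Modules} (β : F ⟶ G) (i : ℕᵒᵖ) : Epi ((cokTπ β).app i) :=
  inferInstanceAs (Epi (cokernel.π _))

theorem isModQuot_cokT {F G : ℕᵒᵖ ⥤ X.Modules} (β : F ⟶ G) (hG : Formal.IsCohFormal I G) (n : ℕ)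
    (h : ∀ w : G.obj (op n) ⟶ Formal.modPow I (n + 1) ((cokT β).obj (op (n + 1))),
      tr1 G n ≫ w = (cokTπ β).app (op (n + 1)) ≫ Formal.modPowπ I (n + 1) ((cokT β).obj (op (n + 1))) →
      β.app (op n) ≫ w = 0) :
    Formal61.Sys.IsModQuot (I ^ (n + 1)) (tr1 (cokT β) n) := by
  have hsq : (cokTπ β).app (op (n + 1)) ≫ tr1 (cokT β) n = tr1 G n ≫ (cokTπ β).app (op n) :=
    cokernel.π_desc _ _ _
  haveI : Epi (tr1 G n) := Formal61.Sys.IsModQuot.epi (hG.2.2 n)
  haveI : Epi (tr1 (cokT β) n) := by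
    haveI : Epi ((cokTπ β).app (op (n + 1)) ≫ tr1 (cokT β) n) := by rw [hsq]; infer_instance
    exact epi_of_epi ((cokTπ β).app (op (n + 1))) _
  refine Formal61.Sys.IsModQuot.mk' ((Formal61.Sys.smulFamily_comp_eq_zero_iff _).1
    (Formal61.Sys.comp_eq_zero_of_killedBy
      (Formal61.Sys.killedBy_of_epi ((cokTπ β).app (op n)) (hG.2.1 n)) _)) fun Z v hv => ?_
  obtain ⟨v', hv'⟩ := (Formal61.Sys.isModQuot_modPowπ I (n + 1) ((cokT β).obj (op (n + 1)))).exists_desc v hv
  obtain ⟨w, hw⟩ := Formal61.Sys.IsModQuot.exists_desc (hG.2.2 n : Formal61.Sys.IsModQuot (I ^ (n + 1)) (tr1 G n))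
    ((cokTπ β).app (op (n + 1)) ≫ Formal.modPowπ I (n + 1) ((cokT β).obj (op (n + 1)))) fun a ha => by
      rw [← Category.assoc, FormalFun.smulMod_natural, Category.assoc,
        (show Formal.smulMod A _ a ≫ Formal.modPowπ I (n + 1) _ = 0 from FormalFun.smulMod_comp_π _ ha), comp_zero]
  refine ⟨cokernel.desc (β.app (op n)) w (h w hw) ≫ v', ?_⟩
  refine (cancel_epi ((cokTπ β).app (op (n + 1)))).1 ?_
  refine (Category.assoc _ _ _).symm.trans ((congrArg (· ≫ _) hsq).trans ((Category.assoc _ _ _).trans ?_))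
  refine (congrArg (tr1 G n ≫ ·) ((Category.assoc _ _ _).symm.trans
    (congrArg (· ≫ v') (cokernel.π_desc (β.app (op n)) w (h w hw))))).trans ?_
  exact (Category.assoc _ _ _).symm.trans ((congrArg (· ≫ v') hw).trans ((Category.assoc _ _ _).trans
    (congrArg (_ ≫ ·) hv')))

theorem isCohFormal_cokT {F G : ℕᵒᵖ ⥤ X.Modules} (hF : Formal.IsCohFormal I F) (hG : Formal.IsCohFormal I G)
    (β : F ⟶ G) : Formal.IsCohFormal I (cokT β) := by
  refine ⟨fun n => isCoh_cokernel _ (hF.1 n).1 (hG.1 n),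
    fun n => Formal61.Sys.killedBy_of_epi ((cokTπ β).app (op n)) (hG.2.1 n),
    fun n => isModQuot_cokT β hG n fun w hw => ?_⟩
  haveI : Epi (tr1 F n) := Formal61.Sys.IsModQuot.epi (hF.2.2 n)
  rw [← cancel_epi (tr1 F n), comp_zero, ← Category.assoc,
    show tr1 F n ≫ β.app (op n) = β.app (op (n + 1)) ≫ tr1 G n from β.naturality _, Category.assoc, hw,
    ← Category.assoc]
  exact (congrArg (· ≫ _) (cokernel.condition _)).trans zero_comp

/-- the submodules `K G_n` -/
def ιT (K : X.IdealSheafData) (G : ℕᵒᵖ ⥤ X.Modules) : G ⋙ Dual3.idealMul K ⟶ G where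
  app i := Dual3.idealMulι K (G.obj i)
  naturality _ _ f := Dual3.idealMul_map_ι K (G.map f)

theorem isCohFormal_QT [IsNoetherian X] (K : X.IdealSheafData) {G : ℕᵒᵖ ⥤ X.Modules}
    (hG : Formal.IsCohFormal I G) :
    Formal.IsCohFormal I (cokT (ιT K G)) ∧ ∀ n, ClSub.KilledByIdeal K ((cokT (ιT K G)).obj (op n)) := by
  have hk : ∀ n, ClSub.KilledByIdeal K ((cokT (ιT K G)).obj (op n)) := fun n => killed_Q K _
  have hc : ∀ n, Coh.IsCoh ((cokT (ιT K G)).obj (op n)) := fun n => isCoh_Q K (hG.1 n)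
  refine ⟨⟨hc, fun n => Formal61.Sys.killedBy_of_epi ((cokTπ (ιT K G)).app (op n)) (hG.2.1 n),
    fun n => isModQuot_cokT _ hG n fun w _ => ?_⟩, hk⟩
  let Q' := Formal.modPow I (n + 1) ((cokT (ιT K G)).obj (op (n + 1)))
  haveI : Epi (Formal.modPowπ I (n + 1) ((cokT (ιT K G)).obj (op (n + 1)))) :=
    inferInstanceAs (Epi (cokernel.π _))
  have hq : Coh.IsCoh Q' := by
    have h1 := hc (n + 1)
    haveI := h1.1
    haveI : (∐ fun _ : ↥(I ^ (n + 1)) => (cokT (ιT K G)).obj (op (n + 1))).IsQuasicoherent := inferInstance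
    exact isCoh_cokernel _ this h1
  exact CohDev.idealMulι_comp_eq_zero K w (killed_of_epi' K
    (Formal.modPowπ I (n + 1) ((cokT (ιT K G)).obj (op (n + 1)))) (hc (n + 1)) hq (hk (n + 1)))

/-! ## The theorem -/

/-- algebraization and full faithfulness for modules killed by the powers of `K` -/
def Hyp (I : Ideal A) (K : X.IdealSheafData) : Prop :=
  ∀ e : ℕ,
    (∀ (M N : X.Modules), Coh.IsCoh M → Coh.IsCoh N → ClSub.KilledByIdeal (K ^ e) M →
      ClSub.KilledByIdeal (K ^ e) N → ∀ ψ : Formal.completion I M ⟶ Formal.completion I N,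
        ∃! φ : M ⟶ N, ∀ n : ℕ, Formal.modPowπ I (n + 1) M ≫ ψ.app (op n) = φ ≫ Formal.modPowπ I (n + 1) N) ∧
    (∀ G : ℕᵒᵖ ⥤ X.Modules, Formal.IsCohFormal I G → (∀ n : ℕ, ClSub.KilledByIdeal (K ^ e) (G.obj (op n))) →
      ∃ M : X.Modules, Coh.IsCoh M ∧ ClSub.KilledByIdeal (K ^ e) M ∧ Nonempty (Formal.completion I M ≅ G))

variable [IsNoetherian X]

theorem isCohFormal_completion' {M : X.Modules} (hM : Coh.IsCoh M) :
    Formal.IsCohFormal I (Formal.completion I M) := by
  refine ⟨fun n => ?_, fun n => Formal61.Sys.killedBy_modPow I (n + 1) M,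
    fun n => ?_⟩
  · haveI := hM.1
    haveI : (∐ fun _ : ↥(I ^ (n + 1)) => M).IsQuasicoherent := inferInstance
    exact isCoh_cokernel _ this hM
  · haveI : Epi (Formal.modPowπ I (n + 1 + 1) M) := inferInstanceAs (Epi (cokernel.π _))
    refine Formal61.Sys.IsModQuot.of_comp (π := Formal.modPowπ I (n + 1 + 1) M) ?_
    have e := Formal61.Sys.modPowπ_comp_completion_map I M (Nat.le_succ n)
    exact e.symm ▸ Formal61.Sys.isModQuot_modPowπ I (n + 1) M

variable (K : X.IdealSheafData) {F : ℕᵒᵖ ⥤ X.Modules} (hF : Formal.IsCohFormal I F)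

include hF in
/-- the uniform power for one affine open -/
theorem exists_die_aff (W : X.affineOpens) (e : ℕ) : ∃ k₀, ∀ k, k₀ ≤ k → ∃ c, ∀ c', c ≤ c' → ∀ (n : ℕ)
    (g : Γ(F.obj (op (n + c')), W.1)),
    g ∈ (K ^ k).ideal W • (⊤ : Submodule Γ(X, W.1) Γ(F.obj (op (n + c')), W.1)) →
    (∀ a ∈ (K ^ e).ideal W, a • g = 0) → (trM F (Nat.le_add_right n c')).app W.1 g = 0 := by
  haveI : IsNoetherianRing Γ(X, W.1) := IsLocallyNoetherian.component_noetherian W
  haveI hq : ∀ n, (F.obj (op n)).IsQuasicoherent := fun n => (hF.1 n).1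
  let f : ∀ n, Γ(F.obj (op (n + 1)), W.1) →ₗ[Γ(X, W.1)] Γ(F.obj (op n), W.1) := fun n => appLin (tr1 F n) W.1
  have hs : ∀ n, Function.Surjective (f n) := fun n => by
    haveI : Epi (tr1 F n) := Formal61.Sys.IsModQuot.epi (hF.2.2 n)
    exact QCoh.app_surjective_of_epi (tr1 F n) W.2
  obtain ⟨k₀, hk₀⟩ := AffSys.exists_die (Ms := fun n => Γ(F.obj (op n), W.1))
    (I.map (FormalFun.gA (A := A) W.1)) (f := f) hs
    (fun n => Submodule.ext fun x => app_eq_zero_iff (hF.2.2 n) W x)
    (finite_sections (hF.1 0) W.2) (K.ideal W) e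
  refine ⟨k₀, fun k hk => ?_⟩
  obtain ⟨c, hc⟩ := hk₀ k hk
  refine ⟨c, fun c' hc' n g hg hge => ?_⟩
  simp only [Scheme.IdealSheafData.ideal_pow, Pi.pow_apply] at hg hge
  obtain ⟨s, hs', hsg⟩ := AffSys.exists_compat hs g
  have key : ∀ (a b : ℕ) (h : a ≤ b), (trM F h).app W.1 (s b) = s a := by
    intro a b h
    induction b, h using Nat.le_induction with
    | base =>
      rw [show trM F (le_refl a) = 𝟙 _ from F.map_id (op a)]
      rfl
    | succ b hb ih =>
      rw [show trM F (hb.trans (Nat.le_succ b)) = tr1 F b ≫ trM F hb by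
        rw [← F.map_comp, ← op_comp, homOfLE_comp], FormalFun.app_comp]
      exact (congrArg ((trM F hb).app W.1) (hs' b)).trans ih
  rw [← hsg, key n _ (Nat.le_add_right n c')]
  have hle : n + c ≤ n + c' := by omega
  refine hc n s hs' ?_ fun a ha => ?_
  · rw [← key _ _ hle, hsg]
    have h2 := Submodule.mem_map_of_mem (f := appLin (trM F hle) W.1) hg
    rw [Submodule.map_smul''] at h2
    exact Submodule.smul_mono le_rfl le_top h2
  · rw [← key _ _ hle, hsg, ← Scheme.Modules.Hom.app_smul, hge a ha, map_zero]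

include hF in
/-- The main theorem. -/
theorem main (h₁ : Hyp I K) {H : X.Modules} (hH : Coh.IsCoh H) (α : F ⟶ Formal.completion I H) (e : ℕ)
    (hker : ∀ n, ClSub.KilledByIdeal (K ^ e) (kernel (α.app (op n))))
    (hcok : ∀ n, ClSub.KilledByIdeal (K ^ e) (cokernel (α.app (op n)))) :
    ∃ (M : X.Modules) (a : M ⟶ H) (β : F ≅ Formal.completion I M), Coh.IsCoh M ∧
      Formal2.KerCokerKilledByPowHom K a ∧
      ∀ n : ℕ, Formal.modPowπ I (n + 1) M ≫ β.inv.app (op n) ≫ α.app (op n) =
        a ≫ Formal.modPowπ I (n + 1) H := by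
  classical
  haveI hFq : ∀ n, (F.obj (op n)).IsQuasicoherent := fun n => (hF.1 n).1
  -- the exponents
  obtain ⟨σ, hσ⟩ := isCompact_univ.elim_finite_subcover
    (fun W : X.affineOpens => ((W : X.Opens) : Set X)) (fun W => (W : X.Opens).isOpen) fun x _ => by
      obtain ⟨W, hW, hx, -⟩ := exists_isAffineOpen_mem_and_subset (X := X) (Opens.mem_top x)
      exact Set.mem_iUnion.mpr ⟨⟨W, hW⟩, hx⟩
  choose k₀ hk₀ using fun W => exists_die_aff K hF W e
  let k := σ.sup k₀
  choose cW hcW using fun W : {W // W ∈ σ} => hk₀ W.1 k (Finset.le_sup W.2)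
  let c := Finset.univ.sup cW
  -- the part killed by a power of `K`
  obtain ⟨hAT, hATk⟩ := isCohFormal_QT (K ^ k) hF
  obtain ⟨MA, hMA, hMAk, ⟨eA⟩⟩ := (h₁ k).2 _ hAT hATk
  have hMAn : ∀ n, ClSub.KilledByIdeal (K ^ k) ((Formal.completion I MA).obj (op n)) := fun n =>
    killed_of_iso _ (eA.app (op n)).symm (hATk n)
  let H' := H ⊞ MA
  have hH' : Coh.IsCoh H' := isCoh_biprod hH hMA
  haveI := hH'.1
  have hC' := isCohFormal_completion' (I := I) hH'
  let β : F ⟶ Formal.completion I H' :=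
    α ≫ cmap I (biprod.inl : H ⟶ H') + cokTπ (ιT (K ^ k) F) ≫ eA.inv ≫ cmap I (biprod.inr : MA ⟶ H')
  have hid : ∀ (Z : X.Modules) n, (cmap I (𝟙 Z)).app (op n) = 𝟙 _ := fun Z n => by
    rw [← cancel_epi (cπ I Z n), cπ_cmap, Category.id_comp, Category.comp_id]
  have hzero : ∀ (Z Z' : X.Modules) n, (cmap I (0 : Z ⟶ Z')).app (op n) = 0 := fun Z Z' n => by
    rw [← cancel_epi (cπ I Z n), cπ_cmap, zero_comp, comp_zero]
  have hβ1 : ∀ n, β.app (op n) ≫ (cmap I (biprod.fst : H' ⟶ H)).app (op n) = α.app (op n) := fun n => by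
    simp only [β, NatTrans.app_add, NatTrans.comp_app, Preadditive.add_comp, Category.assoc, cmap_comp_app,
      H', biprod.inl_fst, biprod.inr_fst, hid, hzero, Category.comp_id, comp_zero, add_zero]
  have hβ2 : ∀ n, β.app (op n) ≫ (cmap I (biprod.snd : H' ⟶ MA)).app (op n) =
      (cokTπ (ιT (K ^ k) F)).app (op n) ≫ eA.inv.app (op n) := fun n => by
    simp only [β, NatTrans.app_add, NatTrans.comp_app, Preadditive.add_comp, Category.assoc, cmap_comp_app,
      H', biprod.inl_snd, biprod.inr_snd, hid, hzero, Category.comp_id, comp_zero, zero_add]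
  -- the cokernel
  have hCT := isCohFormal_cokT hF hC' β
  have hCk : ∀ n, ClSub.KilledByIdeal (K ^ (e + k)) ((cokT β).obj (op n)) := by
    intro n W r hr y
    haveI := (hC'.1 n).1
    haveI := (hCT.1 n).1
    obtain ⟨x, rfl⟩ := QCoh.app_surjective_of_epi ((cokTπ β).app (op n)) W.2 y
    refine (Scheme.Modules.Hom.app_smul _ _ _).symm.trans ?_
    simp only [Scheme.IdealSheafData.ideal_pow, Pi.pow_apply, pow_add] at hr
    refine Submodule.mul_induction_on hr (fun b₁ hb₁ b₂ hb₂ => ?_) fun s t hs ht => by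
      rw [add_smul, map_add, hs, ht]
      exact add_zero _
    let p1 := (cmap I (biprod.fst : H' ⟶ H)).app (op n)
    let p2 := (cmap I (biprod.snd : H' ⟶ MA)).app (op n)
    obtain ⟨g, hg⟩ := exists_app_eq_of_cokernel (α.app (op n)) (hF.1 n)
      ((isCohFormal_completion' (I := I) hH).1 n) W (b₁ • p1.app W.1 x) (by
        rw [Scheme.Modules.Hom.app_smul]
        refine hcok n W b₁ ?_ _
        simpa [Scheme.IdealSheafData.ideal_pow] using hb₁)
    let z := b₁ • x - (β.app (op n)).app W.1 g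
    have hz : p1.app W.1 z = 0 := by
      show p1.app W.1 (b₁ • x - _) = 0
      rw [map_sub, Scheme.Modules.Hom.app_smul, ← FormalFun.app_comp, hβ1, hg, sub_self]
    have htot : p1 ≫ (cmap I (biprod.inl : H ⟶ H')).app (op n) +
        p2 ≫ (cmap I (biprod.inr : MA ⟶ H')).app (op n) = 𝟙 _ := by
      rw [cmap_comp_app, cmap_comp_app, ← cancel_epi (cπ I H' n), Preadditive.comp_add, cπ_cmap, cπ_cmap,
        Category.comp_id, ← Preadditive.add_comp, biprod.total, Category.id_comp]
    have hz2 : b₂ • z = 0 := by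
      have h2 : z = ((cmap I (biprod.inr : MA ⟶ H')).app (op n)).app W.1 (p2.app W.1 z) := by
        have h3 : (p1 ≫ (cmap I (biprod.inl : H ⟶ H')).app (op n)).app W.1 z +
            (p2 ≫ (cmap I (biprod.inr : MA ⟶ H')).app (op n)).app W.1 z = z := by
          have h4 := congrArg (fun φ => (Scheme.Modules.Hom.app φ W.1) z) htot
          exact h4
        rw [FormalFun.app_comp, hz, map_zero, zero_add, FormalFun.app_comp] at h3
        exact h3.symm
      rw [h2, ← Scheme.Modules.Hom.app_smul]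
      exact (congrArg _ (hMAn n W b₂ (by simpa [Scheme.IdealSheafData.ideal_pow] using hb₂) _)).trans (map_zero _)
    rw [smul_sub, sub_eq_zero] at hz2
    rw [mul_comm, mul_smul, hz2, ← Scheme.Modules.Hom.app_smul, ← FormalFun.app_comp,
      show β.app (op n) ≫ (cokTπ β).app (op n) = 0 from cokernel.condition _]
    rfl
  obtain ⟨MC, hMC, hMCk, ⟨eC⟩⟩ := (h₁ (e + k)).2 _ hCT hCk
  have hMCn : ∀ n, ClSub.KilledByIdeal (K ^ (e + k)) ((Formal.completion I MC).obj (op n)) := fun n =>
    killed_of_iso _ (eC.app (op n)).symm (hCk n)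
  -- the map to the algebraized cokernel
  let s : ∀ n, H' ⟶ (Formal.completion I MC).obj (op n) := fun n =>
    cπ I H' n ≫ (cokTπ β).app (op n) ≫ eC.inv.app (op n)
  have hsc : ∀ n, s (n + 1) ≫ tr1 (Formal.completion I MC) n = s n := fun n => by
    simp only [s, Category.assoc]
    rw [← eC.inv.naturality, ← (cokTπ β).naturality_assoc]
    exact (Category.assoc _ _ _).symm.trans (congrArg (· ≫ _) (cπ_trM H' (Nat.le_succ n)))
  choose t ht using fun n => IdealQuot.exists_desc (K ^ (e + k)) (s n) (hMCn n)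
  obtain ⟨ψ, hψ⟩ := exists_desc_completion (IdealQuot.Q (K ^ (e + k)) H') (G := Formal.completion I MC)
    (fun n => Formal61.Sys.killedBy_modPow I (n + 1) MC) t fun n => by
      rw [← cancel_epi (IdealQuot.π (K ^ (e + k)) H'), ← Category.assoc, ht, ht, hsc]
  obtain ⟨φ, hφ, -⟩ := (h₁ (e + k)).1 _ MC (isCoh_Q _ hH') hMC (killed_Q _ _) hMCk ψ
  let γ : H' ⟶ MC := IdealQuot.π (K ^ (e + k)) H' ≫ φ
  have hγ : ∀ n, γ ≫ cπ I MC n = s n := fun n => by
    rw [Category.assoc, show φ ≫ cπ I MC n = t n from (hφ n).symm.trans (hψ n), ht]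
  haveI hγe : Epi γ := by
    refine Abelian.epi_of_cokernel_π_eq_zero _ ?_
    let D := cokernel γ
    have hD : Coh.IsCoh D := isCoh_cokernel γ hH'.1 hMC
    have hDk := killed_of_epi' (K ^ (e + k)) (cokernel.π γ) hMC hD hMCk
    obtain ⟨ψ₀, -, huniq⟩ := (h₁ (e + k)).1 D D hD hD hDk hDk 0
    have h0 : ∀ n, cπ I D n = 0 := fun n => by
      rw [← cancel_epi (cokernel.π γ), comp_zero, ← cπ_cmap (I := I) (cokernel.π γ) n]
      haveI : Epi (s n) := by infer_instance
      haveI : Epi (γ ≫ cπ I MC n) := by rw [hγ n]; infer_instance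
      have h5 : (γ ≫ cπ I MC n) ≫ (cmap I (cokernel.π γ)).app (op n) = 0 := by
        rw [Category.assoc, cπ_cmap, cokernel.condition_assoc, zero_comp]
      rw [show (cmap I (cokernel.π γ)).app (op n) = 0 from (cancel_epi (γ ≫ cπ I MC n)).1 (h5.trans comp_zero.symm),
        comp_zero]
    have hid0 : 𝟙 D = 0 := by
      rw [huniq (𝟙 D) fun n => ?_, huniq 0 fun n => ?_]
      · rw [zero_comp]
        exact comp_zero
      · rw [Category.id_comp]
        exact comp_zero.trans (h0 n).symm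
    rw [← Category.comp_id (cokernel.π γ), hid0, comp_zero]
  let M := kernel γ
  have hM : Coh.IsCoh M := isCoh_kernel γ hH' hMC.1
  haveI := hM.1
  haveI := hMC.1
  -- kernels of `β` die
  have hdie : ∀ n, kernel.ι (β.app (op (n + c))) ≫ trM F (Nat.le_add_right n c) = 0 := by
    intro n
    haveI := (isCoh_kernel (β.app (op (n + c))) (hF.1 _) (hC'.1 _).1).1
    refine QCohGen.Noeth.eq_zero_of_cover _ fun x => ?_
    obtain ⟨W, hW⟩ := Set.mem_iUnion.mp (hσ (Set.mem_univ x))
    obtain ⟨hWσ, hxW⟩ := Set.mem_iUnion.mp hW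
    refine ⟨W, hxW, fun y => ?_⟩
    rw [FormalFun.app_comp]
    let g := (kernel.ι (β.app (op (n + c)))).app W.1 y
    have hg : (β.app (op (n + c))).app W.1 g = 0 := by
      rw [← FormalFun.app_comp, kernel.condition]; rfl
    refine hcW ⟨W, hWσ⟩ c (Finset.le_sup (f := cW) (Finset.mem_univ _)) n g ?_ fun r hr => ?_
    · have h1 : ((cokTπ (ιT (K ^ k) F)).app (op (n + c)) ≫ eA.inv.app (op (n + c))).app W.1 g = 0 := by
        rw [← hβ2, FormalFun.app_comp, hg, map_zero]
      rw [FormalFun.app_comp] at h1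
      exact (IdealQuot.π_app_eq_zero_iff (K ^ k) g (killed_Q _ _)).mp
        (QCoh.app_injective_of_mono (eA.inv.app (op (n + c))) W.1 (h1.trans (map_zero _).symm))
    · obtain ⟨z, hz⟩ := exists_app_eq_of_kernel (α.app (op (n + c))) W.1 g (by
        rw [← hβ1, FormalFun.app_comp, hg, map_zero])
      rw [← hz]
      exact (Scheme.Modules.Hom.app_smul _ _ _).symm.trans ((congrArg _ (hker _ W r hr z)).trans (map_zero _))
  -- the quotient maps
  have hlift : ∀ m, (kernel.ι γ ≫ cπ I H' m) ≫ (cokTπ β).app (op m) = 0 := fun m => by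
    rw [← cancel_mono (eC.inv.app (op m)), zero_comp, Category.assoc, Category.assoc]
    refine (congrArg (kernel.ι γ ≫ ·) (hγ m).symm).trans ?_
    rw [kernel.condition_assoc, zero_comp]
  let l : ∀ m, M ⟶ Abelian.image (β.app (op m)) := fun m => kernel.lift _ _ (hlift m)
  have hl : ∀ m, l m ≫ Abelian.image.ι (β.app (op m)) = kernel.ι γ ≫ cπ I H' m := fun m => kernel.lift_ι _ _ _
  have hT : ∀ n, kernel.ι (Abelian.factorThruImage (β.app (op (n + c)))) ≫ trM F (Nat.le_add_right n c) = 0 :=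
    fun n => by
    rw [← kernel.lift_ι (β.app (op (n + c))) (kernel.ι (Abelian.factorThruImage (β.app (op (n + c))))) (by
      conv_lhs => arg 2; rw [← Abelian.image.fac (β.app (op (n + c)))]
      rw [kernel.condition_assoc, zero_comp]), Category.assoc, hdie, comp_zero]
  let T : ∀ n, Abelian.image (β.app (op (n + c))) ⟶ F.obj (op n) := fun n => Abelian.epiDesc _ _ (hT n)
  have hTfac : ∀ n, Abelian.factorThruImage (β.app (op (n + c))) ≫ T n = trM F (Nat.le_add_right n c) :=
    fun n => Abelian.comp_epiDesc _ _ _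
  let q : ∀ n, M ⟶ F.obj (op n) := fun n => l (n + c) ≫ T n
  have hqβ : ∀ n, q n ≫ β.app (op n) = kernel.ι γ ≫ cπ I H' n := fun n => by
    have h1 : T n ≫ β.app (op n) = Abelian.image.ι (β.app (op (n + c))) ≫
        trM (Formal.completion I H') (Nat.le_add_right n c) := by
      rw [← cancel_epi (Abelian.factorThruImage (β.app (op (n + c)))), ← Category.assoc, hTfac,
        ← Category.assoc (Abelian.factorThruImage _), Abelian.image.fac]
      exact β.naturality _
    rw [Category.assoc, h1, ← Category.assoc, hl, Category.assoc, cπ_trM]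
  have hqc : ∀ n, q (n + 1) ≫ tr1 F n = q n := fun n => by
    have hle : n + c ≤ n + 1 + c := by omega
    let ρ : Abelian.image (β.app (op (n + 1 + c))) ⟶ Abelian.image (β.app (op (n + c))) :=
      kernel.map _ _ (trM (Formal.completion I H') hle) (trM (cokT β) hle) (cokernel.π_desc _ _ _)
    have hρ : ρ ≫ Abelian.image.ι (β.app (op (n + c))) =
        Abelian.image.ι (β.app (op (n + 1 + c))) ≫ trM (Formal.completion I H') hle := kernel.lift_ι _ _ _
    have h1 : l (n + 1 + c) ≫ ρ = l (n + c) := by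
      rw [← cancel_mono (Abelian.image.ι (β.app (op (n + c)))), Category.assoc, hρ, ← Category.assoc, hl, hl,
        Category.assoc, cπ_trM]
    have h2 : T (n + 1) ≫ tr1 F n = ρ ≫ T n := by
      rw [← cancel_epi (Abelian.factorThruImage (β.app (op (n + 1 + c)))), ← Category.assoc, hTfac]
      have h3 : Abelian.factorThruImage (β.app (op (n + 1 + c))) ≫ ρ =
          trM F hle ≫ Abelian.factorThruImage (β.app (op (n + c))) := by
        rw [← cancel_mono (Abelian.image.ι (β.app (op (n + c)))), Category.assoc, hρ,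
          ← Category.assoc (Abelian.factorThruImage _), Abelian.image.fac, Category.assoc, Abelian.image.fac]
        exact (β.naturality _).symm
      rw [reassoc_of% h3, hTfac, ← F.map_comp, ← F.map_comp, ← op_comp, ← op_comp, homOfLE_comp, homOfLE_comp]
    simp only [q]
    rw [Category.assoc, h2, ← Category.assoc, h1]
  have hsurj : ∀ (n : ℕ) (W : X.affineOpens) (g : Γ(F.obj (op n), W.1)), ∃ x, (q n).app W.1 x = g := by
    intro n W g
    haveI := (hC'.1 (n + c)).1
    haveI : Epi (trM F (Nat.le_add_right n c)) := (Formal61.Sys.isModQuot_map hF.2.1 hF.2.2 _).epi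
    obtain ⟨g', rfl⟩ := QCoh.app_surjective_of_epi (trM F (Nat.le_add_right n c)) W.2 g
    obtain ⟨p, hp⟩ := QCoh.app_surjective_of_epi (cπ I H' (n + c)) W.2 ((β.app (op (n + c))).app W.1 g')
    have h1 : (cπ I MC (n + c)).app W.1 (γ.app W.1 p) = 0 := by
      rw [← FormalFun.app_comp, hγ, FormalFun.app_comp, hp, ← FormalFun.app_comp,
        ← Category.assoc, show β.app (op (n + c)) ≫ (cokTπ β).app (op (n + c)) = 0 from cokernel.condition _,
        zero_comp]
      rfl
    rw [cπ_app_eq_zero_iff, ← LinearMap.range_eq_top.mpr (show Function.Surjective (appLin γ W.1) from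
      QCoh.app_surjective_of_epi γ W.2), LinearMap.range_eq_map, ← Submodule.map_smul''] at h1
    obtain ⟨z, hz, hzp⟩ := h1
    obtain ⟨x, hx⟩ := exists_app_eq_of_kernel γ W.1 (p - z) (by
      rw [map_sub, sub_eq_zero]; exact hzp.symm)
    refine ⟨x, ?_⟩
    have h2 : (l (n + c)).app W.1 x = (Abelian.factorThruImage (β.app (op (n + c)))).app W.1 g' := by
      refine QCoh.app_injective_of_mono (Abelian.image.ι (β.app (op (n + c)))) W.1 ?_
      rw [← FormalFun.app_comp, hl, FormalFun.app_comp, hx, map_sub, hp, (cπ_app_eq_zero_iff H' (n + c) W z).mpr hz,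
        sub_zero, ← FormalFun.app_comp, Abelian.image.fac]
    simp only [q]
    rw [FormalFun.app_comp, h2, ← FormalFun.app_comp, hTfac]
  have hqe : ∀ n, Epi (q n) := fun n => epi_of_affine (q n) fun W y => hsurj n W y
  have hq : ∀ n, Formal61.Sys.IsModQuot (I ^ (n + 1)) (q n) := fun n => by
    haveI := hqe n
    refine Formal61.Sys.IsModQuot.mk' ((Formal61.Sys.smulFamily_comp_eq_zero_iff _).1
      (Formal61.Sys.comp_eq_zero_of_killedBy (hF.2.1 n) _)) fun Z v hv => ?_
    obtain ⟨v', hv'⟩ := (Formal61.Sys.isModQuot_modPowπ I (n + 1) M).exists_desc v hv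
    have hz : kernel.ι (q n) ≫ Formal.modPowπ I (n + 1) M = 0 := by
      haveI := (isCoh_kernel (q n) hM (hF.1 n).1).1
      refine QCohGen.Noeth.eq_zero_of_cover _ fun y => ?_
      obtain ⟨W, hW, hyW, -⟩ := exists_isAffineOpen_mem_and_subset (X := X) (Opens.mem_top y)
      refine ⟨⟨W, hW⟩, hyW, fun w => ?_⟩
      rw [FormalFun.app_comp]
      let x := (kernel.ι (q n)).app W w
      have hx : (q n).app W x = 0 := by rw [← FormalFun.app_comp, kernel.condition]; rfl
      haveI : IsNoetherianRing Γ(X, W) := IsLocallyNoetherian.component_noetherian ⟨W, hW⟩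
      haveI := finite_sections hH' hW
      let J := I.map (FormalFun.gA (A := A) W)
      obtain ⟨c₀, hc₀⟩ := J.exists_pow_inf_eq_pow_smul (LinearMap.range (appLin (kernel.ι γ) W))
      let n' := n + c₀
      have hqmap : ∀ x, (trM F (Nat.le_add_right n c₀)).app W ((q n').app W x) = (q n).app W x := fun x => by
        have hqq : ∀ m (h : n ≤ m), q m ≫ trM F h = q n := by
          intro m h
          induction m, h using Nat.le_induction with
          | base => rw [show trM F (le_refl n) = 𝟙 _ from F.map_id (op n), Category.comp_id]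
          | succ m hm ih =>
            rw [show trM F (hm.trans (Nat.le_succ m)) = tr1 F m ≫ trM F hm by
              rw [← F.map_comp, ← op_comp, homOfLE_comp], ← Category.assoc, hqc, ih]
        rw [← FormalFun.app_comp, hqq]
      have h1 := (app_eq_zero_iff (Formal61.Sys.isModQuot_map hF.2.1 hF.2.2 (Nat.le_add_right n c₀)) ⟨W, hW⟩
        ((q n').app W x)).mp ((hqmap x).trans hx)
      rw [← LinearMap.range_eq_top.mpr (show Function.Surjective (appLin (q n') W) from
        fun y => hsurj n' ⟨W, hW⟩ y), LinearMap.range_eq_map, ← Submodule.map_smul''] at h1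
      obtain ⟨z, hz, hzx⟩ := h1
      have h2 : (cπ I H' n').app W ((kernel.ι γ).app W (x - z)) = 0 := by
        rw [← FormalFun.app_comp, ← hqβ, FormalFun.app_comp, map_sub,
          show (q n').app W z = (q n').app W x from hzx, sub_self, map_zero]
      have h3 := (cπ_app_eq_zero_iff H' n' ⟨W, hW⟩ _).mp h2
      have h4 := hc₀ (n' + 1) (by omega)
      have h5 : n' + 1 - c₀ = n + 1 := by omega
      rw [h5] at h4
      have h6 := Submodule.smul_mono le_rfl inf_le_right (h4.le ⟨h3, LinearMap.mem_range_self _ (x - z)⟩)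
      rw [LinearMap.range_eq_map, ← Submodule.map_smul''] at h6
      obtain ⟨y', hy', hy''⟩ := h6
      have h7 : y' = x - z := QCoh.app_injective_of_mono (kernel.ι γ) W hy''
      rw [h7] at hy'
      show (Formal.modPowπ I (n + 1) M).app W x = 0
      rw [modPowπ_app_eq_zero_iff I (n + 1) M hW, ← sub_add_cancel x z]
      exact add_mem hy' hz
    refine ⟨Abelian.epiDesc (q n) _ hz ≫ v', ?_⟩
    rw [← Category.assoc, Abelian.comp_epiDesc, hv']
  obtain ⟨eM, heM⟩ := Formal61.Sys.exists_completion_iso M q hq hqc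
  let a : M ⟶ H := kernel.ι γ ≫ biprod.fst
  refine ⟨M, a, eM.symm, hM, ⟨e + k, ?_, ?_⟩, fun n => ?_⟩
  · haveI : Mono (kernel.ι a ≫ kernel.ι γ ≫ biprod.snd) := Preadditive.mono_of_cancel_zero _ fun w hw => by
      refine (cancel_mono (kernel.ι a)).1 ?_
      refine (cancel_mono (kernel.ι γ)).1 ?_
      rw [zero_comp, zero_comp]
      refine biprod.hom_ext _ _ ?_ ?_
      · rw [zero_comp, Category.assoc, Category.assoc]
        exact (congrArg (w ≫ ·) (kernel.condition a)).trans comp_zero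
      · simpa only [zero_comp, Category.assoc] using hw
    exact killed_pow_mono K (by omega)
      (CohDev.killed_of_mono (I := K ^ k) (kernel.ι a ≫ kernel.ι γ ≫ biprod.snd) hMAk)
  · refine killed_pow_mono K (Nat.le_succ (e + k)) ?_
    intro W r hr y
    haveI := hH.1
    obtain ⟨h, rfl⟩ := QCoh.app_surjective_of_epi (cokernel.π a) W.2 y
    obtain ⟨x, hx⟩ := exists_app_eq_of_kernel γ W.1 (r • (biprod.inl : H ⟶ H').app W.1 h) (by
      exact (Scheme.Modules.Hom.app_smul _ _ _).trans (hMCk W r hr _))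
    refine (Scheme.Modules.Hom.app_smul _ _ _).symm.trans ?_
    have h1 : a.app W.1 x = r • h := by
      rw [FormalFun.app_comp, hx, Scheme.Modules.Hom.app_smul, ← FormalFun.app_comp, biprod.inl_fst]
      rfl
    rw [← h1, ← FormalFun.app_comp, cokernel.condition]
    rfl
  · rw [Iso.symm_inv]
    refine (Category.assoc _ _ _).symm.trans ((congrArg (· ≫ α.app (op n)) (heM n)).trans ?_)
    rw [← hβ1 n, ← Category.assoc, hqβ n]
    rw [Category.assoc, cπ_cmap, ← Category.assoc]
    rfl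

end Groth.Agent.FormalExist.Tricky
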