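import Groth.Agent.FormalExist.PushFF
import Groth.Agent.FormalExist.Tricky
import Groth.Agent.S0036
import Groth.Agent.ModShf.GrothAb

/-!
# The map of a formal module to the completion of the direct image of an algebraization of its pullback
-/

set_option autoImplicit false

universe u

open CategoryTheory Limits AlgebraicGeometry Opposite TopologicalSpace
open Groth.Agent

noncomputable section

namespace Groth.Agent.FormalExist.Alpha

open Tricky

variable {A : Type u} [CommRing A] {X Y : Scheme.{u}} [X.Over (Spec (CommRingCat.of A))]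
  [Y.Over (Spec (CommRingCat.of A))] {I : Ideal A} [AlgebraicGeometry.IsNoetherian X] (h : Y ⟶ X) [IsProper h]

theorem isCoh_push {M : Y.Modules} (hM : Coh.IsCoh M) : Coh.IsCoh ((Scheme.Modules.pushforward h).obj M) := by
  haveI : IsLocallyNoetherian Y := LocallyOfFiniteType.isLocallyNoetherian h
  exact CohDev.isCoh_of_iso ((Scheme.Modules.pushforward h).rightDerivedZeroIsoSelf.app M)
    (Groth.Agent.S0036.result h M hM 0)

/-- A map to the completion of the direct image lifting the units. -/
theorem exists_alpha (hh : h ≫ (X ↘ Spec (CommRingCat.of A)) = Y ↘ Spec (CommRingCat.of A))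
    {G : ℕᵒᵖ ⥤ X.Modules} (hG : Formal.IsCohFormal I G) {M : Y.Modules} (hM : Coh.IsCoh M)
    (e : Formal.completion I M ≅ G ⋙ Scheme.Modules.pullback h) :
    ∃ (α : G ⟶ Formal.completion I ((Scheme.Modules.pushforward h).obj M))
      (v : ∀ n, (Formal.completion I ((Scheme.Modules.pushforward h).obj M)).obj (op n) ⟶
        (Scheme.Modules.pushforward h).obj ((Scheme.Modules.pullback h).obj (G.obj (op n)))),
      (∀ n, cπ I ((Scheme.Modules.pushforward h).obj M) n ≫ v n =
        (Scheme.Modules.pushforward h).map (Formal.modPowπ I (n + 1) M ≫ e.hom.app (op n))) ∧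
      ∀ n, α.app (op n) ≫ v n = (Scheme.Modules.pullbackPushforwardAdjunction h).unit.app (G.obj (op n)) := by
  classical
  let H := (Scheme.Modules.pushforward h).obj M
  have hH : Coh.IsCoh H := isCoh_push h hM
  haveI := hH.1
  let ph := Scheme.Modules.pushforward h
  let P : ℕ → X.Modules := fun n => ph.obj ((Scheme.Modules.pullback h).obj (G.obj (op n)))
  let w : ∀ n, H ⟶ P n := fun n => ph.map (Formal.modPowπ I (n + 1) M ≫ e.hom.app (op n))
  let T : ∀ {a b : ℕ} (_ : a ≤ b), P b ⟶ P a := fun {a b} hab =>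
    ph.map ((Scheme.Modules.pullback h).map (trM G hab))
  have hwT : ∀ {a b : ℕ} (hab : a ≤ b), w b ≫ T hab = w a := fun {a b} hab => by
    refine (ph.map_comp _ _).symm.trans (congrArg ph.map ?_)
    refine (Category.assoc _ _ _).trans ((congrArg (_ ≫ ·) (e.hom.naturality (homOfLE hab).op).symm).trans ?_)
    exact (Category.assoc _ _ _).symm.trans
      (congrArg (· ≫ _) (Formal61.Sys.modPowπ_comp_completion_map I M hab))
  have hkill : ∀ n, Formal.KilledBy (I ^ (n + 1)) (P n) := fun n a ha => by
    refine (Formal61.Pullback.pushforward_smulMod h hh _ a).symm.trans ?_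
    rw [← Formal61.Pullback.pullback_smulMod h hh, hG.2.1 n a ha, Functor.map_zero, Functor.map_zero]
  choose v hv using fun n => (Formal61.Sys.isModQuot_modPowπ I (n + 1) H).exists_desc_of_killedBy (w n) (hkill n)
  -- the uniform bound
  obtain ⟨σ, hσ⟩ := isCompact_univ.elim_finite_subcover
    (fun W : X.affineOpens => ((W : X.Opens) : Set X)) (fun W => (W : X.Opens).isOpen) fun x _ => by
      obtain ⟨W, hW, hx, -⟩ := exists_isAffineOpen_mem_and_subset (X := X) (Opens.mem_top x)
      exact Set.mem_iUnion.mpr ⟨⟨W, hW⟩, hx⟩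
  choose cW hcW using fun W : {W // W ∈ σ} => PushFF.exists_bound I h hh hM W.1.2
  let c := Finset.univ.sup cW
  have hbd : ∀ x : X, ∃ W : {W // W ∈ σ}, x ∈ (W.1 : X.Opens) := fun x => by
    obtain ⟨W, hW⟩ := Set.mem_iUnion.mp (hσ (Set.mem_univ x))
    obtain ⟨hWσ, hxW⟩ := Set.mem_iUnion.mp hW
    exact ⟨⟨W, hWσ⟩, hxW⟩
  have hPq : ∀ n, ((Scheme.Modules.pullback h).obj (G.obj (op n))).IsQuasicoherent := fun n =>
    (ZClosLib.CohDescent.isCoh_pullback h _ (hG.1 n)).1
  have hPH : ∀ n, (P n).IsQuasicoherent := fun n => by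
    haveI := hPq n
    exact QCoh.isQuasicoherent_pushforward h _
  have hker : ∀ n, kernel.ι (w (n + c)) ≫ cπ I H n = 0 := fun n => by
    haveI := hPH (n + c)
    haveI := QCoh.isQuasicoherent_X₁ (S := ShortComplex.mk (kernel.ι (w (n + c))) (w (n + c)) (kernel.condition _))
      (ShortComplex.exact_of_f_is_kernel _ (kernelIsKernel _))
    refine QCohGen.Noeth.eq_zero_of_cover _ fun x => ?_
    obtain ⟨W, hxW⟩ := hbd x
    refine ⟨W.1, hxW, fun a => ?_⟩
    rw [FormalFun.app_comp]
    refine (cπ_app_eq_zero_iff H n W.1 _).mpr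
      ((hcW W c (Finset.le_sup (f := cW) (Finset.mem_univ W)) n).1 _ ?_)
    let b : Γ(M, h ⁻¹ᵁ W.1.1) := (kernel.ι (w (n + c))).app W.1.1 a
    have h1 : (Formal.modPowπ I (n + c + 1) M ≫ e.hom.app (op (n + c))).app (h ⁻¹ᵁ W.1.1) b = 0 :=
      (FormalFun.app_comp (kernel.ι (w (n + c))) (w (n + c)) W.1.1 a).symm.trans
        (congrArg (fun f => Scheme.Modules.Hom.app f W.1.1 a) (kernel.condition (w (n + c))))
    exact QCoh.app_injective_of_mono (e.hom.app (op (n + c))) _
      ((FormalFun.app_comp _ _ _ _).symm.trans (h1.trans (map_zero _).symm))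
  have him : ∀ n, T (Nat.le_add_right n c) ≫ cokernel.π (w n) = 0 := fun n => by
    haveI := hPH (n + c)
    refine QCohGen.Noeth.eq_zero_of_cover _ fun x => ?_
    obtain ⟨W, hxW⟩ := hbd x
    refine ⟨W.1, hxW, fun a => ?_⟩
    let a' : Γ((Scheme.Modules.pullback h).obj (G.obj (op (n + c))), h ⁻¹ᵁ W.1.1) := a
    obtain ⟨b, hb⟩ := (hcW W c (Finset.le_sup (f := cW) (Finset.mem_univ W)) n).2
      ((e.inv.app (op (n + c))).app (h ⁻¹ᵁ W.1.1) a')
    have k1 : (Scheme.Modules.pullback h).map (trM G (Nat.le_add_right n c)) =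
        e.inv.app (op (n + c)) ≫ (Formal.completion I M).map (homOfLE (Nat.le_add_right n c)).op ≫
          e.hom.app (op n) := by
      rw [e.hom.naturality, e.inv_hom_id_app_assoc]
      rfl
    have h1 : (T (Nat.le_add_right n c)).app W.1.1 a = (w n).app W.1.1 b :=
      (congrArg (fun f => Scheme.Modules.Hom.app f (h ⁻¹ᵁ W.1.1) a') k1).trans
        ((FormalFun.app_comp _ _ _ _).trans ((FormalFun.app_comp _ _ _ _).trans
          ((congrArg ((e.hom.app (op n)).app (h ⁻¹ᵁ W.1.1)) hb.symm).trans
            (FormalFun.app_comp (Formal.modPowπ I (n + 1) M) (e.hom.app (op n)) (h ⁻¹ᵁ W.1.1) b).symm)))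
    rw [FormalFun.app_comp, h1, ← FormalFun.app_comp, cokernel.condition]
    rfl
  -- the maps `G (n + c + c) ⟶ H / I^(n+1) H`
  let adj := Scheme.Modules.pullbackPushforwardAdjunction h
  let l : ∀ m, G.obj (op (m + c)) ⟶ Abelian.image (w m) := fun m =>
    kernel.lift _ (adj.unit.app (G.obj (op (m + c))) ≫ T (Nat.le_add_right m c)) (by
      rw [Category.assoc, him, comp_zero])
  have hl : ∀ m, l m ≫ Abelian.image.ι (w m) = adj.unit.app (G.obj (op (m + c))) ≫ T (Nat.le_add_right m c) :=
    fun m => kernel.lift_ι _ _ _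
  have hT : ∀ n, kernel.ι (Abelian.factorThruImage (w (n + c))) ≫ cπ I H n = 0 := fun n => by
    rw [← kernel.lift_ι (w (n + c)) (kernel.ι (Abelian.factorThruImage (w (n + c)))) (by
      conv_lhs => arg 2; rw [← Abelian.image.fac (w (n + c))]
      rw [kernel.condition_assoc, zero_comp]), Category.assoc, hker, comp_zero]
  let D : ∀ n, Abelian.image (w (n + c)) ⟶ (Formal.completion I H).obj (op n) := fun n =>
    Abelian.epiDesc _ _ (hT n)
  have hD : ∀ n, Abelian.factorThruImage (w (n + c)) ≫ D n = cπ I H n := fun n => Abelian.comp_epiDesc _ _ _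
  choose a ha using fun n => (Formal61.Sys.isModQuot_map hG.2.1 hG.2.2
    ((Nat.le_add_right n c).trans (Nat.le_add_right (n + c) c))).exists_desc_of_killedBy (l (n + c) ≫ D n)
    (Formal61.Sys.killedBy_modPow I (n + 1) H)
  have hDv : ∀ n, D n ≫ v n = Abelian.image.ι (w (n + c)) ≫ T (Nat.le_add_right n c) := fun n => by
    rw [← cancel_epi (Abelian.factorThruImage (w (n + c))), ← Category.assoc, hD, ← Category.assoc,
      Abelian.image.fac, hwT]
    exact hv n
  refine ⟨NatTrans.ofOpSequence a fun n => ?_, v, hv, fun n => ?_⟩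
  · have hle : n + c ≤ n + 1 + c := by omega
    have hle2 : n + c + c ≤ n + 1 + c + c := by omega
    haveI : Epi (trM G ((Nat.le_add_right (n + 1) c).trans (Nat.le_add_right (n + 1 + c) c))) :=
      (Formal61.Sys.isModQuot_map hG.2.1 hG.2.2 _).epi
    let ρ : Abelian.image (w (n + 1 + c)) ⟶ Abelian.image (w (n + c)) :=
      kernel.map _ _ (T hle) (cokernel.desc _ (T hle ≫ cokernel.π (w (n + c))) (by
        rw [← Category.assoc, hwT, cokernel.condition])) (cokernel.π_desc _ _ _)
    have hρ : ρ ≫ Abelian.image.ι (w (n + c)) = Abelian.image.ι (w (n + 1 + c)) ≫ T hle := kernel.lift_ι _ _ _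
    have h1 : l (n + 1 + c) ≫ ρ = trM G hle2 ≫ l (n + c) := by
      rw [← cancel_mono (Abelian.image.ι (w (n + c))), Category.assoc, hρ, ← Category.assoc, hl, Category.assoc, Category.assoc,
        hl, ← Category.assoc (trM G hle2)]
      have h0 : trM G hle2 ≫ adj.unit.app (G.obj (op (n + c + c))) = adj.unit.app _ ≫ T hle2 :=
        adj.unit.naturality (trM G hle2)
      rw [h0, Category.assoc]
      refine congrArg (adj.unit.app _ ≫ ·) ?_
      simp only [T, ← Functor.map_comp, ← op_comp, homOfLE_comp]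
    have h2 : D (n + 1) ≫ tr1 (Formal.completion I H) n = ρ ≫ D n := by
      rw [← cancel_epi (Abelian.factorThruImage (w (n + 1 + c))), ← Category.assoc, hD, cπ_trM]
      have h3 : Abelian.factorThruImage (w (n + 1 + c)) ≫ ρ = Abelian.factorThruImage (w (n + c)) := by
        rw [← cancel_mono (Abelian.image.ι (w (n + c))), Category.assoc, hρ, ← Category.assoc,
          Abelian.image.fac, Abelian.image.fac, hwT]
      rw [← Category.assoc, h3, hD]
    rw [← cancel_epi (trM G ((Nat.le_add_right (n + 1) c).trans (Nat.le_add_right (n + 1 + c) c)))]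
    refine (Category.assoc _ _ _).symm.trans ?_
    refine Eq.trans ?_ ((congrArg (· ≫ tr1 (Formal.completion I H) n) (ha (n + 1))).symm.trans (Category.assoc _ _ _))
    refine Eq.trans ?_ (Category.assoc _ _ _).symm
    rw [h2, ← Category.assoc (l _), h1, Category.assoc (trM G hle2), ← ha n, ← Category.assoc,
      ← G.map_comp, ← G.map_comp, ← op_comp, ← op_comp, homOfLE_comp, homOfLE_comp]
  · haveI : Epi (trM G ((Nat.le_add_right n c).trans (Nat.le_add_right (n + c) c))) :=
      (Formal61.Sys.isModQuot_map hG.2.1 hG.2.2 _).epi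
    rw [← cancel_epi (trM G ((Nat.le_add_right n c).trans (Nat.le_add_right (n + c) c))), ← Category.assoc]
    refine (congrArg (· ≫ v n) (ha n)).trans ?_
    refine (Category.assoc _ _ _).trans ((congrArg (l (n + c) ≫ ·) (hDv n)).trans ?_)
    refine (Category.assoc _ _ _).symm.trans ((congrArg (· ≫ T (Nat.le_add_right n c)) (hl (n + c))).trans ?_)
    refine (Category.assoc _ _ _).trans ?_
    refine Eq.trans ?_ (adj.unit.naturality (trM G ((Nat.le_add_right n c).trans (Nat.le_add_right (n + c) c)))).symm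
    refine congrArg (adj.unit.app _ ≫ ·) ?_
    simp only [T, Functor.comp_map, ← Functor.map_comp, ← op_comp, homOfLE_comp]
    rfl

end Groth.Agent.FormalExist.Alpha
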