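import Groth.Agent.FormalFun.Powers
import Mathlib.AlgebraicGeometry.AffineScheme

/-!
# Affine charts over the base
-/

set_option autoImplicit false

universe u

open CategoryTheory Limits AlgebraicGeometry Opposite
open Groth.Agent

noncomputable section

namespace Groth.Agent.FormalExist.Basic

variable {A : Type u} [CommRing A] {X : Scheme.{u}} [X.Over (Spec (CommRingCat.of A))]

theorem fromSpec_str {V : X.Opens} (hV : IsAffineOpen V) :
    hV.fromSpec ≫ (X ↘ Spec (CommRingCat.of A)) = Spec.map (CommRingCat.ofHom (FormalFun.gA (A := A) V)) := by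
  have h1 : X ↘ Spec (CommRingCat.of A) =
      X.toSpecΓ ≫ Spec.map ((Scheme.ΓSpecIso (CommRingCat.of A)).inv ≫ (X ↘ Spec (CommRingCat.of A)).appTop) := by
    rw [Spec.map_comp, ← Scheme.toSpecΓ_naturality_assoc, toSpecΓ_SpecMap_ΓSpecIso_inv, Category.comp_id]
  rw [h1, hV.fromSpec_toSpecΓ_assoc, ← Spec.map_comp]
  rfl

theorem ι_str {V : X.Opens} (hV : IsAffineOpen V) :
    V.ι ≫ (X ↘ Spec (CommRingCat.of A)) =
      hV.isoSpec.hom ≫ Spec.map (CommRingCat.ofHom (FormalFun.gA (A := A) V)) := by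
  rw [← fromSpec_str hV, ← Category.assoc, hV.isoSpec_hom_fromSpec]

end Groth.Agent.FormalExist.Basic
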