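import Groth.Agent.Adic.LimitSys
import Groth.Prelude.Def_Algz
import Mathlib.Algebra.Category.ModuleCat.Subobject
import Mathlib.Algebra.Category.ModuleCat.EpiMono

/-!
# Systems of modules pro-isomorphic to systems with surjective transition maps
-/

set_option autoImplicit false

universe u

open CategoryTheory CategoryTheory.Limits Opposite
open Groth.Agent

noncomputable section

namespace Groth.Agent.FormalExist.ProLim

variable {A : Type u} [CommRing A] {X Y : ℕᵒᵖ ⥤ ModuleCat.{u} A}

theorem tr_tr (X : ℕᵒᵖ ⥤ ModuleCat.{u} A) {a b c : ℕ} (h : a ≤ b) (h' : b ≤ c) (x : X.obj (op c)) :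
    (ARSys.tr X h).hom ((ARSys.tr X h').hom x) = (ARSys.tr X (h.trans h')).hom x := by
  rw [← LinearMap.comp_apply, ← ModuleCat.hom_comp, ← X.map_comp, ← op_comp, homOfLE_comp]

theorem tr_surjective (hY : ∀ n, Function.Surjective (ARSys.tr Y (Nat.le_succ n)).hom) {a b : ℕ} (h : a ≤ b) :
    Function.Surjective (ARSys.tr Y h).hom := by
  induction b, h using Nat.le_induction with
  | base =>
    rw [show ARSys.tr Y (le_refl a) = 𝟙 _ from Y.map_id _]
    exact fun x => ⟨x, rfl⟩
  | succ b hb ih =>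
    intro y
    obtain ⟨z, rfl⟩ := ih y
    obtain ⟨w, rfl⟩ := hY b z
    exact ⟨w, (tr_tr Y hb (Nat.le_succ b) w).symm⟩

variable {m : ℕ → ℕ} {hm : Monotone m} {a : DerCA.reindex X hm ⟶ Y}

theorem a_tr (a : DerCA.reindex X hm ⟶ Y) {p q : ℕ} (h : p ≤ q) (x : X.obj (op (m q))) :
    (ARSys.tr Y h).hom ((a.app (op q)).hom x) = (a.app (op p)).hom ((ARSys.tr X (hm h)).hom x) :=
  (congrArg (fun φ => φ.hom x) (a.naturality (homOfLE h).op)).symm

theorem pro_key {n k K : ℕ} (h : n ≤ k) (h' : k ≤ K) (b : Y.obj (op k) ⟶ X.obj (op (m n)))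
    (hb : a.app (op k) ≫ b = ARSys.tr (DerCA.reindex X hm) h) (u : X.obj (op (m K))) :
    (ARSys.tr X (hm (h.trans h'))).hom u = b.hom ((ARSys.tr Y h').hom ((a.app (op K)).hom u)) := by
  rw [a_tr a h']
  refine Eq.trans ?_ (congrArg (fun φ => φ.hom ((ARSys.tr X (hm h')).hom u)) hb).symm
  exact (tr_tr X (hm h) (hm h') u).symm

theorem imageSubobject_range {M N : ModuleCat.{u} A} (f : M ⟶ N) :
    ModuleCat.subobjectModule N (imageSubobject f) = LinearMap.range f.hom := by
  show LinearMap.range (imageSubobject f).arrow.hom = _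
  conv_rhs => rw [← imageSubobject_arrow_comp f]
  rw [ModuleCat.hom_comp, LinearMap.range_comp_of_range_eq_top]
  exact LinearMap.range_eq_top.mpr ((ModuleCat.epi_iff_surjective _).mp inferInstance)

theorem isML_of_pro (hle : ∀ n, n ≤ m n) (ha : DerCA.IsProIso a)
    (hY : ∀ n, Function.Surjective (ARSys.tr Y (Nat.le_succ n)).hom) : ARSys.IsML X := by
  intro n
  obtain ⟨k, hk, b, hb1, -⟩ := ha n
  refine ⟨m k, fun s hs => (ModuleCat.subobjectModule _).injective ?_⟩
  rw [imageSubobject_range, imageSubobject_range]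
  apply le_antisymm
  · rintro _ ⟨x, rfl⟩
    exact ⟨(ARSys.tr X (Nat.add_le_add_left hs n)).hom x, tr_tr X _ _ x⟩
  · rintro _ ⟨x, rfl⟩
    have hkm : m k ≤ n + m k := Nat.le_add_left _ _
    have hK : k ≤ n + s := ((hle k).trans hs).trans (Nat.le_add_left _ _)
    let y := (a.app (op k)).hom ((ARSys.tr X hkm).hom x)
    obtain ⟨k', hk', b', -, hb'2⟩ := ha (n + s)
    obtain ⟨y', hy'⟩ := tr_surjective hY (hK.trans hk') y
    refine ⟨(ARSys.tr X (hle (n + s))).hom (b'.hom y'), ?_⟩
    have h1 : (a.app (op (n + s))).hom (b'.hom y') = (ARSys.tr Y hk').hom y' :=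
      congrArg (fun φ => φ.hom y') hb'2
    have h2 : (ARSys.tr X (hm (hk.trans hK))).hom (b'.hom y') = b.hom y :=
      (pro_key hk hK b hb1 (b'.hom y')).trans (congrArg b.hom
        (((congrArg (ARSys.tr Y hK).hom h1).trans (tr_tr Y hK hk' y')).trans hy'))
    have h3 : b.hom y = (ARSys.tr X (hm hk)).hom ((ARSys.tr X hkm).hom x) :=
      (congrArg (fun φ => φ.hom ((ARSys.tr X hkm).hom x)) hb1)
    show (ARSys.tr X _).hom ((ARSys.tr X _).hom _) = (ARSys.tr X _).hom x
    refine (tr_tr X _ _ _).trans ((tr_tr X (hle n) (hm (hk.trans hK)) _).symm.trans ?_)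
    refine (congrArg (ARSys.tr X (hle n)).hom (h2.trans h3)).trans ?_
    exact (congrArg (ARSys.tr X (hle n)).hom (tr_tr X _ _ x)).trans (tr_tr X _ _ x)

theorem limit_ext {x y : ↑(limit X)} (h : ∀ n, (limit.π X (op n)).hom x = (limit.π X (op n)).hom y) : x = y :=
  Concrete.limit_ext X x y fun ⟨n⟩ => h n

theorem tr_π {p q : ℕ} (h : p ≤ q) (x : ↑(limit X)) :
    (ARSys.tr X h).hom ((limit.π X (op q)).hom x) = (limit.π X (op p)).hom x :=
  congrArg (fun φ => φ.hom x) (limit.w X (homOfLE h).op)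

theorem exists_of_compat (g : ∀ n, X.obj (op n)) (hg : ∀ p q (h : p ≤ q), (ARSys.tr X h).hom (g q) = g p) :
    ∃ x : ↑(limit X), ∀ n, (limit.π X (op n)).hom x = g n := by
  let c : Cone X :=
    { pt := ModuleCat.of A A
      π :=
        { app := fun n => ModuleCat.ofHom (LinearMap.toSpanSingleton A _ (g n.unop))
          naturality := fun i j f => ModuleCat.hom_ext (LinearMap.ext_ring (by
            show (1 : A) • g j.unop = (X.map f).hom ((1 : A) • g i.unop)
            rw [one_smul, one_smul]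
            exact (hg j.unop i.unop (leOfHom f.unop)).symm)) } }
  refine ⟨(limit.lift X c).hom (1 : A), fun n => ?_⟩
  refine (congrArg (fun φ => φ.hom (1 : A)) (limit.lift_π c (op n))).trans ?_
  exact one_smul A (g n)

/-- The projections of the limit to the surjective system. -/
def πY (a : DerCA.reindex X hm ⟶ Y) (n : ℕ) : ↑(limit X) →ₗ[A] Y.obj (op n) :=
  (a.app (op n)).hom ∘ₗ (limit.π X (op (m n))).hom

theorem πY_eq_zero (a : DerCA.reindex X hm ⟶ Y) {n : ℕ} {x : ↑(limit X)}
    (hx : (limit.π X (op (m n))).hom x = 0) : πY a n x = 0 :=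
  (congrArg (a.app (op n)).hom hx).trans (map_zero _)

theorem limSys (hle : ∀ n, n ≤ m n) (ha : DerCA.IsProIso a) (I : Ideal A)
    (hs : ∀ n, Function.Surjective (ARSys.tr Y (Nat.le_succ n)).hom)
    (hker : ∀ n, LinearMap.ker (ARSys.tr Y (Nat.le_succ n)).hom = I ^ (n + 1) • ⊤) :
    Adic.LimSys A I (fun n => Y.obj (op n)) (fun n => (ARSys.tr Y (Nat.le_succ n)).hom) ↑(limit X) (πY a) where
  surj := hs
  ker_eq := hker
  compat n := LinearMap.ext fun x => by
    show (ARSys.tr Y _).hom ((a.app _).hom _) = (a.app _).hom _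
    exact (a_tr a _ _).trans (congrArg (a.app (op n)).hom (tr_π _ x))
  inj x hx := limit_ext fun n => by
    obtain ⟨k, hk, b, hb1, -⟩ := ha n
    have h := pro_key hk le_rfl b hb1 ((limit.π X (op (m k))).hom x)
    have h0 : (ARSys.tr X (hm hk)).hom ((limit.π X (op (m k))).hom x) = 0 :=
      h.trans ((congrArg (fun t => b.hom ((ARSys.tr Y (le_refl k)).hom t)) (hx k)).trans
        ((congrArg b.hom (map_zero (ARSys.tr Y (le_refl k)).hom)).trans (map_zero b.hom)))
    rw [map_zero]
    refine (tr_π (hle n) x).symm.trans ?_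
    refine (congrArg (ARSys.tr X (hle n)).hom ((tr_π (hm hk) x).symm.trans h0)).trans ?_
    exact map_zero _
  lift y hy := by
    have hy' : ∀ {p q : ℕ} (h : p ≤ q), (ARSys.tr Y h).hom (y q) = y p := by
      intro p q h
      induction q, h using Nat.le_induction with
      | base =>
        rw [show ARSys.tr Y (le_refl p) = 𝟙 _ from Y.map_id _]
        rfl
      | succ q hq ih =>
        rw [← tr_tr Y hq (Nat.le_succ q)]
        exact (congrArg _ (hy q)).trans ih
    choose k hk b hb1 hb2 using ha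
    let w : ∀ n, X.obj (op (m n)) := fun n => (b n).hom (y (k n))
    have hw : ∀ n, (a.app (op n)).hom (w n) = y n := fun n =>
      (congrArg (fun φ => φ.hom (y (k n))) (hb2 n)).trans (hy' (hk n))
    have hwK : ∀ n K (h : k n ≤ K), (ARSys.tr X (hm ((hk n).trans h))).hom (w K) = w n := fun n K h => by
      exact (pro_key (hk n) h (b n) (hb1 n) (w K)).trans
        (congrArg (b n).hom ((congrArg (ARSys.tr Y h).hom (hw K)).trans (hy' h)))
    have hwc : ∀ p q (h : p ≤ q), (ARSys.tr X (hm h)).hom (w q) = w p := fun p q h => by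
      rw [← hwK q (max (k p) (k q)) (le_max_right _ _), tr_tr, hwK p _ (le_max_left _ _)]
    obtain ⟨x, hx⟩ := exists_of_compat (fun n => (ARSys.tr X (hle n)).hom (w n)) fun p q h => by
      rw [tr_tr, ← tr_tr X (hle p) (hm h), hwc p q h]
    refine ⟨x, fun n => ?_⟩
    show (a.app (op n)).hom _ = y n
    refine (congrArg (a.app (op n)).hom ((hx (m n)).trans ?_)).trans (hw n)
    exact hwc n (m n) (hle n)

end Groth.Agent.FormalExist.ProLim
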