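import Groth.Agent.FormalExist.Tricky
import Groth.Agent.Formal61.Sys
import Groth.Prelude.Def_Algz

/-!
# Global sections of formal modules on `Spec A`
-/

set_option autoImplicit false

universe u

open CategoryTheory CategoryTheory.Limits AlgebraicGeometry Opposite
open Groth.Agent

noncomputable section

namespace Groth.Agent.FormalExist.SpecSec

variable {A : Type u} [CommRing A]

/-- `Spec A` over itself -/
@[reducible] def selfOver : Scheme.Over (Spec (CommRingCat.of A)) (Spec (CommRingCat.of A)) := ⟨𝟙 _⟩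

attribute [local instance] selfOver

theorem gA_top : FormalFun.gA (A := A) (X := (Spec (CommRingCat.of A))) ⊤ =
    (Scheme.ΓSpecIso (CommRingCat.of A)).inv.hom := by
  ext a
  show (Spec (CommRingCat.of A)).presheaf.map _ ((Scheme.Hom.appTop (𝟙 (Spec (CommRingCat.of A))))
    ((Scheme.ΓSpecIso (CommRingCat.of A)).inv a)) = _
  rw [Scheme.Hom.id_appTop]
  exact congrArg (fun g => g.hom ((Scheme.ΓSpecIso (CommRingCat.of A)).inv a)) ((Spec (CommRingCat.of A)).presheaf.map_id _)

theorem gA_smul (M : Scheme.Modules (Spec (CommRingCat.of A))) (a : A)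
    (x : (moduleSpecΓFunctor (R := CommRingCat.of A)).obj M) :
    (FormalFun.gA (A := A) (X := (Spec (CommRingCat.of A))) ⊤ a • (show Γ(M, (⊤ : Scheme.Opens (Spec (CommRingCat.of A)))) from x)) =
      (show Γ(M, (⊤ : Scheme.Opens (Spec (CommRingCat.of A)))) from a • x) := by
  rw [gA_top]
  rfl

theorem gA_surjective : Function.Surjective (FormalFun.gA (A := A) (X := (Spec (CommRingCat.of A))) ⊤) := by
  rw [gA_top]
  exact (ConcreteCategory.bijective_of_isIso (Scheme.ΓSpecIso (CommRingCat.of A)).inv).2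

theorem mem_map_smul_iff (M : Scheme.Modules (Spec (CommRingCat.of A))) (J : Ideal A)
    (x : (moduleSpecΓFunctor (R := CommRingCat.of A)).obj M) :
    (show Γ(M, (⊤ : Scheme.Opens (Spec (CommRingCat.of A)))) from x) ∈
        J.map (FormalFun.gA (A := A) (X := (Spec (CommRingCat.of A))) ⊤) • (⊤ : Submodule Γ((Spec (CommRingCat.of A)), (⊤ : Scheme.Opens (Spec (CommRingCat.of A)))) Γ(M, (⊤ : Scheme.Opens (Spec (CommRingCat.of A))))) ↔
      x ∈ J • (⊤ : Submodule A ((moduleSpecΓFunctor (R := CommRingCat.of A)).obj M)) := by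
  constructor
  · intro h
    refine Submodule.smul_induction_on (p := fun y : Γ(M, (⊤ : Scheme.Opens (Spec (CommRingCat.of A)))) =>
      (show (moduleSpecΓFunctor (R := CommRingCat.of A)).obj M from y) ∈ J • (⊤ : Submodule A _)) h
      (fun r hr z _ => ?_) fun y z hy hz => Submodule.add_mem _ hy hz
    obtain ⟨a, ha, rfl⟩ := (Ideal.mem_map_iff_of_surjective _ gA_surjective).mp hr
    rw [gA_smul M a z]
    exact Submodule.smul_mem_smul ha trivial
  · intro h
    refine Submodule.smul_induction_on (p := fun y : (moduleSpecΓFunctor (R := CommRingCat.of A)).obj M =>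
      (show Γ(M, (⊤ : Scheme.Opens (Spec (CommRingCat.of A)))) from y) ∈ J.map (FormalFun.gA (A := A) (X := (Spec (CommRingCat.of A))) ⊤) • ⊤) h
      (fun a ha z _ => ?_) fun y z hy hz => Submodule.add_mem _ hy hz
    rw [← gA_smul M a z]
    exact Submodule.smul_mem_smul (Ideal.mem_map_of_mem _ ha) trivial

variable {I : Ideal A} {G : ℕᵒᵖ ⥤ Scheme.Modules (Spec (CommRingCat.of A))}

/-- transition maps on global sections -/
abbrev tr (G : ℕᵒᵖ ⥤ Scheme.Modules (Spec (CommRingCat.of A))) (n : ℕ) :=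
  ((G ⋙ moduleSpecΓFunctor (R := CommRingCat.of A)).map (homOfLE (Nat.le_succ n)).op).hom

theorem surjective_tr (hG : Formal.IsCohFormal I G) (n : ℕ) : Function.Surjective (tr G n) := by
  haveI := (hG.1 (n + 1)).1
  haveI := (hG.1 n).1
  haveI : Epi (G.map (homOfLE (Nat.le_succ n)).op) := Formal61.Sys.IsModQuot.epi (hG.2.2 n)
  exact QCoh.app_surjective_of_epi (G.map (homOfLE (Nat.le_succ n)).op) (isAffineOpen_top (Spec (CommRingCat.of A)))

theorem ker_tr (hG : Formal.IsCohFormal I G) (n : ℕ) :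
    LinearMap.ker (tr G n) = I ^ (n + 1) • ⊤ := by
  haveI := (hG.1 (n + 1)).1
  ext x
  rw [← mem_map_smul_iff, Ideal.map_pow]
  exact Tricky.app_eq_zero_iff (hG.2.2 n) ⟨⊤, isAffineOpen_top (Spec (CommRingCat.of A))⟩ x

end Groth.Agent.FormalExist.SpecSec
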