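import Groth.Agent.FormalExist.Sect
import Groth.Agent.FormalExist.SpecSec
import Groth.Agent.FormalExist.ProLim

/-!
# Consequences of canonical extension for the systems of sections
-/

set_option autoImplicit false

universe u

open CategoryTheory CategoryTheory.Limits AlgebraicGeometry Opposite
open Groth.Agent

noncomputable section

namespace Groth.Agent.FormalExist.Canon

variable {A : Type u} [CommRing A]

/-- Global sections of the tilde of the sections are the sections. -/
def sectModIso (U : (Spec (CommRingCat.of A)).Opens) (G : ℕᵒᵖ ⥤ (U : Scheme.{u}).Modules) :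
    Algz.sectMod A U G ≅ Algz.sectSys A U G ⋙ moduleSpecΓFunctor (R := CommRingCat.of A) :=
  Functor.isoWhiskerLeft (Algz.sectMod A U G) (tilde.toTildeΓNatIso (R := CommRingCat.of A))

theorem exists_surjective_system {I : Ideal A} {U : (Spec (CommRingCat.of A)).Opens}
    {G : ℕᵒᵖ ⥤ (U : Scheme.{u}).Modules} (h : Algz.CanonicallyExtends A I U G) :
    ∃ Y : ℕᵒᵖ ⥤ ModuleCat.{u} A, Algz.IsProIsomorphic (Algz.sectMod A U G) Y ∧
      (∀ n, Function.Surjective (ARSys.tr Y (Nat.le_succ n)).hom) ∧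
      ∀ n, LinearMap.ker (ARSys.tr Y (Nat.le_succ n)).hom = I ^ (n + 1) • ⊤ := by
  obtain ⟨G', hG', hpro⟩ := h
  exact ⟨G' ⋙ moduleSpecΓFunctor (R := CommRingCat.of A),
    Sect.isProIsomorphic_of_iso_left (sectModIso U G).symm
      (Sect.isProIsomorphic_map (moduleSpecΓFunctor (R := CommRingCat.of A)) hpro),
    fun n => SpecSec.surjective_tr hG' n, fun n => SpecSec.ker_tr hG' n⟩

theorem isML_sectMod {I : Ideal A} {U : (Spec (CommRingCat.of A)).Opens}
    {G : ℕᵒᵖ ⥤ (U : Scheme.{u}).Modules} (h : Algz.CanonicallyExtends A I U G) :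
    ARSys.IsML (Algz.sectMod A U G) := by
  obtain ⟨Y, ⟨m, hm, hle, a, ha⟩, hs, -⟩ := exists_surjective_system h
  exact ProLim.isML_of_pro hle ha hs

theorem ker_limit_le [IsNoetherianRing A] {I : Ideal A} {U : (Spec (CommRingCat.of A)).Opens}
    {G : ℕᵒᵖ ⥤ (U : Scheme.{u}).Modules} (h : Algz.CanonicallyExtends A I U G) (k : ℕ) :
    ∃ n : ℕ, LinearMap.ker (limit.π (Algz.sectMod A U G) (op n)).hom ≤
      I ^ k • (⊤ : Submodule A ↑(limit (Algz.sectMod A U G))) := by
  obtain ⟨Y, ⟨m, hm, hle, a, ha⟩, hs, hker⟩ := exists_surjective_system h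
  refine ⟨m k, fun x hx => ?_⟩
  have h1 : ProLim.πY a k x = 0 := ProLim.πY_eq_zero a (LinearMap.mem_ker.mp hx)
  have h2 := ((ProLim.limSys hle ha I hs hker).ker_proj_of_fg (IsNoetherian.noetherian I) k).le h1
  exact Submodule.smul_mono_left (Ideal.pow_le_pow_right (Nat.le_succ k)) h2

end Groth.Agent.FormalExist.Canon
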