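import Groth.Agent.QCoh.Qcqs
import Groth.Agent.Formal61.Pullback
import Groth.Agent.Formal61.Sys
import Groth.Agent.FormalExist.QuotLem
import Groth.Agent.CohDev.Coh
import Groth.Prelude.Def_Algz

/-!
# Sections of formal modules on opens of `Spec A`, and pro-isomorphisms
-/

set_option autoImplicit false

universe v v' u

open CategoryTheory CategoryTheory.Limits AlgebraicGeometry Opposite
open Groth.Agent

noncomputable section

namespace Groth.Agent.FormalExist.Sect

section Pro

variable {C : Type u} [Category.{v} C]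

theorem isProIsomorphic_of_iso_left {X X' Y : ARSys.PS C} (e : X ≅ X') (h : Algz.IsProIsomorphic X Y) :
    Algz.IsProIsomorphic X' Y := by
  obtain ⟨m, hm, hle, a, ha⟩ := h
  refine ⟨m, hm, hle, Functor.whiskerLeft _ e.inv ≫ a, fun n => ?_⟩
  obtain ⟨k, hk, b, hb1, hb2⟩ := ha n
  let e' : DerCA.reindex X hm ≅ DerCA.reindex X' hm := Functor.isoWhiskerLeft _ e
  refine ⟨k, hk, b ≫ e'.hom.app (op n), ?_, ?_⟩
  · refine (Category.assoc (e'.inv.app (op k)) (a.app (op k)) _).trans ?_
    refine (congrArg (e'.inv.app (op k) ≫ ·) ((Category.assoc _ _ _).symm.trans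
      (congrArg (· ≫ e'.hom.app (op n)) hb1))).trans ?_
    refine (congrArg (e'.inv.app (op k) ≫ ·) (e'.hom.naturality _)).trans ?_
    exact Iso.inv_hom_id_app_assoc e' _ _
  · refine (Category.assoc b (e'.hom.app (op n)) _).trans ?_
    refine (congrArg (b ≫ ·) ?_).trans hb2
    exact Iso.hom_inv_id_app_assoc e' _ _

theorem isProIsomorphic_map {D : Type u} [Category.{v'} D] (F : C ⥤ D) {X Y : ARSys.PS C}
    (h : Algz.IsProIsomorphic X Y) : Algz.IsProIsomorphic (X ⋙ F) (Y ⋙ F) := by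
  obtain ⟨m, hm, hle, a, ha⟩ := h
  refine ⟨m, hm, hle, Functor.whiskerRight a F, fun n => ?_⟩
  obtain ⟨k, hk, b, hb1, hb2⟩ := ha n
  exact ⟨k, hk, F.map b, (F.map_comp _ _).symm.trans (congrArg F.map hb1),
    (F.map_comp _ _).symm.trans (congrArg F.map hb2)⟩

end Pro

variable {A : Type u} [CommRing A] [IsNoetherianRing A] (U : (Spec (CommRingCat.of A)).Opens)

theorem isQuasicoherent_push (M : (U : Scheme.{u}).Modules) [M.IsQuasicoherent] :
    ((Scheme.Modules.pushforward U.ι).obj M).IsQuasicoherent :=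
  QCoh.isQuasicoherent_pushforward U.ι M

/-- The counit on the direct image of a system. -/
def sectSysHom (G : ℕᵒᵖ ⥤ (U : Scheme.{u}).Modules) :
    Algz.sectSys A U G ⟶ G ⋙ Scheme.Modules.pushforward U.ι :=
  Functor.whiskerLeft (G ⋙ Scheme.Modules.pushforward U.ι)
    (Scheme.Modules.fromTildeΓNatTrans (R := CommRingCat.of A))

theorem sectSysHom_app (G : ℕᵒᵖ ⥤ (U : Scheme.{u}).Modules) (n : ℕᵒᵖ) :
    (sectSysHom U G).app n = (Scheme.Modules.fromTildeΓNatTrans (R := CommRingCat.of A)).app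
      ((Scheme.Modules.pushforward U.ι).obj (G.obj n)) := rfl

omit [IsNoetherianRing A] in
theorem isIso_fromTildeΓ_app (M : (Spec (CommRingCat.of A)).Modules) [M.IsQuasicoherent] :
    IsIso ((Scheme.Modules.fromTildeΓNatTrans (R := CommRingCat.of A)).app M) :=
  Scheme.Modules.isIso_fromTildeΓ_of_isQuasicoherent M

/-- The tilde of the sections is the direct image. -/
def sectSysIso (G : ℕᵒᵖ ⥤ (U : Scheme.{u}).Modules) (hG : ∀ n, (G.obj n).IsQuasicoherent) :
    Algz.sectSys A U G ≅ G ⋙ Scheme.Modules.pushforward U.ι :=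
  haveI : ∀ n, IsIso ((sectSysHom U G).app n) := fun n => by
    haveI := hG n
    haveI := isQuasicoherent_push U (G.obj n)
    rw [sectSysHom_app]
    exact isIso_fromTildeΓ_app _
  haveI : IsIso (sectSysHom U G) := NatIso.isIso_of_isIso_app _
  asIso (sectSysHom U G)

/-- The sections restrict back to the system. -/
def sectSysRestrIso (G : ℕᵒᵖ ⥤ (U : Scheme.{u}).Modules) (hG : ∀ n, (G.obj n).IsQuasicoherent) :
    Algz.sectSys A U G ⋙ Scheme.Modules.restrictFunctor U.ι ≅ G :=
  Functor.isoWhiskerRight (sectSysIso U G hG) _ ≪≫ Functor.associator _ _ _ ≪≫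
    Functor.isoWhiskerLeft G (asIso (Scheme.Modules.restrictAdjunction U.ι).counit) ≪≫ G.rightUnitor

omit [IsNoetherianRing A] in
theorem isCohFormal_of_iso {X : Scheme.{u}} [X.Over (Spec (CommRingCat.of A))] {I : Ideal A}
    {G G' : ℕᵒᵖ ⥤ X.Modules} (e : G ≅ G') (hG : Formal.IsCohFormal I G) : Formal.IsCohFormal I G' := by
  refine ⟨fun n => ?_, fun n => Formal61.Sys.killedBy_of_epi (e.hom.app (op n)) (hG.2.1 n), fun n => ?_⟩
  · exact CohDev.isCoh_of_iso (e.app (op n)) (hG.1 n)
  · have h := QuotLem.comp_iso (QuotLem.iso_comp (hG.2.2 n) (e.symm.app (op (n + 1)))) (e.app (op n))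
    have h2 : ((e.symm.app (op (n + 1))).hom ≫ G.map (homOfLE (Nat.le_succ n)).op) ≫ (e.app (op n)).hom =
        G'.map (homOfLE (Nat.le_succ n)).op := by
      rw [Category.assoc]
      show e.inv.app _ ≫ G.map _ ≫ e.hom.app _ = _
      rw [e.hom.naturality, Iso.inv_hom_id_app_assoc]
    rw [h2] at h
    exact h

end Groth.Agent.FormalExist.Sect
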