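import Groth.Agent.FormalExist.SpecSec
import Groth.Agent.InjMod.ExtTilde

/-!
# Tilde of adic systems of finite modules
-/

set_option autoImplicit false

universe u

open CategoryTheory CategoryTheory.Limits AlgebraicGeometry Opposite
open Groth.Agent

noncomputable section

namespace Groth.Agent.FormalExist.SpecTilde

variable {A : Type u} [CommRing A]

attribute [local instance] SpecSec.selfOver

/-- multiplication by a scalar -/
def smulHom (M : ModuleCat.{u} A) (a : A) : M ⟶ M := ModuleCat.ofHom (a • LinearMap.id)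

theorem smulHom_comm {M N : ModuleCat.{u} A} (f : M ⟶ N) (a : A) : f ≫ smulHom N a = smulHom M a ≫ f :=
  ModuleCat.hom_ext (LinearMap.ext fun x => (map_smul f.hom a x).symm)

theorem exists_desc_mod {N Q W : ModuleCat.{u} A} (p : N ⟶ Q) (hp : Function.Surjective p.hom) (v : N ⟶ W)
    (h : LinearMap.ker p.hom ≤ LinearMap.ker v.hom) : ∃ w : Q ⟶ W, p ≫ w = v := by
  refine ⟨ModuleCat.ofHom ((LinearMap.ker p.hom).liftQ v.hom h ∘ₗ
    (p.hom.quotKerEquivOfSurjective hp).symm.toLinearMap), ?_⟩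
  ext x
  show (LinearMap.ker p.hom).liftQ v.hom h ((p.hom.quotKerEquivOfSurjective hp).symm (p.hom x)) = _
  rw [LinearMap.quotKerEquivOfSurjective_symm_apply]
  rfl

theorem smulHom_comp_eq_zero {N Q : ModuleCat.{u} A} {J : Ideal A} (p : N ⟶ Q)
    (h : J • (⊤ : Submodule A N) ≤ LinearMap.ker p.hom) {a : A} (ha : a ∈ J) : smulHom N a ≫ p = 0 :=
  ModuleCat.hom_ext (LinearMap.ext fun x => LinearMap.mem_ker.mp (h (Submodule.smul_mem_smul ha trivial)))

theorem ker_le_of_smulHom {N W : ModuleCat.{u} A} {J : Ideal A} (v : N ⟶ W)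
    (h : ∀ a ∈ J, smulHom N a ≫ v = 0) : J • (⊤ : Submodule A N) ≤ LinearMap.ker v.hom :=
  Submodule.smul_le.mpr fun a ha x _ => LinearMap.mem_ker.mpr (congrArg (fun φ => φ.hom x) (h a ha))

theorem smulMod_Γ (M : Scheme.Modules (Spec (CommRingCat.of A))) (a : A) :
    (moduleSpecΓFunctor (R := CommRingCat.of A)).map (Formal.smulMod A M a) =
      smulHom ((moduleSpecΓFunctor (R := CommRingCat.of A)).obj M) a := by
  ext x
  exact (FormalFun.smulMod_app M a ⊤ x).trans (SpecSec.gA_smul M a x)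

/-- The adjoint of a map out of a tilde. -/
abbrev hEq (N : ModuleCat.{u} A) (Z : Scheme.Modules (Spec (CommRingCat.of A))) :
    ((tilde.functor (CommRingCat.of A)).obj N ⟶ Z) ≃ (N ⟶ (moduleSpecΓFunctor (R := CommRingCat.of A)).obj Z) :=
  (tilde.adjunction (R := CommRingCat.of A)).homEquiv N Z

theorem hEq_smulMod {N : ModuleCat.{u} A} {Z : Scheme.Modules (Spec (CommRingCat.of A))}
    (v : (tilde.functor (CommRingCat.of A)).obj N ⟶ Z) (a : A) :
    hEq N Z (Formal.smulMod A _ a ≫ v) = smulHom N a ≫ hEq N Z v := by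
  rw [FormalFun.smulMod_natural v a, ← smulHom_comm, ← smulMod_Γ]
  exact (tilde.adjunction (R := CommRingCat.of A)).homEquiv_naturality_right v _

theorem hEq_zero (N : ModuleCat.{u} A) (Z : Scheme.Modules (Spec (CommRingCat.of A))) : hEq N Z 0 = 0 :=
  ((tilde.adjunction (R := CommRingCat.of A)).homEquiv_unit (f := 0)).trans (by
    rw [show (moduleSpecΓFunctor (R := CommRingCat.of A)).map (0 : _ ⟶ Z) = 0 from
      ModuleCat.hom_ext (LinearMap.ext fun x => rfl), comp_zero])

theorem isModQuot_tilde {J : Ideal A} {N Q : ModuleCat.{u} A} (p : N ⟶ Q) (hp : Function.Surjective p.hom)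
    (hker : LinearMap.ker p.hom = J • ⊤) :
    Formal61.Sys.IsModQuot J ((tilde.functor (CommRingCat.of A)).map p) := by
  haveI : Epi p := (ModuleCat.epi_iff_surjective p).mpr hp
  haveI := (tilde.adjunction (R := CommRingCat.of A)).leftAdjoint_preservesColimits.{0, 0}
  haveI : Epi ((tilde.functor (CommRingCat.of A)).map p) := Functor.map_epi _ p
  refine Formal61.Sys.IsModQuot.mk' (fun a ha => (hEq N _).injective ?_) fun Z v hv => ?_
  · rw [hEq_smulMod, hEq_zero, show hEq N _ ((tilde.functor (CommRingCat.of A)).map p) = p ≫ hEq Q _ (𝟙 _) by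
        rw [← Adjunction.homEquiv_naturality_left]; exact congrArg _ (Category.comp_id _).symm,
      ← Category.assoc, smulHom_comp_eq_zero p hker.ge ha, zero_comp]
  · obtain ⟨w, hw⟩ := exists_desc_mod p hp (hEq N Z v) (hker.le.trans (ker_le_of_smulHom _ fun a ha => by
      rw [← hEq_smulMod, hv a ha, hEq_zero]))
    refine ⟨(hEq Q Z).symm w, ?_⟩
    rw [← Adjunction.homEquiv_naturality_left_symm, Equiv.symm_apply_eq]
    exact hw

theorem killedBy_tilde {J : Ideal A} {N : ModuleCat.{u} A} (hN : ∀ a ∈ J, ∀ x : N, a • x = 0) :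
    Formal.KilledBy J ((tilde.functor (CommRingCat.of A)).obj N) := by
  have h := isModQuot_tilde (J := J) (𝟙 N) (fun x => ⟨x, rfl⟩) (by
    refine le_antisymm (fun x hx => ?_) (Submodule.smul_le.mpr fun a ha x _ => ?_)
    · rw [show x = 0 from hx]; exact zero_mem _
    · rw [hN a ha x]; exact zero_mem _)
  exact h.killedBy

theorem isCohFormal_tilde [IsNoetherianRing A] {I : Ideal A} (Q : ℕᵒᵖ ⥤ ModuleCat.{u} A)
    (hfin : ∀ n, Module.Finite A (Q.obj (op n)))
    (hk : ∀ n, ∀ a ∈ I ^ (n + 1), ∀ x : Q.obj (op n), a • x = 0)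
    (hs : ∀ n, Function.Surjective (ARSys.tr Q (Nat.le_succ n)).hom)
    (hker : ∀ n, LinearMap.ker (ARSys.tr Q (Nat.le_succ n)).hom = I ^ (n + 1) • ⊤) :
    Formal.IsCohFormal I (Q ⋙ tilde.functor (CommRingCat.of A)) :=
  ⟨fun n => haveI := hfin n; InjMod.isCoh_tilde_of_finite (R := CommRingCat.of A) (Q.obj (op n)),
    fun n => killedBy_tilde (hk n), fun n => isModQuot_tilde _ (hs n) (hker n)⟩

end Groth.Agent.FormalExist.SpecTilde
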