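import Groth.Agent.FormalExist.ProBuild
import Groth.Agent.FormalExist.SpecTilde
import Groth.Agent.FormalExist.Sect
import Groth.Agent.Formal61.Pullback

/-!
# A criterion for canonical extension
-/

set_option autoImplicit false

universe u

open CategoryTheory CategoryTheory.Limits AlgebraicGeometry Opposite
open Groth.Agent

noncomputable section

namespace Groth.Agent.FormalExist.CanonBuild

variable {A : Type u} [CommRing A]

attribute [local instance] SpecSec.selfOver

theorem sectMod_killed {I : Ideal A} (U : (Spec (CommRingCat.of A)).Opens)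
    {G : ℕᵒᵖ ⥤ (U : Scheme.{u}).Modules} (hG : Formal.IsCohFormal I G) (n : ℕ) (a : A) (ha : a ∈ I ^ (n + 1))
    (x : (Algz.sectMod A U G).obj (op n)) : a • x = 0 := by
  have h1 : Formal.smulMod A ((Scheme.Modules.pushforward U.ι).obj (G.obj (op n))) a = 0 := by
    rw [← Formal61.Pullback.pushforward_smulMod U.ι rfl (G.obj (op n)) a, hG.2.1 n a ha, Functor.map_zero]
  have h2 := SpecTilde.smulMod_Γ ((Scheme.Modules.pushforward U.ι).obj (G.obj (op n))) a
  rw [h1] at h2
  exact (congrArg (fun φ => φ.hom x) h2).symm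

theorem canonicallyExtends [IsNoetherianRing A] {I : Ideal A} (U : (Spec (CommRingCat.of A)).Opens)
    {G : ℕᵒᵖ ⥤ (U : Scheme.{u}).Modules} (hG : Formal.IsCohFormal I G)
    (ha : ARSys.IsML (Algz.sectMod A U G))
    (hb : ∀ k : ℕ, ∃ n : ℕ, LinearMap.ker (limit.π (Algz.sectMod A U G) (op n)).hom ≤
      I ^ k • (⊤ : Submodule A ↑(limit (Algz.sectMod A U G))))
    (hc : ∀ n : ℕ, Module.Finite A ↥(LinearMap.range (limit.π (Algz.sectMod A U G) (op n)).hom)) :
    Algz.CanonicallyExtends A I U G := by
  obtain ⟨hfin, hpro⟩ := ProBuild.exists_pro (Algz.sectMod A U G) I (sectMod_killed U hG) ha hb hc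
  exact ⟨_, SpecTilde.isCohFormal_tilde (ProBuild.Q (Algz.sectMod A U G) I) hfin
    (fun k a ha y => ProBuild.Q_killed _ I k a ha y) (ProBuild.Q_surjective _ I) (ProBuild.Q_ker _ I),
    Sect.isProIsomorphic_map (tilde.functor (CommRingCat.of A)) hpro⟩

end Groth.Agent.FormalExist.CanonBuild
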