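import Groth.Agent.FormalExist.Rebase
import Groth.Agent.FormalFun.Sep
import Groth.Agent.LimTop.PullSec
import Groth.Agent.ClUnit.Basic
import Groth.Agent.ProperFin.Supp
import Groth.Agent.Formal61.Pullback
import Groth.Agent.RegLoc.Completion
import Groth.Agent.FormalExist.AffSys

/-!
# Helpers for passing to the completion of an affine chart
-/

set_option autoImplicit false

universe u

open CategoryTheory Limits AlgebraicGeometry Opposite TopologicalSpace
open Groth.Agent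

noncomputable section

namespace Groth.Agent.FormalExist.CompHelp

section Iso

variable {X Y : Scheme.{u}} (f : X ⟶ Y)

theorem bijective_app (U : Y.Opens) [IsIso (f ∣_ U)] {W : Y.Opens} (h : W ≤ U) :
    Function.Bijective (f.app W) := by
  have him : U.ι ''ᵁ (U.ι ⁻¹ᵁ W) = W := by
    rw [Scheme.Hom.image_preimage_eq_opensRange_inf, Scheme.Opens.opensRange_ι, inf_eq_right.mpr h]
  have h2 := ConcreteCategory.bijective_of_isIso ((f ∣_ U).app (U.ι ⁻¹ᵁ W))
  rw [morphismRestrict_app] at h2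
  have h4 := (Function.Bijective.of_comp_iff' (ConcreteCategory.bijective_of_isIso (X.presheaf.map
    (eqToHom (image_morphismRestrict_preimage f U (U.ι ⁻¹ᵁ W))).op)) _).1 h2
  have h5 : Function.Bijective (f.app (U.ι ''ᵁ (U.ι ⁻¹ᵁ W))) := h4
  rwa [him] at h5

/-- The unit is bijective on affine opens over which the morphism is an isomorphism. -/
theorem bijective_unit_app (U : Y.Opens) [IsIso (f ∣_ U)] (M : Y.Modules) [M.IsQuasicoherent] {W : Y.Opens}
    (hW : IsAffineOpen W) (h : W ≤ U) :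
    Function.Bijective (((Scheme.Modules.pullbackPushforwardAdjunction f).unit.app M).app W) := by
  letI := (f.appLE W (f ⁻¹ᵁ W) le_rfl).hom.toAlgebra
  letI := LimTop.secModule f M (le_refl (f ⁻¹ᵁ W))
  haveI : IsScalarTower Γ(Y, W) Γ(X, f ⁻¹ᵁ W) Γ((Scheme.Modules.pullback f).obj M, f ⁻¹ᵁ W) :=
    IsScalarTower.of_algebraMap_smul fun _ _ => rfl
  have hbc := LimTop.isBaseChange_unitSec f M (le_refl (f ⁻¹ᵁ W)) hW
    (ProperFin.isAffineOpen_preimage_of_isIso f U hW h)
  have hb : Function.Bijective (algebraMap Γ(Y, W) Γ(X, f ⁻¹ᵁ W)) := by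
    show Function.Bijective (f.appLE W (f ⁻¹ᵁ W) le_rfl)
    rw [← Scheme.Hom.app_eq_appLE]
    exact bijective_app f U h
  have h1 : Function.Bijective (LimTop.unitSecLin f M (le_refl (f ⁻¹ᵁ W))) :=
    ⟨(ClUnit.isBaseChange_injective_iff hbc hb.2).2 fun r hr m => by
      rw [(RingHom.injective_iff_ker_eq_bot _).mp hb.1, Ideal.mem_bot] at hr
      rw [hr, zero_smul], ClUnit.isBaseChange_surjective hbc hb.2⟩
  have h2 : ∀ x, LimTop.unitSecLin f M (le_refl (f ⁻¹ᵁ W)) x =
      ((Scheme.Modules.pullbackPushforwardAdjunction f).unit.app M).app W x := fun x => QCoh.res_self _ _ _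
  refine ⟨fun a b hab => h1.1 ((h2 a).trans (hab.trans (h2 b).symm)), fun y => ?_⟩
  obtain ⟨x, hx⟩ := h1.2 y
  exact ⟨x, (h2 x).symm.trans hx⟩

theorem isIso_restrict_of_isPullback {X' Y' : Scheme.{u}} {p : X' ⟶ X} {q : Y' ⟶ Y} {f' : X' ⟶ Y'}
    (H : IsPullback p f' f q) (U : Y.Opens) [IsIso (f ∣_ U)] : IsIso (f' ∣_ (q ⁻¹ᵁ U)) := by
  have h1 := (isPullback_morphismRestrict f' (q ⁻¹ᵁ U)).flip.paste_horiz H
  rw [← morphismRestrict_ι q U] at h1
  have h2 := (isPullback_morphismRestrict f U).flip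
  let l : (f' ⁻¹ᵁ (q ⁻¹ᵁ U)).toScheme ⟶ (f ⁻¹ᵁ U).toScheme := h2.lift ((f' ⁻¹ᵁ (q ⁻¹ᵁ U)).ι ≫ p)
    ((f' ∣_ (q ⁻¹ᵁ U)) ≫ (q ∣_ U)) (by rw [Category.assoc]; exact h1.w)
  have h3 : IsPullback l (f' ∣_ (q ⁻¹ᵁ U)) (f ∣_ U) (q ∣_ U) := by
    refine IsPullback.of_right ?_ (h2.lift_snd _ _ _) h2
    have e : l ≫ (f ⁻¹ᵁ U).ι = (f' ⁻¹ᵁ (q ⁻¹ᵁ U)).ι ≫ p := h2.lift_fst _ _ _
    rw [e]
    exact h1
  exact MorphismProperty.of_isPullback (P := MorphismProperty.isomorphisms Scheme) h3
    (inferInstanceAs (IsIso (f ∣_ U)))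

end Iso

/-- A bound for the exponents killing all elements killed by some power. -/
theorem exists_uniform_pow {S M : Type u} [CommRing S] [IsNoetherianRing S] [AddCommGroup M] [Module S M]
    [Module.Finite S M] (N : Submodule S M) (r : S) :
    ∃ e : ℕ, ∀ m : M, (∃ k : ℕ, r ^ k • m ∈ N) → r ^ e • m ∈ N := by
  let C : ℕ →o Submodule S M :=
    ⟨fun k => N.comap (LinearMap.lsmul S M (r ^ k)), fun a b hab m hm => by
      show r ^ b • m ∈ N
      obtain ⟨d, rfl⟩ := Nat.exists_eq_add_of_le hab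
      rw [pow_add, mul_comm, mul_smul]
      exact N.smul_mem _ hm⟩
  obtain ⟨e, he⟩ := monotone_stabilizes_iff_noetherian.mpr inferInstance C
  refine ⟨e, fun m ⟨k, hk⟩ => ?_⟩
  rcases le_total k e with hke | hek
  · exact C.monotone hke hk
  · exact (he k hek).ge hk

section Adic

variable {B : Type u} [CommRing B] (J : Ideal B)

theorem sub_mem_map_pow [IsNoetherianRing B] (r : AdicCompletion J B) (n : ℕ) :
    ∃ b : B, r - algebraMap B (AdicCompletion J B) b ∈ (J ^ n).map (algebraMap B (AdicCompletion J B)) := by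
  obtain ⟨s, rfl⟩ := AdicCompletion.mk_surjective J B r
  refine ⟨s.val n, ?_⟩
  have h1 : (AdicCompletion.mk J B s - algebraMap B (AdicCompletion J B) (s.val n)) ∈
      (J ^ n • ⊤ : Submodule B (AdicCompletion J B)) := by
    rw [AdicCompletion.pow_smul_top_eq_ker_eval (IsNoetherian.noetherian J), LinearMap.mem_ker, map_sub,
      sub_eq_zero]
    rfl
  rw [Ideal.smul_top_eq_map] at h1
  exact h1

end Adic

section Transfer

variable {A : Type u} [CommRing A] {Z : Scheme.{u}} [Z.Over (Spec (CommRingCat.of A))] (I : Ideal A)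
  {V : Z.Opens} (hV : IsAffineOpen V) [IsNoetherianRing Γ(Z, V)]

/-- the completion of the coordinate ring -/
abbrev R (V : Z.Opens) : Type u := AdicCompletion (I.map (FormalFun.gA (A := A) V)) Γ(Z, V)

/-- the chart of the completion -/
abbrev q : Spec (CommRingCat.of (R I V)) ⟶ Z := FormalFun.specTo hV (algebraMap Γ(Z, V) (R I V))

theorem top_le : (⊤ : (Spec (CommRingCat.of (R I V))).Opens) ≤ q I hV ⁻¹ᵁ V :=
  FormalFun.top_le_specTo hV _

theorem appLE_q (b : Γ(Z, V)) :
    (q I hV).appLE V ⊤ (top_le I hV) b =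
      (Scheme.ΓSpecIso (CommRingCat.of (R I V))).inv (algebraMap Γ(Z, V) (R I V) b) :=
  ConcreteCategory.congr_hom (FormalFun.specTo_appLE hV (algebraMap Γ(Z, V) (R I V))) b

/-- Modules killed by a power of `I` do not change in the completion. -/
theorem bijective_unitSec (N : Z.Modules) [N.IsQuasicoherent] {n : ℕ} (hN : Formal.KilledBy (I ^ n) N) :
    Function.Bijective (LimTop.unitSec (q I hV) N (top_le I hV)) := by
  let J := I.map (FormalFun.gA (A := A) V)
  letI : (Spec (CommRingCat.of (R I V))).Over (Spec (CommRingCat.of A)) :=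
    ⟨q I hV ≫ (Z ↘ Spec (CommRingCat.of A))⟩
  letI := ((q I hV).appLE V ⊤ (top_le I hV)).hom.toAlgebra
  letI := LimTop.secModule (q I hV) N (top_le I hV)
  haveI : IsScalarTower Γ(Z, V) Γ(Spec (CommRingCat.of (R I V)), ⊤)
      Γ((Scheme.Modules.pullback (q I hV)).obj N, ⊤) := IsScalarTower.of_algebraMap_smul fun _ _ => rfl
  have hbc := LimTop.isBaseChange_unitSec (q I hV) N (top_le I hV) hV (isAffineOpen_top _)
  have hkJ : ∀ a ∈ J ^ n, ∀ x : Γ(N, V), a • x = 0 := by
    intro a ha x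
    rw [← Ideal.map_pow] at ha
    induction ha using Submodule.span_induction with
    | mem b hb =>
      obtain ⟨c, hc, rfl⟩ := hb
      refine (FormalFun.smulMod_app N c V x).symm.trans ?_
      rw [hN c hc]
      rfl
    | zero => exact zero_smul _ _
    | add b c _ _ hb hc => rw [add_smul, hb, hc, add_zero]
    | smul c b _ hb => rw [smul_eq_mul, mul_smul, hb, smul_zero]
  let ψ : Γ(Spec (CommRingCat.of (R I V)), ⊤) →+* Module.End Γ(Z, V) Γ(N, V) :=
    (AffSys.act J hkJ).comp (Scheme.ΓSpecIso (CommRingCat.of (R I V))).hom.hom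
  letI : Module Γ(Spec (CommRingCat.of (R I V)), ⊤) Γ(N, V) := Module.compHom _ ψ
  haveI : IsScalarTower Γ(Z, V) Γ(Spec (CommRingCat.of (R I V)), ⊤) Γ(N, V) :=
    IsScalarTower.of_algebraMap_smul fun b x => by
      show AffSys.act J hkJ ((Scheme.ΓSpecIso (CommRingCat.of (R I V))).hom ((q I hV).appLE V ⊤ (top_le I hV) b)) x = b • x
      rw [appLE_q, Iso.inv_hom_id_apply]
      exact AffSys.act_eq J hkJ (AlgHom.commutes (AdicCompletion.evalₐ J n) b) x
  have hl : ∀ x, hbc.lift (LinearMap.id : Γ(N, V) →ₗ[Γ(Z, V)] Γ(N, V))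
      (LimTop.unitSecLin (q I hV) N (top_le I hV) x) = x := fun x => hbc.lift_eq _ x
  refine ⟨fun a b hab => ?_, fun y => ?_⟩
  · rw [← hl a, ← hl b]
    exact congrArg (hbc.lift (LinearMap.id : Γ(N, V) →ₗ[Γ(Z, V)] Γ(N, V))) hab
  · refine hbc.inductionOn y (fun y => ∃ x, LimTop.unitSecLin (q I hV) N (top_le I hV) x = y) ⟨0, map_zero _⟩
      (fun m => ⟨m, rfl⟩) (fun s y ⟨x, hx⟩ => ?_) fun a b ⟨x, hx⟩ ⟨x', hx'⟩ => ⟨x + x', by rw [map_add, hx, hx']⟩
    obtain ⟨b, hb⟩ := sub_mem_map_pow J ((Scheme.ΓSpecIso (CommRingCat.of (R I V))).hom s) n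
    refine ⟨b • x, ?_⟩
    rw [map_smul, hx, ← sub_eq_zero, ← algebraMap_smul Γ(Spec (CommRingCat.of (R I V)), ⊤) b y, ← sub_smul]
    have hs : algebraMap Γ(Z, V) Γ(Spec (CommRingCat.of (R I V)), ⊤) b - s =
        (Scheme.ΓSpecIso (CommRingCat.of (R I V))).inv.hom
          (-((Scheme.ΓSpecIso (CommRingCat.of (R I V))).hom s - algebraMap Γ(Z, V) (R I V) b)) := by
      rw [map_neg, map_sub, neg_sub]
      exact congrArg₂ (· - ·) (appLE_q I hV b) (Iso.hom_inv_id_apply _ s).symm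
    rw [hs]
    have hmem : (Scheme.ΓSpecIso (CommRingCat.of (R I V))).inv.hom
        (-((Scheme.ΓSpecIso (CommRingCat.of (R I V))).hom s - algebraMap Γ(Z, V) (R I V) b)) ∈
        (I ^ n).map (FormalFun.gA (A := A) (⊤ : (Spec (CommRingCat.of (R I V))).Opens)) := by
      have h1 := Ideal.mem_map_of_mem (Scheme.ΓSpecIso (CommRingCat.of (R I V))).inv.hom (neg_mem hb)
      rw [← Ideal.map_pow, Ideal.map_map, Ideal.map_map] at h1
      refine (le_of_eq (congrArg (fun φ => (I ^ n).map φ) (RingHom.ext fun a => ?_))) h1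
      refine Eq.trans (appLE_q I hV _).symm ?_
      show QCoh.rres (top_le I hV) ((q I hV).app V (FormalFun.gA (A := A) V a)) = _
      rw [Formal61.Pullback.gA_comp (q I hV) rfl V a]
      exact Coh.resTop_comp (op (q I hV ⁻¹ᵁ V)) (op ⊤) (homOfLE (top_le I hV)).op _
    have hk2 := Formal61.Pullback.killedBy_pullback (q I hV) rfl hN
    generalize (Scheme.ΓSpecIso (CommRingCat.of (R I V))).inv.hom
      (-((Scheme.ΓSpecIso (CommRingCat.of (R I V))).hom s - algebraMap Γ(Z, V) (R I V) b)) = t at hmem ⊢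
    induction hmem using Submodule.span_induction with
    | mem b hb =>
      obtain ⟨c, hc, rfl⟩ := hb
      refine (FormalFun.smulMod_app _ c ⊤ y).symm.trans ?_
      rw [hk2 c hc]
      rfl
    | zero => exact zero_smul _ _
    | add b c _ _ hb hc => rw [add_smul, hb, hc, add_zero]
    | smul c b _ hb => rw [smul_eq_mul, mul_smul, hb, smul_zero]

end Transfer

end Groth.Agent.FormalExist.CompHelp
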