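import Groth.Agent.Formal61.Pullback
import Groth.Agent.FormalExist.QuotLem
import Groth.Agent.CohDev.Loc
import Groth.Prelude.Def_Algz

/-!
# Completions of coherent modules on opens of `Spec A` extend
-/

set_option autoImplicit false

universe u

open CategoryTheory CategoryTheory.Limits AlgebraicGeometry Opposite
open Groth.Agent

noncomputable section

namespace Groth.Agent.FormalExist.Extend

variable {A : Type u} [CommRing A]

/-- Restriction of a completion is the completion of the restriction. -/
theorem nonempty_restrict_completion (I : Ideal A) {X U : Scheme.{u}} [X.Over (Spec (CommRingCat.of A))]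
    [U.Over (Spec (CommRingCat.of A))] (j : U ⟶ X) [IsOpenImmersion j]
    (hj : j ≫ (X ↘ Spec (CommRingCat.of A)) = U ↘ Spec (CommRingCat.of A)) (H : X.Modules) :
    Nonempty (Formal.completion I H ⋙ Scheme.Modules.restrictFunctor j ≅
      Formal.completion I ((Scheme.Modules.restrictFunctor j).obj H)) := by
  let κ := Scheme.Modules.restrictFunctorIsoPullback j
  let G := Formal.completion I H ⋙ Scheme.Modules.pullback j
  let q : ∀ n : ℕ, (Scheme.Modules.restrictFunctor j).obj H ⟶ G.obj (op n) := fun n =>
    κ.hom.app H ≫ (Scheme.Modules.pullback j).map (Formal.modPowπ I (n + 1) H)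
  have hp : ∀ n, Formal61.Sys.IsModQuot (I ^ (n + 1))
      ((Scheme.Modules.pullback j).map (Formal.modPowπ I (n + 1) H)) := fun n =>
    Formal61.Pullback.isModQuot_pullback j hj (Formal61.Sys.isModQuot_modPowπ I (n + 1) H)
  obtain ⟨e, -⟩ := Formal61.Sys.exists_completion_iso (I := I) (G := G) _ q (fun n => by
    exact QuotLem.iso_comp (hp n) (κ.app H)) fun n => by
    show (κ.hom.app H ≫ _) ≫ (Scheme.Modules.pullback j).map _ = κ.hom.app H ≫ _
    rw [Category.assoc]
    refine congrArg (κ.hom.app H ≫ ·) ?_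
    exact ((Scheme.Modules.pullback j).map_comp _ _).symm.trans (congrArg _
      (Formal61.Sys.modPowπ_comp_completion_map I H (Nat.le_succ n)))
  exact ⟨Functor.isoWhiskerLeft _ κ ≪≫ e.symm⟩

/-- A completion of a coherent module on an open of `Spec A` extends. -/
theorem extends_of_completion_iso [IsNoetherianRing A] (I : Ideal A) (U : (Spec (CommRingCat.of A)).Opens)
    {G : ℕᵒᵖ ⥤ (U : Scheme.{u}).Modules} (F : (U : Scheme.{u}).Modules) (hF : Coh.IsCoh F)
    (e : Formal.completion I F ≅ G) :
    @Algz.Extends A _ (Spec (CommRingCat.of A)) ⟨𝟙 (Spec (CommRingCat.of A))⟩ I U G := by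
  letI : (Spec (CommRingCat.of A)).Over (Spec (CommRingCat.of A)) := ⟨𝟙 _⟩
  obtain ⟨H, -, e', hH, -⟩ := CohDev.exists_coh_extension U.ι
    (tilde (R := CommRingCat.of A) (ModuleCat.of A PUnit.{u + 1})) inferInstance
    F hF 0
  obtain ⟨ε⟩ := nonempty_restrict_completion I U.ι rfl H
  refine ⟨Formal.completion I H,
    ⟨fun n => FormalFun.isCoh_modPow I hH (n + 1), fun n => Formal61.Sys.killedBy_modPow I (n + 1) H, fun n => ?_⟩,
    ⟨ε ≪≫ ?_ ≪≫ e⟩⟩
  · exact Formal61.Sys.IsModQuot.of_comp (π := Formal.modPowπ I (n + 1 + 1) H)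
      ((Formal61.Sys.modPowπ_comp_completion_map I H (Nat.le_succ n)).symm ▸
        Formal61.Sys.isModQuot_modPowπ I (n + 1) H)
  · refine Classical.choice ?_
    obtain ⟨e'', -⟩ := Formal61.Sys.exists_completion_iso (I := I) (G := Formal.completion I F)
      ((Scheme.Modules.restrictFunctor U.ι).obj H) (fun n => e'.hom ≫ Formal.modPowπ I (n + 1) F) (fun n => by
        exact QuotLem.iso_comp (Formal61.Sys.isModQuot_modPowπ I (n + 1) F) e') fun n => by
      refine (Category.assoc _ _ _).trans ?_
      exact congrArg (e'.hom ≫ ·) (Formal61.Sys.modPowπ_comp_completion_map I F (Nat.le_succ n))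
    exact ⟨e''⟩

end Groth.Agent.FormalExist.Extend
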