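import Groth.Agent.Formal61.Sys
import Groth.Agent.FormalFun.Powers

/-!
# Changing the base ring of formal modules
-/

set_option autoImplicit false

universe u

open CategoryTheory Limits AlgebraicGeometry Opposite
open Groth.Agent

noncomputable section

namespace Groth.Agent.FormalExist.Rebase

variable {A B : Type u} [CommRing A] [CommRing B] (φ : A →+* B) {X : Scheme.{u}}
  [X.Over (Spec (CommRingCat.of A))] [X.Over (Spec (CommRingCat.of B))]

variable (X) in
/-- The structure map to `Spec A` is the one to `Spec B` followed by `φ`. -/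
def Compat : Prop :=
  (X ↘ Spec (CommRingCat.of B)) ≫ Spec.map (CommRingCat.ofHom φ) = X ↘ Spec (CommRingCat.of A)

variable {φ}

theorem toGlobal_eq (h : Compat φ X) (a : A) :
    Coh.toGlobal (X ↘ Spec (CommRingCat.of A)) a = Coh.toGlobal (X ↘ Spec (CommRingCat.of B)) (φ a) := by
  show (X ↘ Spec (CommRingCat.of A)).appTop ((Scheme.ΓSpecIso (CommRingCat.of A)).inv a) =
    (X ↘ Spec (CommRingCat.of B)).appTop ((Scheme.ΓSpecIso (CommRingCat.of B)).inv (φ a))
  rw [← h, Scheme.Hom.comp_appTop, CommRingCat.comp_apply]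
  refine congrArg (X ↘ Spec (CommRingCat.of B)).appTop ?_
  exact (ConcreteCategory.congr_hom (Scheme.ΓSpecIso_inv_naturality (CommRingCat.ofHom φ)) a).symm

theorem gA_eq (h : Compat φ X) (U : X.Opens) (a : A) :
    FormalFun.gA (A := A) U a = FormalFun.gA (A := B) U (φ a) :=
  congrArg (Coh.resTop X (op U)) (toGlobal_eq h a)

theorem smulMod_eq (h : Compat φ X) (M : X.Modules) (a : A) :
    Formal.smulMod A M a = Formal.smulMod B M (φ a) := by
  show Formal.smulModΓ M _ = Formal.smulModΓ M _
  rw [toGlobal_eq h]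

theorem smulMod_comp_eq_zero (h : Compat φ X) {J : Ideal A} {M Z : X.Modules} {v : M ⟶ Z}
    (hv : ∀ a ∈ J, Formal.smulMod A M a ≫ v = 0) : ∀ b ∈ J.map φ, Formal.smulMod B M b ≫ v = 0 := by
  intro b hb
  induction hb using Submodule.span_induction with
  | mem b hb =>
    obtain ⟨a, ha, rfl⟩ := hb
    rw [← smulMod_eq h]
    exact hv a ha
  | zero => rw [FormalFun.smulMod_zero, zero_comp]
  | add b c _ _ hb hc => rw [FormalFun.smulMod_add, Preadditive.add_comp, hb, hc, add_zero]
  | smul c b _ hb => rw [smul_eq_mul, mul_comm, CohIII.smulMod_mul, Category.assoc, hb, comp_zero]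

theorem killedBy_iff (h : Compat φ X) (J : Ideal A) (M : X.Modules) :
    Formal.KilledBy (J.map φ) M ↔ Formal.KilledBy J M := by
  refine ⟨fun hk a ha => (smulMod_eq h M a).trans (hk _ (Ideal.mem_map_of_mem _ ha)), fun hk b hb => ?_⟩
  rw [← Category.comp_id (Formal.smulMod B M b)]
  exact smulMod_comp_eq_zero h (fun a ha => by rw [hk a ha, zero_comp]) b hb

theorem isModQuot_iff (h : Compat φ X) (J : Ideal A) {M N : X.Modules} (π : M ⟶ N) :
    Formal61.Sys.IsModQuot (J.map φ) π ↔ Formal61.Sys.IsModQuot J π := by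
  constructor
  · intro hπ
    haveI := hπ.epi
    refine Formal61.Sys.IsModQuot.mk' (fun a ha => ?_) fun Z v hv => hπ.exists_desc v (smulMod_comp_eq_zero h hv)
    rw [smulMod_eq h]
    exact hπ.condition _ (Ideal.mem_map_of_mem _ ha)
  · intro hπ
    haveI := hπ.epi
    refine Formal61.Sys.IsModQuot.mk' (smulMod_comp_eq_zero h hπ.condition)
      fun Z v hv => hπ.exists_desc v fun a ha => ?_
    rw [smulMod_eq h]
    exact hv _ (Ideal.mem_map_of_mem _ ha)

theorem isCohFormal_iff (h : Compat φ X) (I : Ideal A) (G : ℕᵒᵖ ⥤ X.Modules) :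
    Formal.IsCohFormal (I.map φ) G ↔ Formal.IsCohFormal I G := by
  refine and_congr_right fun _ => and_congr (forall_congr' fun n => ?_) (forall_congr' fun n => ?_)
  · rw [← Ideal.map_pow, killedBy_iff h]
  · show Formal61.Sys.IsModQuot ((I.map φ) ^ (n + 1)) _ ↔ Formal61.Sys.IsModQuot (I ^ (n + 1)) _
    rw [← Ideal.map_pow]
    exact isModQuot_iff h _ _

/-- Completions for both base rings agree. -/
theorem exists_completion_iso (h : Compat φ X) (I : Ideal A) (M : X.Modules) :
    ∃ e : Formal.completion (I.map φ) M ≅ Formal.completion I M,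
      ∀ n, Formal.modPowπ (I.map φ) (n + 1) M ≫ e.hom.app (op n) = Formal.modPowπ I (n + 1) M := by
  refine Formal61.Sys.exists_completion_iso (I := I.map φ) (G := Formal.completion I M) M
    (fun n => Formal.modPowπ I (n + 1) M) (fun n => ?_) fun n =>
      Formal61.Sys.modPowπ_comp_completion_map I M (Nat.le_succ n)
  rw [← Ideal.map_pow]
  exact (isModQuot_iff h _ _).2 (Formal61.Sys.isModQuot_modPowπ I (n + 1) M)

end Groth.Agent.FormalExist.Rebase
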