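import Groth.Agent.FormalExist.Sect
import Groth.Agent.FormalExist.BaseChange
import Groth.Agent.FormalExist.Rebase
import Groth.Agent.FormalExist.SpecSec

/-!
# Flat base change of canonical extensions
-/

set_option autoImplicit false

universe u

open CategoryTheory CategoryTheory.Limits AlgebraicGeometry Opposite
open Groth.Agent

noncomputable section

namespace Groth.Agent.FormalExist.FlatCanon

/-- The tilde of the sections is the direct image, for a quasi-compact open immersion. -/
def sectSysIso' {A : Type u} [CommRing A] (U : (Spec (CommRingCat.of A)).Opens) [QuasiCompact U.ι]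
    (G : ℕᵒᵖ ⥤ (U : Scheme.{u}).Modules) (hG : ∀ n, (G.obj n).IsQuasicoherent) :
    Algz.sectSys A U G ≅ G ⋙ Scheme.Modules.pushforward U.ι :=
  haveI : ∀ n, IsIso ((Sect.sectSysHom U G).app n) := fun n => by
    haveI := hG n
    haveI := QCoh.isQuasicoherent_pushforward U.ι (G.obj n)
    exact Sect.isIso_fromTildeΓ_app ((Scheme.Modules.pushforward U.ι).obj (G.obj n))
  haveI : IsIso (Sect.sectSysHom U G) := NatIso.isIso_of_isIso_app _
  asIso (Sect.sectSysHom U G)

variable {X S S' X' : Scheme.{u}} {f : X ⟶ S} {g : S' ⟶ S} {p : X' ⟶ X} {q : X' ⟶ S'}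

/-- Base change on a system. -/
def pushPullIso (H : IsPullback p q f g) [QuasiCompact f] [QuasiSeparated f] [AlgebraicGeometry.Flat g]
    (G : ℕᵒᵖ ⥤ X.Modules) (hG : ∀ n, (G.obj n).IsQuasicoherent) :
    (G ⋙ Scheme.Modules.pushforward f) ⋙ Scheme.Modules.pullback g ≅
      (G ⋙ Scheme.Modules.pullback p) ⋙ Scheme.Modules.pushforward q :=
  NatIso.ofComponents (fun n =>
    haveI := hG n
    haveI := BaseChange.isIso_θ H (G.obj n)
    asIso (BaseChange.θ H.w (G.obj n))) fun φ => BaseChange.θ_natural H.w (G.map φ)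

attribute [local instance] SpecSec.selfOver

theorem canonicallyExtends {A : Type u} [CommRing A] [IsNoetherianRing A] {I : Ideal A}
    (U : (Spec (CommRingCat.of A)).Opens) {G : ℕᵒᵖ ⥤ (U : Scheme.{u}).Modules}
    (hG : ∀ n, (G.obj n).IsQuasicoherent) (A' : Type u) [CommRing A'] (φ : A →+* A') (hφ : φ.Flat)
    (h : Algz.CanonicallyExtends A I U G) :
    Algz.CanonicallyExtends A' (I.map φ) (Spec.map (CommRingCat.ofHom φ) ⁻¹ᵁ U)
      (G ⋙ Scheme.Modules.pullback (morphismRestrict (Spec.map (CommRingCat.ofHom φ)) U)) := by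
  let g := Spec.map (CommRingCat.ofHom φ)
  haveI : AlgebraicGeometry.Flat g := by
    rw [HasRingHomProperty.Spec_iff (P := @AlgebraicGeometry.Flat)]
    exact hφ
  have H : IsPullback (g ∣_ U) (g ⁻¹ᵁ U).ι U.ι g := isPullback_morphismRestrict g U
  haveI : QuasiCompact (g ⁻¹ᵁ U).ι := MorphismProperty.of_isPullback H inferInstance
  obtain ⟨G', hG', hpro⟩ := h
  letI : (Spec (CommRingCat.of A')).Over (Spec (CommRingCat.of A)) := ⟨g⟩
  have hc : Rebase.Compat φ (Spec (CommRingCat.of A')) := Category.id_comp _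
  have hP : Formal.IsCohFormal I (G' ⋙ Scheme.Modules.pullback g) :=
    Formal61.Pullback.isCohFormal_pullback g (Category.comp_id _) hG'
  refine ⟨G' ⋙ Scheme.Modules.pullback g, (Rebase.isCohFormal_iff hc I _).mpr hP, ?_⟩
  refine Sect.isProIsomorphic_of_iso_left ?_ (Sect.isProIsomorphic_map (Scheme.Modules.pullback g) hpro)
  refine Functor.isoWhiskerRight (Sect.sectSysIso U G hG) _ ≪≫ pushPullIso H G hG ≪≫
    (sectSysIso' (g ⁻¹ᵁ U) _ fun n => ?_).symm
  haveI := hG n
  exact inferInstanceAs ((Scheme.Modules.pullback (g ∣_ U)).obj (G.obj n)).IsQuasicoherent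

end Groth.Agent.FormalExist.FlatCanon
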