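import Groth.Agent.FormalExist.CompHelp
import Groth.Agent.FormalExist.SpecSec
import Groth.Agent.FormalExist.Rebase
import Groth.Agent.FormalExist.FlatCanon
import Groth.Agent.FormalExist.SpecTilde
import Groth.Agent.FormalExist.Exist
import Groth.Agent.ProperFin.Projective
import Groth.Agent.FormalExist.Extend
import Groth.Agent.CohDev.Coh

/-!
# Modules killed by a power of `I` on `Spec A` and on `Spec` of the completion
-/

set_option autoImplicit false

universe u

open CategoryTheory CategoryTheory.Limits AlgebraicGeometry Opposite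
open Groth.Agent

noncomputable section

namespace Groth.Agent.FormalExist.CompUnit

variable {A : Type u} [CommRing A] (I : Ideal A)

attribute [local instance] SpecSec.selfOver

/-- `Spec` of the completion to `Spec A` -/
abbrev g : Spec (CommRingCat.of (AdicCompletion I A)) ⟶ Spec (CommRingCat.of A) :=
  Spec.map (CommRingCat.ofHom (algebraMap A (AdicCompletion I A)))

/-- the completion over `Spec A` -/
@[reducible] def overA : (Spec (CommRingCat.of (AdicCompletion I A))).Over (Spec (CommRingCat.of A)) := ⟨g I⟩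

theorem hT : (⊤ : (Spec (CommRingCat.of (AdicCompletion I A))).Opens) ≤ g I ⁻¹ᵁ ⊤ := le_top

theorem appTop_g (a : A) :
    (g I).appLE ⊤ ⊤ (hT I) ((Scheme.ΓSpecIso (CommRingCat.of A)).inv a) =
      (Scheme.ΓSpecIso (CommRingCat.of (AdicCompletion I A))).inv (algebraMap A (AdicCompletion I A) a) := by
  show (g I).appLE ⊤ (g I ⁻¹ᵁ ⊤) le_rfl _ = _
  rw [← Scheme.Hom.app_eq_appLE]
  exact (ConcreteCategory.congr_hom
    (Scheme.ΓSpecIso_inv_naturality (CommRingCat.ofHom (algebraMap A (AdicCompletion I A)))) a).symm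

variable [IsNoetherianRing A]

theorem bijective_unit_top (N : (Spec (CommRingCat.of A)).Modules) [N.IsQuasicoherent] {n : ℕ}
    (hN : Formal.KilledBy (I ^ n) N) :
    Function.Bijective (LimTop.unitSec (g I) N (hT I)) := by
  letI := overA I
  letI := ((g I).appLE ⊤ ⊤ (hT I)).hom.toAlgebra
  letI := LimTop.secModule (g I) N (hT I)
  haveI : IsScalarTower Γ(Spec (CommRingCat.of A), ⊤) Γ(Spec (CommRingCat.of (AdicCompletion I A)), ⊤)
      Γ((Scheme.Modules.pullback (g I)).obj N, ⊤) := IsScalarTower.of_algebraMap_smul fun _ _ => rfl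
  have hbc := LimTop.isBaseChange_unitSec (g I) N (hT I) (isAffineOpen_top _) (isAffineOpen_top _)
  let j : A →+* Γ(Spec (CommRingCat.of A), ⊤) := (Scheme.ΓSpecIso (CommRingCat.of A)).inv.hom
  have hj : Function.Surjective j :=
    (ConcreteCategory.bijective_of_isIso (Scheme.ΓSpecIso (CommRingCat.of A)).inv).2
  have hk : ∀ a ∈ I ^ n, ∀ x : Γ(N, (⊤ : (Spec (CommRingCat.of A)).Opens)), j a • x = 0 := by
    intro a ha x
    show (Scheme.ΓSpecIso (CommRingCat.of A)).inv.hom a • x = 0
    rw [← SpecSec.gA_top]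
    refine (FormalFun.smulMod_app N a ⊤ x).symm.trans ?_
    rw [hN a ha]
    rfl
  let e : A ⧸ I ^ n →+* Module.End Γ(Spec (CommRingCat.of A), ⊤) Γ(N, (⊤ : (Spec (CommRingCat.of A)).Opens)) :=
    Ideal.Quotient.lift (I ^ n) ((algebraMap _ _).comp j) fun a ha => LinearMap.ext fun x => hk a ha x
  let ψ : Γ(Spec (CommRingCat.of (AdicCompletion I A)), ⊤) →+*
      Module.End Γ(Spec (CommRingCat.of A), ⊤) Γ(N, (⊤ : (Spec (CommRingCat.of A)).Opens)) :=
    (e.comp (AdicCompletion.evalₐ I n).toRingHom).comp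
      (Scheme.ΓSpecIso (CommRingCat.of (AdicCompletion I A))).hom.hom
  letI : Module Γ(Spec (CommRingCat.of (AdicCompletion I A)), ⊤) Γ(N, (⊤ : (Spec (CommRingCat.of A)).Opens)) :=
    Module.compHom _ ψ
  haveI : IsScalarTower Γ(Spec (CommRingCat.of A), ⊤) Γ(Spec (CommRingCat.of (AdicCompletion I A)), ⊤)
      Γ(N, (⊤ : (Spec (CommRingCat.of A)).Opens)) := IsScalarTower.of_algebraMap_smul fun b x => by
    obtain ⟨a, rfl⟩ := hj b
    show e (AdicCompletion.evalₐ I n ((Scheme.ΓSpecIso (CommRingCat.of (AdicCompletion I A))).hom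
      ((g I).appLE ⊤ ⊤ (hT I) (j a)))) x = j a • x
    rw [show (g I).appLE ⊤ ⊤ (hT I) (j a) = _ from appTop_g I a, Iso.inv_hom_id_apply, AlgHom.commutes]
    rfl
  have hl : ∀ x, hbc.lift (LinearMap.id : Γ(N, (⊤ : (Spec (CommRingCat.of A)).Opens)) →ₗ[Γ(Spec (CommRingCat.of A), ⊤)]
      Γ(N, (⊤ : (Spec (CommRingCat.of A)).Opens))) (LimTop.unitSecLin (g I) N (hT I) x) = x :=
    fun x => hbc.lift_eq _ x
  refine ⟨fun a b hab => ?_, fun y => ?_⟩
  · rw [← hl a, ← hl b]
    exact congrArg (hbc.lift LinearMap.id) hab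
  · refine hbc.inductionOn y (fun y => ∃ x, LimTop.unitSecLin (g I) N (hT I) x = y) ⟨0, map_zero _⟩
      (fun m => ⟨m, rfl⟩) (fun s y ⟨x, hx⟩ => ?_) fun a b ⟨x, hx⟩ ⟨x', hx'⟩ => ⟨x + x', by rw [map_add, hx, hx']⟩
    let r := (Scheme.ΓSpecIso (CommRingCat.of (AdicCompletion I A))).hom s
    obtain ⟨b, hb⟩ := CompHelp.sub_mem_map_pow I r n
    refine ⟨j b • x, ?_⟩
    rw [map_smul, hx, ← algebraMap_smul Γ(Spec (CommRingCat.of (AdicCompletion I A)), ⊤) (j b) y,
      ← sub_eq_zero, ← sub_smul]
    have hs : algebraMap Γ(Spec (CommRingCat.of A), ⊤) Γ(Spec (CommRingCat.of (AdicCompletion I A)), ⊤) (j b) - s =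
        (Scheme.ΓSpecIso (CommRingCat.of (AdicCompletion I A))).inv.hom (-(r - algebraMap A (AdicCompletion I A) b)) := by
      rw [map_neg, map_sub, neg_sub]
      exact congrArg₂ (· - ·) (appTop_g I b) (Iso.hom_inv_id_apply _ s).symm
    rw [hs]
    have hk2 := Formal61.Pullback.killedBy_pullback (g I) (Category.comp_id _) hN
    have hmem := neg_mem hb
    generalize -(r - algebraMap A (AdicCompletion I A) b) = t at hmem ⊢
    induction hmem using Submodule.span_induction with
    | mem z hz =>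
      obtain ⟨c, hc, rfl⟩ := hz
      have h0 := (FormalFun.smulMod_app ((Scheme.Modules.pullback (g I)).obj N) c ⊤ y).symm
      rw [hk2 c hc, Rebase.gA_eq (φ := algebraMap A (AdicCompletion I A)) (Category.id_comp _), SpecSec.gA_top] at h0
      exact h0.trans rfl
    | zero => rw [map_zero]; exact zero_smul _ _
    | add z w _ _ hz hw => rw [map_add, add_smul, hz, hw, add_zero]
    | smul c z _ hz => rw [smul_eq_mul, map_mul, mul_smul, hz, smul_zero]

theorem isIso_of_Γ {B : Type u} [CommRing B] {M N : (Spec (CommRingCat.of B)).Modules} [M.IsQuasicoherent]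
    [N.IsQuasicoherent] (φ : M ⟶ N) (h : Function.Bijective (φ.app ⊤)) : IsIso φ := by
  have h1 : IsIso ((moduleSpecΓFunctor (R := CommRingCat.of B)).map φ) := by
    rw [ConcreteCategory.isIso_iff_bijective]
    exact h
  have hn := (Scheme.Modules.fromTildeΓNatTrans (R := CommRingCat.of B)).naturality φ
  have hM := Sect.isIso_fromTildeΓ_app M
  have hN := Sect.isIso_fromTildeΓ_app N
  have h2 : IsIso ((Scheme.Modules.fromTildeΓNatTrans (R := CommRingCat.of B)).app M ≫ φ) := by
    rw [show (Scheme.Modules.fromTildeΓNatTrans (R := CommRingCat.of B)).app M ≫ φ = _ from hn.symm]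
    exact @IsIso.comp_isIso _ _ _ _ _ _ _
      (Functor.map_isIso (tilde.functor (CommRingCat.of B)) ((moduleSpecΓFunctor (R := CommRingCat.of B)).map φ)) hN
  exact @IsIso.of_isIso_comp_left _ _ _ _ _ _ φ hM h2

theorem isIso_unit (N : (Spec (CommRingCat.of A)).Modules) [N.IsQuasicoherent] {n : ℕ}
    (hN : Formal.KilledBy (I ^ n) N) :
    IsIso ((Scheme.Modules.pullbackPushforwardAdjunction (g I)).unit.app N) := by
  haveI : ((Scheme.Modules.pushforward (g I)).obj ((Scheme.Modules.pullback (g I)).obj N)).IsQuasicoherent :=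
    QCoh.isQuasicoherent_pushforward (g I) _
  haveI : ((Scheme.Modules.pullback (g I) ⋙ Scheme.Modules.pushforward (g I)).obj N).IsQuasicoherent := this
  refine isIso_of_Γ (M := N) (N := (Scheme.Modules.pushforward (g I)).obj ((Scheme.Modules.pullback (g I)).obj N))
    ((Scheme.Modules.pullbackPushforwardAdjunction (g I)).unit.app N) ?_
  have hb := bijective_unit_top I N hN
  have h2 : ∀ x, LimTop.unitSec (g I) N (hT I) x =
      ((Scheme.Modules.pullbackPushforwardAdjunction (g I)).unit.app N).app ⊤ x := fun x => QCoh.res_self _ _ _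
  refine ⟨fun a b hab => hb.1 ((h2 a).trans (hab.trans (h2 b).symm)), fun y => ?_⟩
  obtain ⟨x, hx⟩ := hb.2 y
  exact ⟨x, (h2 x).symm.trans hx⟩

section Open

variable (U : (Spec (CommRingCat.of A)).Opens)

theorem isPullback : IsPullback (g I ∣_ U) (g I ⁻¹ᵁ U).ι U.ι (g I) := isPullback_morphismRestrict (g I) U

theorem flat_g : AlgebraicGeometry.Flat (g I) := by
  rw [HasRingHomProperty.Spec_iff (P := @AlgebraicGeometry.Flat)]
  exact RingHom.flat_algebraMap_iff.mpr inferInstance

theorem isIso_unit_restr (N : (U : Scheme.{u}).Modules) [N.IsQuasicoherent] {n : ℕ}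
    (hN : Formal.KilledBy (I ^ n) N) :
    IsIso ((Scheme.Modules.pullbackPushforwardAdjunction (g I ∣_ U)).unit.app N) := by
  haveI := flat_g I
  have H := isPullback I U
  haveI := Sect.isQuasicoherent_push U N
  have hk : Formal.KilledBy (I ^ n) ((Scheme.Modules.pushforward U.ι).obj N) := fun a ha => by
    rw [← Formal61.Pullback.pushforward_smulMod U.ι rfl N a, hN a ha, Functor.map_zero]
  have h1 := isIso_unit I _ hk
  have h2 := BaseChange.isIso_θ H N
  have h3 : (Scheme.Modules.pullbackPushforwardAdjunction (g I)).unit.app ((Scheme.Modules.pushforward U.ι).obj N) ≫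
      (Scheme.Modules.pushforward (g I)).map (BaseChange.θ H.w N) = BaseChange.ψ H.w N :=
    (Adjunction.homEquiv_unit (Scheme.Modules.pullbackPushforwardAdjunction (g I)) _ _ _).symm.trans
      (Equiv.apply_symm_apply _ _)
  have h4 : IsIso (BaseChange.ψ H.w N) := by
    rw [← h3]
    exact @IsIso.comp_isIso _ _ _ _ _ _ _ h1 (Functor.map_isIso _ (BaseChange.θ H.w N))
  have h5 : IsIso ((Scheme.Modules.pushforward U.ι).map
      ((Scheme.Modules.pullbackPushforwardAdjunction (g I ∣_ U)).unit.app N)) := by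
    have e : (Scheme.Modules.pushforward U.ι).map
        ((Scheme.Modules.pullbackPushforwardAdjunction (g I ∣_ U)).unit.app N) ≫
        (((Scheme.Modules.pushforwardComp (g I ∣_ U) U.ι ≪≫ Scheme.Modules.pushforwardCongr H.w ≪≫
          (Scheme.Modules.pushforwardComp (g I ⁻¹ᵁ U).ι (g I)).symm).app
            ((Scheme.Modules.pullback (g I ∣_ U)).obj N)).hom) = BaseChange.ψ H.w N := by
      simp only [BaseChange.ψ, Iso.trans_hom, Iso.app_hom, NatTrans.comp_app, Iso.symm_hom]
    exact @IsIso.of_isIso_comp_right _ _ _ _ _ _ _ (Iso.isIso_hom _) (e ▸ h4)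
  exact isIso_of_fully_faithful (Scheme.Modules.pushforward U.ι) _

variable {I} in
/-- A formal module on `U` is recovered from its pullback to the completion. -/
def unitIso {G : ℕᵒᵖ ⥤ (U : Scheme.{u}).Modules} (hG : Formal.IsCohFormal I G) :
    G ≅ (G ⋙ Scheme.Modules.pullback (g I ∣_ U)) ⋙ Scheme.Modules.pushforward (g I ∣_ U) :=
  haveI : ∀ i, IsIso ((Functor.whiskerLeft G (Scheme.Modules.pullbackPushforwardAdjunction (g I ∣_ U)).unit).app i) :=
    fun i => haveI := (hG.1 i.unop).1; isIso_unit_restr I U (G.obj i) (hG.2.1 i.unop)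
  haveI := NatIso.isIso_of_isIso_app (Functor.whiskerLeft G (Scheme.Modules.pullbackPushforwardAdjunction (g I ∣_ U)).unit)
  G.rightUnitor.symm ≪≫ asIso (Functor.whiskerLeft G (Scheme.Modules.pullbackPushforwardAdjunction (g I ∣_ U)).unit)

end Open

theorem smul_push (M : (Spec (CommRingCat.of (AdicCompletion I A))).Modules) (a : A)
    (x : (moduleSpecΓFunctor (R := CommRingCat.of A)).obj ((Scheme.Modules.pushforward (g I)).obj M)) :
    letI := overA I
    (FormalFun.gA (A := A) (X := Spec (CommRingCat.of (AdicCompletion I A))) ⊤ a •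
        (show Γ(M, (⊤ : (Spec (CommRingCat.of (AdicCompletion I A))).Opens)) from x)) =
      (show Γ(M, (⊤ : (Spec (CommRingCat.of (AdicCompletion I A))).Opens)) from a • x) := by
  letI := overA I
  refine Eq.trans ?_ (SpecSec.gA_smul ((Scheme.Modules.pushforward (g I)).obj M) a x)
  show _ = (g I).app ⊤ (FormalFun.gA (A := A) (⊤ : (Spec (CommRingCat.of A)).Opens) a) •
    (show Γ(M, g I ⁻¹ᵁ ⊤) from x)
  rw [Formal61.Pullback.gA_comp (g I) (Category.comp_id _)]
  rfl

theorem isCohFormal_push {H : ℕᵒᵖ ⥤ (Spec (CommRingCat.of (AdicCompletion I A))).Modules}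
    (hH : Formal.IsCohFormal (I.map (algebraMap A (AdicCompletion I A))) H) :
    Formal.IsCohFormal I (H ⋙ Scheme.Modules.pushforward (g I)) := by
  letI := overA I
  have hc : Rebase.Compat (algebraMap A (AdicCompletion I A)) (Spec (CommRingCat.of (AdicCompletion I A))) :=
    Category.id_comp _
  have hHA : Formal.IsCohFormal I H := (Rebase.isCohFormal_iff hc I H).mp hH
  let G := H ⋙ Scheme.Modules.pushforward (g I)
  let Q : ℕᵒᵖ ⥤ ModuleCat.{u} A := G ⋙ moduleSpecΓFunctor (R := CommRingCat.of A)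
  have hq : ∀ i, (G.obj i).IsQuasicoherent := fun i =>
    haveI := (hH.1 i.unop).1
    QCoh.isQuasicoherent_pushforward (g I) (H.obj i)
  have hk : ∀ n, ∀ a ∈ I ^ (n + 1), ∀ x : Q.obj (op n), a • x = 0 := fun n a ha x => by
    refine (smul_push I (H.obj (op n)) a x).symm.trans ?_
    refine (FormalFun.smulMod_app (H.obj (op n)) a ⊤ _).symm.trans ?_
    rw [hHA.2.1 n a ha]
    rfl
  have hs : ∀ n, Function.Surjective (ARSys.tr Q (Nat.le_succ n)).hom := fun n => by
    haveI := (hH.1 (n + 1)).1
    haveI := (hH.1 n).1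
    haveI : Epi (H.map (homOfLE (Nat.le_succ n)).op) := Formal61.Sys.IsModQuot.epi (hH.2.2 n)
    exact QCoh.app_surjective_of_epi (H.map (homOfLE (Nat.le_succ n)).op) (isAffineOpen_top _)
  have hker : ∀ n, LinearMap.ker (ARSys.tr Q (Nat.le_succ n)).hom = I ^ (n + 1) • ⊤ := fun n => by
    haveI := (hH.1 (n + 1)).1
    refine le_antisymm (fun x hx => ?_) (Submodule.smul_le.mpr fun a ha x _ => LinearMap.mem_ker.mpr ?_)
    · have hxk := LinearMap.mem_ker.mp hx
      have hx0 : (H.map (homOfLE (Nat.le_succ n)).op).app (⊤ : (Spec (CommRingCat.of (AdicCompletion I A))).Opens)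
          (show Γ(H.obj (op (n + 1)), (⊤ : (Spec (CommRingCat.of (AdicCompletion I A))).Opens)) from x) = 0 := hxk
      let W : (Spec (CommRingCat.of (AdicCompletion I A))).affineOpens := ⟨⊤, isAffineOpen_top _⟩
      have hx' : (show Γ(H.obj (op (n + 1)), (⊤ : (Spec (CommRingCat.of (AdicCompletion I A))).Opens)) from x) ∈
          (I.map (FormalFun.gA (A := A) (X := Spec (CommRingCat.of (AdicCompletion I A))) ⊤)) ^ (n + 1) •
            (⊤ : Submodule Γ(Spec (CommRingCat.of (AdicCompletion I A)), ⊤)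
              Γ(H.obj (op (n + 1)), (⊤ : (Spec (CommRingCat.of (AdicCompletion I A))).Opens))) :=
        (Tricky.app_eq_zero_iff (hHA.2.2 n) W _).mp hx0
      rw [← Ideal.map_pow] at hx'
      refine Submodule.smul_induction_on (p := fun y : Γ(H.obj (op (n + 1)), (⊤ : (Spec (CommRingCat.of (AdicCompletion I A))).Opens)) =>
        (show Q.obj (op (n + 1)) from y) ∈ I ^ (n + 1) • (⊤ : Submodule A (Q.obj (op (n + 1))))) hx'
        (fun r hr z _ => ?_) fun y z hy hz => Submodule.add_mem _ hy hz
      induction hr using Submodule.span_induction generalizing z with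
      | mem b hb =>
        obtain ⟨a, ha, rfl⟩ := hb
        rw [smul_push I (H.obj (op (n + 1))) a z]
        exact Submodule.smul_mem_smul ha trivial
      | zero => rw [zero_smul]; exact Submodule.zero_mem _
      | add b c _ _ hb hc => rw [add_smul]; exact Submodule.add_mem _ (hb z trivial) (hc z trivial)
      | smul c b _ hb => rw [smul_eq_mul, mul_comm, mul_smul]; exact hb (c • z) trivial
    · exact (map_smul (ARSys.tr Q (Nat.le_succ n)).hom a x).trans (hk n a ha _)
  have hfin : ∀ n, Module.Finite A (Q.obj (op n)) := fun n => by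
    obtain ⟨t, ht⟩ := (CohDev.finite_sections (hH.1 n) (isAffineOpen_top _)).fg_top
    refine ⟨⟨t, eq_top_iff.mpr fun x _ => ?_⟩⟩
    have hx : (show Γ(H.obj (op n), (⊤ : (Spec (CommRingCat.of (AdicCompletion I A))).Opens)) from x) ∈
        Submodule.span Γ(Spec (CommRingCat.of (AdicCompletion I A)), ⊤) (t : Set _) := ht ▸ trivial
    refine Submodule.span_induction (p := fun (y : Γ(H.obj (op n), (⊤ : (Spec (CommRingCat.of (AdicCompletion I A))).Opens))) _ =>
      (show Q.obj (op n) from y) ∈ Submodule.span A (show Set (Q.obj (op n)) from (↑t : Set Γ(H.obj (op n), (⊤ : (Spec (CommRingCat.of (AdicCompletion I A))).Opens))))) (fun y hy => Submodule.subset_span hy)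
      (Submodule.zero_mem _) (fun y z _ _ hy hz => Submodule.add_mem _ hy hz) (fun s y _ hy => ?_) hx
    ·
      obtain ⟨b, hb⟩ := CompHelp.sub_mem_map_pow I ((Scheme.ΓSpecIso (CommRingCat.of (AdicCompletion I A))).hom s) (n + 1)
      have hgA : ∀ a : A, FormalFun.gA (A := A) (X := Spec (CommRingCat.of (AdicCompletion I A))) ⊤ a =
          (Scheme.ΓSpecIso (CommRingCat.of (AdicCompletion I A))).inv.hom (algebraMap A (AdicCompletion I A) a) := by
        intro a
        rw [Rebase.gA_eq hc, SpecSec.gA_top]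
      have he : s • (show Γ(H.obj (op n), (⊤ : (Spec (CommRingCat.of (AdicCompletion I A))).Opens)) from y) =
          FormalFun.gA (A := A) (X := Spec (CommRingCat.of (AdicCompletion I A))) ⊤ b •
            (show Γ(H.obj (op n), (⊤ : (Spec (CommRingCat.of (AdicCompletion I A))).Opens)) from y) := by
        rw [← sub_eq_zero, ← sub_smul, hgA]
        rw [show s - (Scheme.ΓSpecIso (CommRingCat.of (AdicCompletion I A))).inv.hom (algebraMap A (AdicCompletion I A) b) =
            (Scheme.ΓSpecIso (CommRingCat.of (AdicCompletion I A))).inv.hom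
              ((Scheme.ΓSpecIso (CommRingCat.of (AdicCompletion I A))).hom s - algebraMap A (AdicCompletion I A) b) by
          rw [map_sub]; exact congrArg (· - _) (Iso.hom_inv_id_apply _ s).symm]
        generalize (Scheme.ΓSpecIso (CommRingCat.of (AdicCompletion I A))).hom s -
          algebraMap A (AdicCompletion I A) b = r at hb ⊢
        induction hb using Submodule.span_induction with
        | mem z hz =>
          obtain ⟨c, hcI, rfl⟩ := hz
          rw [← hgA]
          exact (smul_push I (H.obj (op n)) c y).trans (hk n c hcI y)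
        | zero => rw [map_zero]; exact zero_smul _ _
        | add z w _ _ hz hw => rw [map_add, add_smul, hz, hw, add_zero]
        | smul c z _ hz => rw [smul_eq_mul, map_mul, mul_smul, hz, smul_zero]
      show (show Q.obj (op n) from s • (show Γ(H.obj (op n), (⊤ : (Spec (CommRingCat.of (AdicCompletion I A))).Opens)) from y)) ∈ _
      rw [he, smul_push I (H.obj (op n)) b y]
      exact Submodule.smul_mem _ b hy
  haveI : ∀ i, IsIso ((Functor.whiskerLeft G (Scheme.Modules.fromTildeΓNatTrans (R := CommRingCat.of A))).app i) :=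
    fun i => haveI := hq i; Sect.isIso_fromTildeΓ_app (G.obj i)
  haveI := NatIso.isIso_of_isIso_app (Functor.whiskerLeft G (Scheme.Modules.fromTildeΓNatTrans (R := CommRingCat.of A)))
  exact Sect.isCohFormal_of_iso
    (asIso (Functor.whiskerLeft G (Scheme.Modules.fromTildeΓNatTrans (R := CommRingCat.of A))) ≪≫ G.rightUnitor)
    (SpecTilde.isCohFormal_tilde Q hfin hk hs hker)

/-- **Extension is algebraisation over the completion.** -/
theorem extends_iff (U : (Spec (CommRingCat.of A)).Opens) {G : ℕᵒᵖ ⥤ (U : Scheme.{u}).Modules}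
    (hG : Formal.IsCohFormal I G) :
    @Algz.Extends A _ (Spec (CommRingCat.of A)) ⟨𝟙 (Spec (CommRingCat.of A))⟩ I U G ↔
      ∃ F' : (↑(g I ⁻¹ᵁ U) : Scheme.{u}).Modules, Coh.IsCoh F' ∧
        Nonempty (Formal.completion (I.map (algebraMap A (AdicCompletion I A))) F' ≅
          G ⋙ Scheme.Modules.pullback (g I ∣_ U)) := by
  let R' := AdicCompletion I A
  haveI : IsNoetherianRing R' := RegLoc.Completion.isNoetherianRing_adicCompletion' I
  haveI : IsAdicComplete I R' := AdicCompletion.isAdicComplete (IsNoetherian.noetherian I)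
  haveI : IsAdicComplete (I.map (algebraMap A R')) R' := (IsAdicComplete.map_algebraMap_iff (S := R') I R').mpr ‹_›
  haveI := flat_g I
  have hsq := isPullback I U
  constructor
  · rintro ⟨G', hG', ⟨e⟩⟩
    letI := overA I
    have hc : Rebase.Compat (algebraMap A R') (Spec (CommRingCat.of R')) := Category.id_comp _
    have hP := (Rebase.isCohFormal_iff hc I _).mpr
      (Formal61.Pullback.isCohFormal_pullback (g I) (Category.comp_id _) hG')
    haveI : IsProper (Spec (CommRingCat.of R') ↘ Spec (CommRingCat.of R')) :=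
      inferInstanceAs (IsProper (𝟙 (Spec (CommRingCat.of R'))))
    obtain ⟨M, hM, ⟨e'⟩⟩ := Exist.exists_algebraization hP
    obtain ⟨ε⟩ := Extend.nonempty_restrict_completion (I.map (algebraMap A R')) (g I ⁻¹ᵁ U).ι rfl M
    refine ⟨(Scheme.Modules.restrictFunctor (g I ⁻¹ᵁ U).ι).obj M, ProperFin.isCoh_restrict (g I ⁻¹ᵁ U).ι hM,
      ⟨ε.symm ≪≫ Functor.isoWhiskerRight e' _ ≪≫ ?_⟩⟩
    refine Functor.associator _ _ _ ≪≫ Functor.isoWhiskerLeft G' ?_ ≪≫ (Functor.associator _ _ _).symm ≪≫
      Functor.isoWhiskerRight e _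
    exact Functor.isoWhiskerLeft _ (Scheme.Modules.restrictFunctorIsoPullback (g I ⁻¹ᵁ U).ι) ≪≫
      BaseChange.κ hsq.w ≪≫ Functor.isoWhiskerRight (Scheme.Modules.restrictFunctorIsoPullback U.ι).symm _
  · rintro ⟨F', hF', ⟨e⟩⟩
    obtain ⟨G₁, hG₁, ⟨e₁⟩⟩ := Extend.extends_of_completion_iso (I.map (algebraMap A R')) (g I ⁻¹ᵁ U) F' hF'
      (Iso.refl _)
    refine ⟨G₁ ⋙ Scheme.Modules.pushforward (g I), isCohFormal_push I hG₁, ⟨?_⟩⟩
    refine Functor.isoWhiskerLeft _ (Scheme.Modules.restrictFunctorIsoPullback U.ι) ≪≫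
      FlatCanon.pushPullIso hsq.flip G₁ (fun i => (hG₁.1 i.unop).1) ≪≫
      Functor.isoWhiskerRight ((Functor.isoWhiskerLeft G₁
        (Scheme.Modules.restrictFunctorIsoPullback (g I ⁻¹ᵁ U).ι)).symm ≪≫ e₁ ≪≫ e) _ ≪≫
      (unitIso U hG).symm

end Groth.Agent.FormalExist.CompUnit
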