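import Groth.Prelude.Def_Formal2
import Groth.Agent.KFlat.TildeExact
import Mathlib.Algebra.Category.ModuleCat.EpiMono

/-!
# Factoring transition maps of quotients of a limit through images
-/

set_option autoImplicit false

universe u

open CategoryTheory CategoryTheory.Limits AlgebraicGeometry Opposite
open Groth.Agent

noncomputable section

namespace Groth.Agent.FormalExist.Factor

variable {A : Type u} [CommRing A] (I : Ideal A)

/-- `M / I^(n+1) M` as an object -/
abbrev QM (M : ModuleCat.{u} A) (n : ℕ) : ModuleCat.{u} A := ModuleCat.of A (Formal2.quotPow A I M n)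

theorem smul_pow_le (M : ModuleCat.{u} A) {n N : ℕ} (h : n ≤ N) :
    I ^ (N + 1) • (⊤ : Submodule A M) ≤ LinearMap.ker (Formal2.quotPowπ A I M n) := by
  rw [Submodule.ker_mkQ]
  exact Submodule.smul_mono_left (Ideal.pow_le_pow_right (Nat.add_le_add_right h 1))

/-- the projection between quotients, as a linear map -/
def TL (M : ModuleCat.{u} A) {n N : ℕ} (h : n ≤ N) : Formal2.quotPow A I M N →ₗ[A] Formal2.quotPow A I M n :=
  Submodule.liftQ (I ^ (N + 1) • (⊤ : Submodule A M)) (Formal2.quotPowπ A I M n) (smul_pow_le I M h)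

/-- the projection between quotients -/
def T (M : ModuleCat.{u} A) {n N : ℕ} (h : n ≤ N) : QM I M N ⟶ QM I M n :=
  ModuleCat.ofHom (TL I M h)

theorem T_self (M : ModuleCat.{u} A) (n : ℕ) : T I M (le_refl n) = 𝟙 _ :=
  ModuleCat.hom_ext (Submodule.linearMap_qext _ (LinearMap.ext fun x => rfl))

theorem TL_mk (M : ModuleCat.{u} A) {n N : ℕ} (h : n ≤ N) (x : M) :
    TL I M h (Formal2.quotPowπ A I M N x) = Formal2.quotPowπ A I M n x := by
  rw [TL, Submodule.mkQ_apply, Submodule.liftQ_apply]

theorem trans_mk (M : ModuleCat.{u} A) (N : ℕ) (x : M) :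
    Formal2.quotPowTrans A I M N (Formal2.quotPowπ A I M (N + 1) x) = Formal2.quotPowπ A I M N x := by
  rw [Formal2.quotPowTrans, Submodule.mkQ_apply, Submodule.mapQ_apply, LinearMap.id_apply, Submodule.mkQ_apply]

theorem TL_succ (M : ModuleCat.{u} A) {n N : ℕ} (h : n ≤ N) :
    (TL I M h).comp (Formal2.quotPowTrans A I M N) = TL I M (h.trans (Nat.le_succ N)) := by
  refine LinearMap.ext fun y => ?_
  obtain ⟨x, rfl⟩ := Submodule.mkQ_surjective (I ^ (N + 1 + 1) • (⊤ : Submodule A M)) y
  rw [LinearMap.comp_apply, trans_mk, TL_mk]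
  exact (TL_mk I M (h.trans (Nat.le_succ N)) x).symm

theorem T_succ (M : ModuleCat.{u} A) {n N : ℕ} (h : n ≤ N) :
    ModuleCat.ofHom (Formal2.quotPowTrans A I M N) ≫ T I M h = T I M (h.trans (Nat.le_succ N)) := by
  rw [T, T, ← ModuleCat.ofHom_comp, TL_succ]

theorem exists_factor {M W : ModuleCat.{u} A} (π : M ⟶ W) {n N : ℕ} (h : n ≤ N)
    (hker : LinearMap.ker π.hom ≤ I ^ (n + 1) • (⊤ : Submodule A M))
    (l : QM I M N ⟶ W) (hl : ModuleCat.ofHom (Formal2.quotPowπ A I M N) ≫ l = π) :
    ∃ (R : ModuleCat.{u} A) (p : QM I M N ⟶ R) (ι : R ⟶ W) (q : R ⟶ QM I M n),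
      Mono ι ∧ Epi q ∧ p ≫ ι = l ∧ p ≫ q = T I M h := by
  let f := π.hom
  have hN : I ^ (N + 1) • (⊤ : Submodule A M) ≤ LinearMap.ker f.rangeRestrict := by
    intro z hz
    rw [LinearMap.ker_rangeRestrict, LinearMap.mem_ker]
    show π.hom z = 0
    rw [← hl]
    show l.hom (Formal2.quotPowπ A I M N z) = 0
    rw [show Formal2.quotPowπ A I M N z = 0 from (Submodule.Quotient.mk_eq_zero _).mpr hz, map_zero]
  have hq : LinearMap.ker f ≤ LinearMap.ker (Formal2.quotPowπ A I M n) := by
    rw [Submodule.ker_mkQ]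
    exact hker
  refine ⟨ModuleCat.of A (LinearMap.range f), ModuleCat.ofHom ((I ^ (N + 1) • ⊤ : Submodule A M).liftQ f.rangeRestrict hN),
    ModuleCat.ofHom (LinearMap.range f).subtype,
    ModuleCat.ofHom ((LinearMap.ker f).liftQ (Formal2.quotPowπ A I M n) hq ∘ₗ
      f.quotKerEquivRange.symm.toLinearMap), (ModuleCat.mono_iff_injective _).mpr Subtype.val_injective, ?_, ?_, ?_⟩
  · refine (ModuleCat.epi_iff_surjective _).mpr fun y => ?_
    obtain ⟨z, rfl⟩ := Submodule.mkQ_surjective _ y
    refine ⟨⟨f z, LinearMap.mem_range_self f z⟩, ?_⟩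
    refine (congrArg ((LinearMap.ker f).liftQ (Formal2.quotPowπ A I M n) hq)
      (LinearMap.quotKerEquivRange_symm_apply_image f z (LinearMap.mem_range_self f z))).trans ?_
    rfl
  · refine ModuleCat.hom_ext (Submodule.linearMap_qext _ (LinearMap.ext fun z => ?_))
    exact (congrArg (fun φ => φ.hom z) hl).symm
  · refine ModuleCat.hom_ext (Submodule.linearMap_qext _ (LinearMap.ext fun z => ?_))
    refine (congrArg ((LinearMap.ker f).liftQ (Formal2.quotPowπ A I M n) hq)
      (LinearMap.quotKerEquivRange_symm_apply_image f z (LinearMap.mem_range_self f z))).trans ?_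
    rfl

theorem tilde_app_injective_of_mono {M N : ModuleCat.{u} A} (f : M ⟶ N) [Mono f]
    (V : (Spec (CommRingCat.of A)).Opens) :
    Function.Injective (((tilde.functor (CommRingCat.of A)).map f).app V) := by
  haveI := KFlat.TildeExact.preservesFiniteLimits_tilde (CommRingCat.of A)
  let G := Scheme.Modules.toPresheaf (Spec (CommRingCat.of A)) ⋙ (evaluation _ AddCommGrpCat.{u}).obj (op V)
  haveI : PreservesFiniteLimits ((evaluation (Spec (CommRingCat.of A)).Opensᵒᵖ AddCommGrpCat.{u}).obj (op V)) :=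
    ⟨fun _ _ _ => evaluation_preservesLimitsOfShape _⟩
  haveI : PreservesFiniteLimits G := comp_preservesFiniteLimits (Scheme.Modules.toPresheaf _) _
  haveI : Mono ((tilde.functor (CommRingCat.of A)).map f) := inferInstance
  exact (AddCommGrpCat.mono_iff_injective (G.map ((tilde.functor (CommRingCat.of A)).map f))).mp inferInstance

end Groth.Agent.FormalExist.Factor
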