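import Groth.Agent.Formal61.Sys
import Groth.Agent.FormalFun.FormalVanish
import Groth.Agent.ProjTwist.Quotient
import Groth.Agent.PullStalk.Exact
import Groth.Agent.Omega.Stalks

/-!
# Nakayama for towers of modules, and kernels of surjections of coherent formal modules
-/

set_option autoImplicit false

universe u

open CategoryTheory Limits AlgebraicGeometry Opposite TopologicalSpace
open Groth.Agent Groth.Agent.PullStalk.Sky Groth.Agent.PullStalk.Exact

noncomputable section

namespace Groth.Agent.FormalExist.Formal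

variable {A : Type u} [CommRing A] {X : Scheme.{u}} [X.Over (Spec (CommRingCat.of A))] {I : Ideal A}

theorem id_eq_zero_of_killedBy {C : X.Modules} [Epi (Formal.smulFamily I C)] :
    ∀ k : ℕ, Formal.KilledBy (I ^ k) C → 𝟙 C = 0
  | 0, h => by rw [← FormalFun.smulMod_one (A := A) C]; exact h 1 (by rw [pow_zero, Ideal.one_eq_top]; trivial)
  | k + 1, h => id_eq_zero_of_killedBy k fun b hb => by
      refine (cancel_epi (Formal.smulFamily I C)).1 ?_
      apply Sigma.hom_ext
      intro a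
      rw [comp_zero, comp_zero, ← Category.assoc, Formal.smulFamily, Sigma.ι_desc, ← CohIII.smulMod_mul]
      exact h _ ((pow_succ I k).ge (Ideal.mul_mem_mul hb a.2))

theorem epi_map {E : ℕᵒᵖ ⥤ X.Modules} (h : ∀ n, Epi (E.map (homOfLE (Nat.le_succ n)).op)) {n m : ℕ}
    (hnm : n ≤ m) : Epi (E.map (homOfLE hnm).op) := by
  induction m, hnm using Nat.le_induction with
  | base =>
    rw [show E.map (homOfLE (le_refl n)).op = 𝟙 _ from E.map_id (op n)]
    infer_instance
  | succ m hm ih =>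
    rw [← homOfLE_comp hm (Nat.le_succ m), op_comp, Functor.map_comp]
    haveI := ih
    haveI := h m
    infer_instance

/-- Nakayama: compatible maps into a tower which are epi at level `c` are epi everywhere. -/
theorem epi_all (E : ℕᵒᵖ ⥤ X.Modules) (hk : ∀ n, Formal.KilledBy (I ^ (n + 1)) (E.obj (op n)))
    (hepi : ∀ n, Epi (E.map (homOfLE (Nat.le_succ n)).op)) (c : ℕ)
    (hker : ∀ n, c ≤ n → ∀ (Z : X.Modules) (v : E.obj (op (n + 1)) ⟶ Z),
      (∀ a ∈ I, Formal.smulMod A (E.obj (op (n + 1))) a ≫ v = 0) →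
      kernel.ι (E.map (homOfLE (Nat.le_succ n)).op) ≫ v = 0)
    {M : X.Modules} (g : ∀ n, M ⟶ E.obj (op n))
    (hg : ∀ n, g (n + 1) ≫ E.map (homOfLE (Nat.le_succ n)).op = g n) (hc : Epi (g c)) (n : ℕ) : Epi (g n) := by
  have hup : ∀ m, c ≤ m → Epi (g m) := by
    intro m hm
    induction m, hm using Nat.le_induction with
    | base => exact hc
    | succ m hm ih =>
      refine Abelian.epi_of_cokernel_π_eq_zero _ ?_
      let C := cokernel (g (m + 1))
      let u := cokernel.π (Formal.smulFamily I C)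
      haveI : Epi u := inferInstanceAs (Epi (cokernel.π _))
      let v : E.obj (op (m + 1)) ⟶ cokernel (Formal.smulFamily I C) := cokernel.π (g (m + 1)) ≫ u
      have hv : ∀ a ∈ I, Formal.smulMod A (E.obj (op (m + 1))) a ≫ v = 0 := fun a ha => by
        show _ ≫ cokernel.π (g (m + 1)) ≫ u = 0
        rw [← Category.assoc, FormalFun.smulMod_natural, Category.assoc, FormalFun.smulMod_natural]
        rw [show Formal.smulMod A (cokernel (Formal.smulFamily I C)) a = 0 from
          (cancel_epi u).1 ((FormalFun.smulMod_natural u a).symm.trans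
            ((FormalFun.smulMod_comp_π C ha).trans comp_zero.symm)), comp_zero, comp_zero]
      haveI := hepi m
      let S := ShortComplex.mk (kernel.ι (E.map (homOfLE (Nat.le_succ m)).op))
        (E.map (homOfLE (Nat.le_succ m)).op) (kernel.condition _)
      have hS : S.ShortExact :=
        { exact := ShortComplex.exact_of_f_is_kernel _ (kernelIsKernel _), epi_g := hepi m }
      obtain ⟨w, hw⟩ : ∃ w, E.map (homOfLE (Nat.le_succ m)).op ≫ w = v :=
        ⟨hS.gIsCokernel.desc (CokernelCofork.ofπ v (hker m hm _ v hv)),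
          hS.gIsCokernel.fac (CokernelCofork.ofπ v (hker m hm _ v hv)) WalkingParallelPair.one⟩
      have hw0 : w = 0 := by
        haveI := ih
        refine (cancel_epi (g m)).1 ?_
        rw [← hg m, Category.assoc, hw, comp_zero]
        exact (Category.assoc _ _ _).symm.trans ((congrArg (· ≫ u) (cokernel.condition _)).trans zero_comp)
      have hu : u = 0 := by
        refine (cancel_epi (cokernel.π (g (m + 1)))).1 ?_
        rw [comp_zero]
        exact hw.symm.trans (by rw [hw0, comp_zero])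
      haveI : Epi (Formal.smulFamily I C) := Abelian.epi_of_cokernel_π_eq_zero _ hu
      have hC : 𝟙 C = 0 := id_eq_zero_of_killedBy (I := I) (m + 1 + 1)
        (Formal61.Sys.killedBy_of_epi (cokernel.π (g (m + 1))) (hk (m + 1)))
      rw [← Category.comp_id (cokernel.π (g (m + 1))), hC, comp_zero]
  have key : ∀ m (hnm : n ≤ m), g m ≫ E.map (homOfLE hnm).op = g n := by
    intro m hnm
    induction m, hnm using Nat.le_induction with
    | base => rw [show E.map (homOfLE (le_refl n)).op = 𝟙 _ from E.map_id (op n), Category.comp_id]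
    | succ m hm ih =>
      rw [← ih, ← hg m, Category.assoc, ← E.map_comp]
      rfl
  rw [← key (max n c) (le_max_left n c)]
  haveI := hup (max n c) (le_max_right n c)
  haveI := epi_map hepi (le_max_left n c)
  infer_instance

open FormalFun.FormalVanish in
theorem kernel_killed {G : ℕᵒᵖ ⥤ X.Modules} (hG : Formal.IsCohFormal I G) (n : ℕ) (Z : X.Modules)
    (v : G.obj (op (n + 1)) ⟶ Z) (hv : ∀ a ∈ I, Formal.smulMod A (G.obj (op (n + 1))) a ≫ v = 0) :
    kernel.ι (tr G n) ≫ v = 0 := by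
  haveI := epi_cover hG n
  refine (cancel_epi (cover hG n)).1 ?_
  rw [comp_zero, kernel.lift_ι_assoc]
  exact (Formal61.Sys.smulFamily_comp_eq_zero_iff v).2 fun a ha => hv a (Ideal.pow_le_self (Nat.succ_ne_zero n) ha)

theorem isCohFormal_completion (I : Ideal A) {M : X.Modules} (hM : Coh.IsCoh M) :
    Formal.IsCohFormal I (Formal.completion I M) := by
  refine ⟨fun n => FormalFun.isCoh_modPow I hM (n + 1), fun n => Formal61.Sys.killedBy_modPow I (n + 1) M,
    fun n => ?_⟩
  refine Formal61.Sys.IsModQuot.of_comp (π := Formal.modPowπ I (n + 1 + 1) M) ?_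
  have e := Formal61.Sys.modPowπ_comp_completion_map I M (Nat.le_succ n)
  exact e.symm ▸ Formal61.Sys.isModQuot_modPowπ I (n + 1) M

/-! ## The kernel tower of a surjection of coherent formal modules -/

open Groth.Agent.FormalFun.FormalVanish (tr K cover μ T)

variable {F G : ℕᵒᵖ ⥤ X.Modules} (α : F ⟶ G)

/-- componentwise kernels -/
def ker : ℕᵒᵖ ⥤ X.Modules where
  obj i := kernel (α.app i)
  map f := kernel.map _ _ (F.map f) (G.map f) (α.naturality f).symm
  map_id i := by
    refine (cancel_mono (kernel.ι (α.app i))).1 ?_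
    simp
  map_comp f g := by
    refine (cancel_mono (kernel.ι _)).1 ?_
    simp

/-- the inclusion of the kernel tower -/
def kι (i : ℕᵒᵖ) : (ker α).obj i ⟶ F.obj i := kernel.ι (α.app i)

instance mono_kι (i : ℕᵒᵖ) : Mono (kι α i) := inferInstanceAs (Mono (kernel.ι _))

@[reassoc]
theorem kι_app (i : ℕᵒᵖ) : kι α i ≫ α.app i = 0 := kernel.condition _

theorem exists_lift_kι {W : X.Modules} {i : ℕᵒᵖ} (f : W ⟶ F.obj i) (h : f ≫ α.app i = 0) :
    ∃ g : W ⟶ (ker α).obj i, g ≫ kι α i = f := ⟨kernel.lift _ f h, kernel.lift_ι _ _ _⟩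

theorem ker_map_ι {i j : ℕᵒᵖ} (f : i ⟶ j) :
    (ker α).map f ≫ kι α j = kι α i ≫ F.map f := kernel.lift_ι _ _ _

/-- the map on kernels of the transition maps -/
def τ (n : ℕ) : K F n ⟶ K G n :=
  kernel.map _ _ (α.app (op (n + 1))) (α.app (op n)) (α.naturality _)

theorem τ_ι (n : ℕ) : τ α n ≫ kernel.ι (tr G n) = kernel.ι (tr F n) ≫ α.app (op (n + 1)) := kernel.lift_ι _ _ _

variable (hF : Formal.IsCohFormal I F) (hG : Formal.IsCohFormal I G)

include hF hG in
theorem epi_τ (hα : ∀ n, Epi (α.app (op n))) (n : ℕ) : Epi (τ α n) := by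
  haveI := FormalFun.FormalVanish.epi_cover hG n
  haveI := hα (n + 1)
  let s : (∐ fun _ : ↥(I ^ (n + 1)) => F.obj (op (n + 1))) ⟶ ∐ fun _ : ↥(I ^ (n + 1)) => G.obj (op (n + 1)) :=
    Limits.Sigma.map fun _ => α.app (op (n + 1))
  haveI : Epi s := inferInstanceAs (Epi (Limits.Sigma.map _))
  refine Preadditive.epi_of_cancel_zero _ fun {Z} v hv => ?_
  refine (cancel_epi (cover hG n)).1 ((cancel_epi s).1 ?_)
  rw [comp_zero, comp_zero]
  apply Sigma.hom_ext
  intro b
  have key : α.app (op (n + 1)) ≫ Sigma.ι (fun _ : ↥(I ^ (n + 1)) => G.obj (op (n + 1))) b ≫ cover hG n =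
      kernel.lift (tr F n) (Formal.smulMod A (F.obj (op (n + 1))) b.1) (by
        rw [FormalFun.smulMod_natural, hF.2.1 n b.1 b.2, comp_zero]) ≫ τ α n := by
    refine (cancel_mono (kernel.ι (tr G n))).1 ?_
    rw [Category.assoc, Category.assoc, Category.assoc, kernel.lift_ι, Formal.smulFamily, Sigma.ι_desc, τ_ι,
      kernel.lift_ι_assoc, FormalFun.smulMod_natural]
  rw [comp_zero, Sigma.ι_map_assoc]
  have := congrArg (· ≫ v) key
  simp only [Category.assoc] at this
  rw [this, hv, comp_zero]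

include hF hG in
theorem ker_epi_tr (hα : ∀ n, Epi (α.app (op n))) (n : ℕ) :
    Epi ((ker α).map (homOfLE (Nat.le_succ n)).op) := by
  haveI := hα n
  haveI := hα (n + 1)
  haveI := FormalFun.FormalVanish.epi_tr hF n
  haveI := epi_τ α hF hG hα n
  have ex : ∀ {P Q : X.Modules} (f : P ⟶ Q) (y : X) (t : P.presheaf.stalk y), stalkLin f y t = 0 →
      ∃ w, stalkLin (kernel.ι f) y w = t := by
    intro P Q f y t ht
    let S := ShortComplex.mk (kernel.ι f) (Abelian.factorThruImage f) (by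
      rw [← cancel_mono (Abelian.image.ι f), Category.assoc, Abelian.image.fac, kernel.condition, zero_comp])
    have hS : S.ShortExact :=
      { exact := ShortComplex.exact_of_f_is_kernel _ (KernelFork.IsLimit.ofι' _ _ fun {W} k hk =>
          ⟨kernel.lift f k (by rw [← Abelian.image.fac f, ← Category.assoc, hk, zero_comp]), kernel.lift_ι _ _ _⟩) }
    refine ((stalk_exact hS y).2.1 t).mp (Omega.Stalks.stalkLin_injective_of_mono (Abelian.image.ι f) y ?_)
    rw [← Omega.Stalks.stalkLin_comp, Abelian.image.fac, map_zero]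
    exact ht
  refine Omega.Stalks.epi_of_stalk fun y e => ?_
  obtain ⟨f, hf⟩ := stalk_surjective (tr F n) y (stalkLin (kι α (op n)) y e)
  have h0 : stalkLin (tr G n) y (stalkLin (α.app (op (n + 1))) y f) = 0 := by
    rw [← Omega.Stalks.stalkLin_comp, ← α.naturality, Omega.Stalks.stalkLin_comp, hf, ← Omega.Stalks.stalkLin_comp,
      kι_app, Omega.Stalks.stalkLin_zero]
  obtain ⟨k, hk⟩ := ex (tr G n) y _ h0
  obtain ⟨j, rfl⟩ := stalk_surjective (τ α n) y k
  rw [← Omega.Stalks.stalkLin_comp, τ_ι, Omega.Stalks.stalkLin_comp] at hk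
  obtain ⟨w, hw⟩ : ∃ w, stalkLin (kι α (op (n + 1))) y w = f - stalkLin (kernel.ι (tr F n)) y j :=
    ex (α.app (op (n + 1))) y (f - stalkLin (kernel.ι (tr F n)) y j) (by rw [map_sub, hk, sub_self])
  refine ⟨w, Omega.Stalks.stalkLin_injective_of_mono (kι α (op n)) y ?_⟩
  rw [← Omega.Stalks.stalkLin_comp, ker_map_ι, Omega.Stalks.stalkLin_comp, hw, map_sub, hf,
    ← Omega.Stalks.stalkLin_comp, kernel.condition, Omega.Stalks.stalkLin_zero, sub_zero]

/-- Kernel of the transition map of the kernel tower. -/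
theorem exists_iso_kerτ (n : ℕ) : ∃ e : kernel ((ker α).map (homOfLE (Nat.le_succ n)).op) ≅ kernel (τ α n),
    e.hom ≫ kernel.ι (τ α n) ≫ kernel.ι (tr F n) =
      kernel.ι ((ker α).map (homOfLE (Nat.le_succ n)).op) ≫ kι α (op (n + 1)) := by
  let k : kernel ((ker α).map (homOfLE (Nat.le_succ n)).op) ⟶ (ker α).obj (op (n + 1)) :=
    kernel.ι ((ker α).map (homOfLE (Nat.le_succ n)).op)
  let i : (ker α).obj (op (n + 1)) ⟶ F.obj (op (n + 1)) := kι α (op (n + 1))
  let p := kernel.ι (τ α n) ≫ kernel.ι (tr F n)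
  have h1 : (k ≫ i) ≫ tr F n = 0 := by
    show (k ≫ i) ≫ F.map (homOfLE (Nat.le_succ n)).op = 0
    exact (Category.assoc _ _ _).trans ((congrArg (k ≫ ·) (ker_map_ι α (homOfLE (Nat.le_succ n)).op).symm).trans
      ((Category.assoc _ _ _).symm.trans ((congrArg (· ≫ kι α (op n)) (kernel.condition _)).trans
        zero_comp)))
  have h2 : kernel.lift (tr F n) (k ≫ i) h1 ≫ τ α n = 0 := by
    rw [← cancel_mono (kernel.ι (tr G n)), Category.assoc, τ_ι, kernel.lift_ι_assoc, zero_comp]
    exact (Category.assoc k i _).trans ((congrArg (k ≫ ·) (kernel.condition _)).trans comp_zero)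
  have h3 : p ≫ α.app (op (n + 1)) = 0 := by
    rw [Category.assoc, ← τ_ι, ← Category.assoc, kernel.condition, zero_comp]
  have h4 : kernel.lift _ p h3 ≫ (ker α).map (homOfLE (Nat.le_succ n)).op = 0 := by
    refine (cancel_mono (kι α (op n))).1 ?_
    refine Eq.trans ?_ zero_comp.symm
    refine (Category.assoc _ _ _).trans ((congrArg (kernel.lift _ p h3 ≫ ·) (ker_map_ι α _)).trans ?_)
    refine (kernel.lift_ι_assoc _ _ _ _).trans ?_
    exact (Category.assoc _ _ _).trans ((congrArg (kernel.ι (τ α n) ≫ ·) (kernel.condition _)).trans comp_zero)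
  let a := kernel.lift (τ α n) _ h2
  let b := kernel.lift ((ker α).map (homOfLE (Nat.le_succ n)).op) _ h4
  have ha : a ≫ p = k ≫ i := by
    show a ≫ kernel.ι _ ≫ _ = _
    rw [kernel.lift_ι_assoc, kernel.lift_ι]
  have hb : b ≫ k ≫ i = p :=
    (kernel.lift_ι_assoc _ _ _ i).trans (kernel.lift_ι _ _ _)
  haveI : Mono k := equalizer.ι_mono
  haveI : Mono i := mono_kι α _
  haveI : Mono (k ≫ i) := mono_comp _ _
  haveI : Mono p := mono_comp _ _
  exact ⟨⟨a, b, (cancel_mono (k ≫ i)).1 (by rw [Category.assoc, hb, ha, Category.id_comp]),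
    (cancel_mono p).1 (by rw [Category.assoc, ha, hb, Category.id_comp])⟩, ha⟩

theorem μ_natural (n : ℕ) {a : A} (ha : a ∈ I) :
    α.app (op n) ≫ μ hG n ha = μ hF n ha ≫ α.app (op (n + 1)) := by
  haveI := FormalFun.FormalVanish.epi_tr hF n
  refine (cancel_epi (tr F n)).1 ?_
  rw [FormalFun.FormalVanish.tr_μ_assoc, FormalFun.smulMod_natural, ← FormalFun.FormalVanish.tr_μ hG n ha,
    ← Category.assoc, ← Category.assoc]
  exact congrArg (· ≫ μ hG n ha) (α.naturality _)

/-- multiplication by `a ∈ I` on the kernel tower -/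
def μker (n : ℕ) {a : A} (ha : a ∈ I) : (ker α).obj (op n) ⟶ (ker α).obj (op (n + 1)) :=
  kernel.lift _ (kι α (op n) ≫ μ hF n ha) (by
    rw [Category.assoc, ← μ_natural α hF hG, kι_app_assoc, zero_comp])

theorem map_μker (n : ℕ) {a : A} (ha : a ∈ I) :
    (ker α).map (homOfLE (Nat.le_succ n)).op ≫ μker α hF hG n ha = Formal.smulMod A _ a := by
  refine (cancel_mono (kι α (op (n + 1)))).1 ?_
  refine (Category.assoc _ _ _).trans ((congrArg (_ ≫ ·) (kernel.lift_ι _ _ _)).trans ?_)
  rw [← Category.assoc, ker_map_ι, Category.assoc]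
  exact (congrArg (_ ≫ ·) (FormalFun.FormalVanish.tr_μ hF n ha)).trans (FormalFun.smulMod_natural _ a).symm

theorem τ_T (n : ℕ) {a : A} (ha : a ∈ I) : τ α n ≫ T hG n ha = T hF n ha ≫ τ α (n + 1) := by
  refine (cancel_mono (kernel.ι (tr G (n + 1)))).1 ?_
  rw [Category.assoc, FormalFun.FormalVanish.T_ι, ← Category.assoc, τ_ι, Category.assoc, μ_natural α hF hG,
    Category.assoc, τ_ι, FormalFun.FormalVanish.T_ι_assoc]

/-- the operator on the kernels of `τ` -/
def Tker (n : ℕ) {a : A} (ha : a ∈ I) : kernel (τ α n) ⟶ kernel (τ α (n + 1)) :=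
  kernel.map _ _ (T hF n ha) (T hG n ha) (τ_T α hF hG n ha)

theorem Tker_ι (n : ℕ) {a : A} (ha : a ∈ I) :
    Tker α hF hG n ha ≫ kernel.ι (τ α (n + 1)) = kernel.ι (τ α n) ≫ T hF n ha := kernel.lift_ι _ _ _

/-- The graded system of the kernels of `τ`. -/
def sys [IsLocallyNoetherian X] (𝒰 : FormalFun.AffCov X) {r : ℕ} (a : Fin r → A)
    (ha : ∀ l, a l ∈ I) (hspan : I = Ideal.span (Set.range a)) : FormalFun.GrSys 𝒰 r where
  M n := kernel (τ α n)
  T l n := Tker α hF hG n (ha l)
  comm l l' n := by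
    refine (cancel_mono (kernel.ι (τ α (n + 1 + 1)))).1 ?_
    rw [Category.assoc, Category.assoc, Tker_ι, Tker_ι, ← Category.assoc, ← Category.assoc, Tker_ι, Tker_ι,
      Category.assoc, Category.assoc, FormalFun.FormalVanish.T_comm]
  coh n := CohDev.isCoh_kernel _ (CohDev.isCoh_kernel _ (hF.1 (n + 1)) (hF.1 n).1)
    (CohDev.isCoh_kernel _ (hG.1 (n + 1)) (hG.1 n).1).1
  gen k := by
    let SF := FormalFun.FormalVanish.sys hF 𝒰 a ha hspan
    haveI : IsNoetherianRing Γ(X, 𝒰.U k) := IsLocallyNoetherian.component_noetherian ⟨_, 𝒰.isAffine k⟩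
    haveI : ∀ n, Module.Finite Γ(X, 𝒰.U k) Γ(K F n, 𝒰.U k) := fun n =>
      CohDev.finite_sections (SF.coh n) (𝒰.isAffine k)
    obtain ⟨d, hd⟩ := FormalFun.GrNoeth.exists_sub_gen (A := Γ(X, 𝒰.U k)) (H := fun n => Γ(K F n, 𝒰.U k))
      (fun i n => CohDev.appLin (SF.T i n) (𝒰.U k))
      (fun i j n x => by
        show (SF.T i (n + 1)).app _ ((SF.T j n).app _ x) = (SF.T j (n + 1)).app _ ((SF.T i n).app _ x)
        exact (FormalFun.app_comp _ _ _ _).symm.trans
          ((congrArg (fun φ => Scheme.Modules.Hom.app φ (𝒰.U k) x) (SF.comm j i n)).trans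
            (FormalFun.app_comp _ _ _ _)))
      (SF.gen k) (fun n => LinearMap.ker (CohDev.appLin (τ α n) (𝒰.U k)))
      (fun i n x hx => by
        show (τ α (n + 1)).app _ ((T hF n (ha i)).app _ x) = 0
        rw [← FormalFun.app_comp, ← τ_T α hF hG, FormalFun.app_comp]
        exact (congrArg _ (LinearMap.mem_ker.mp hx)).trans (map_zero _))
    refine ⟨d, fun n hn x => ?_⟩
    obtain ⟨y, hy, hxy⟩ := hd n hn ((kernel.ι (τ α (n + 1))).app (𝒰.U k) x) (by
      rw [LinearMap.mem_ker]
      exact QCoh.app_app_eq_zero (ShortComplex.mk _ _ (kernel.condition (τ α (n + 1)))) _ x)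
    choose z hz using fun i => QCoh.exists_app_eq_of_app_eq_zero
      (ShortComplex.mk (kernel.ι (τ α n)) (τ α n) (kernel.condition _))
      (ShortComplex.exact_of_f_is_kernel _ (kernelIsKernel _)) (𝒰.U k) (y i) (hy i)
    refine ⟨z, QCoh.app_injective_of_mono (kernel.ι (τ α (n + 1))) _ ?_⟩
    rw [hxy, map_sum]
    refine Finset.sum_congr rfl fun i _ => ?_
    show _ = (kernel.ι (τ α (n + 1))).app _ ((Tker α hF hG n (ha i)).app _ (z i))
    rw [← FormalFun.app_comp, Tker_ι, FormalFun.app_comp]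
    exact congrArg _ (hz i).symm

include hF hG in
/-- From some level on the kernels of the transition maps of the kernel tower lie in `I ·` it. -/
theorem exists_ker_killed [IsNoetherianRing A] [IsNoetherian X] (hα : ∀ n, Epi (α.app (op n))) :
    ∃ c, ∀ n, c ≤ n → ∀ (Z : X.Modules) (v : (ker α).obj (op (n + 1)) ⟶ Z),
      (∀ a ∈ I, Formal.smulMod A ((ker α).obj (op (n + 1))) a ≫ v = 0) →
      kernel.ι ((ker α).map (homOfLE (Nat.le_succ n)).op) ≫ v = 0 := by
  obtain ⟨r, a, hspan⟩ := Submodule.fg_iff_exists_fin_generating_family.mp (IsNoetherian.noetherian I)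
  have hspan' : I = Ideal.span (Set.range a) := hspan.symm
  have ha : ∀ l, a l ∈ I := fun l => hspan'.ge (Ideal.subset_span ⟨l, rfl⟩)
  obtain ⟨𝒰, _⟩ := FormalFun.exists_affCov (X := X)
  cases nonempty_fintype 𝒰.ι
  let S := sys α hF hG 𝒰 a ha hspan'
  choose d hd using S.gen
  refine ⟨Finset.univ.sup d + 1, fun n hn Z v hv => ?_⟩
  obtain ⟨m, rfl⟩ : ∃ m, n = m + 1 := ⟨n - 1, by omega⟩
  obtain ⟨e, he⟩ := exists_iso_kerτ α (m + 1)
  obtain ⟨e', he'⟩ := exists_iso_kerτ α m
  refine (cancel_epi e.inv).1 ?_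
  rw [comp_zero]
  haveI : (kernel (τ α (m + 1))).IsQuasicoherent := (S.coh (m + 1)).1
  refine ProjTwist.eq_zero_of_app_eq_zero _ 𝒰.U 𝒰.isAffine (top_le_iff.mp 𝒰.covers) fun k x => ?_
  obtain ⟨y, rfl⟩ := hd k m ((Finset.le_sup (Finset.mem_univ k)).trans (by omega)) x
  refine (map_sum _ _ _).trans (Finset.sum_eq_zero fun i _ => ?_)
  have e1 : e'.hom ≫ Tker α hF hG m (ha i) ≫ e.inv ≫
      kernel.ι ((ker α).map (homOfLE (Nat.le_succ (m + 1))).op) =
      kernel.ι ((ker α).map (homOfLE (Nat.le_succ m)).op) ≫ μker α hF hG (m + 1) (ha i) := by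
    refine (cancel_mono (kι α (op (m + 1 + 1)))).1 ?_
    have he2 : e.inv ≫ kernel.ι ((ker α).map (homOfLE (Nat.le_succ (m + 1))).op) ≫
        kι α (op (m + 1 + 1)) = kernel.ι (τ α (m + 1)) ≫ kernel.ι (tr F (m + 1)) := by
      rw [← he, e.inv_hom_id_assoc]
    simp only [Category.assoc]
    rw [he2, ← Category.assoc (Tker α hF hG m (ha i)), Tker_ι, Category.assoc, FormalFun.FormalVanish.T_ι,
      ← Category.assoc, ← Category.assoc, Category.assoc e'.hom, he', Category.assoc]
    exact congrArg (_ ≫ ·) (kernel.lift_ι _ _ _).symm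
  have e2 : Tker α hF hG m (ha i) ≫ e.inv ≫ kernel.ι ((ker α).map (homOfLE (Nat.le_succ (m + 1))).op) ≫ v = 0 := by
    refine (cancel_epi e'.hom).1 ?_
    rw [comp_zero]
    have := congrArg (· ≫ v) e1
    simp only [Category.assoc] at this
    rw [this]
    haveI := ker_epi_tr α hF hG hα (m + 1)
    have h0 : μker α hF hG (m + 1) (ha i) ≫ v = 0 := (cancel_epi ((ker α).map (homOfLE (Nat.le_succ (m + 1))).op)).1
      (by rw [← Category.assoc, map_μker, hv _ (ha i), comp_zero])
    rw [h0, comp_zero]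
  exact (FormalFun.app_comp _ _ _ _).symm.trans
    ((congrArg (fun φ => Scheme.Modules.Hom.app φ (𝒰.U k) (y i)) e2).trans rfl)

end Groth.Agent.FormalExist.Formal
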