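import Groth.Agent.CohDev.AR
import Groth.Agent.FormalFun.Powers
import Groth.Agent.ProperFin.Supp
import Groth.Agent.QCohGen.Noeth

/-!
# Quotients of modules by ideal sheaves, and kernels of `M ⟶ M / I^n M` over an arbitrary base ring
-/

set_option autoImplicit false

universe u

open CategoryTheory Limits AlgebraicGeometry Opposite TopologicalSpace
open Groth.Agent Groth.Agent.PullStalk.Sky Groth.Agent.PullStalk.Exact

noncomputable section

namespace Groth.Agent.FormalExist.IdealQuot

variable {X : Scheme.{u}}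

/-- Membership in `J Γ(W, G)` is local. -/
theorem mem_smul_of_germ {G : X.Modules} [G.IsQuasicoherent] {W : X.Opens} (hW : IsAffineOpen W)
    (J : Ideal Γ(X, W)) (x : Γ(G, W))
    (h : ∀ (y : X) (hy : y ∈ W), germM G W y hy x ∈
      (J.map (X.presheaf.germ W y hy).hom) • (⊤ : Submodule (X.presheaf.stalk y) (G.presheaf.stalk y))) :
    x ∈ J • (⊤ : Submodule Γ(X, W) Γ(G, W)) := by
  let N := J • (⊤ : Submodule Γ(X, W) Γ(G, W))
  let a : Ideal Γ(X, W) :=
    { carrier := {r | r • x ∈ N}
      zero_mem' := by show (0 : Γ(X, W)) • x ∈ N; rw [zero_smul]; exact zero_mem _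
      add_mem' := fun {r s} hr hs => by show (r + s) • x ∈ N; rw [add_smul]; exact add_mem hr hs
      smul_mem' := fun c r hr => by show (c • r) • x ∈ N; rw [smul_assoc]; exact N.smul_mem c hr }
  suffices a = ⊤ by
    have h1 : (1 : Γ(X, W)) ∈ a := by rw [this]; trivial
    have h2 : (1 : Γ(X, W)) • x ∈ N := h1
    rwa [one_smul] at h2
  have hcov : ⨆ f : (a : Set Γ(X, W)), X.basicOpen f.1 = W := by
    refine le_antisymm (iSup_le fun f => X.basicOpen_le _) fun y hy => ?_
    obtain ⟨m, s, hm, hs, hst⟩ := CohDev.exists_smul_mem_of_mem hW hy J (h y hy)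
    have hz : germM G W y hy (s • x - m) = 0 := by
      rw [show germM G W y hy (s • x - m) = germM G W y hy (s • x) - germM G W y hy m from
        map_sub (G.presheaf.germ W y hy).hom _ _, germM_smul, hst, sub_self]
    obtain ⟨c, hc, hcz⟩ := CycLib.exists_smul_eq_zero_of_germ_eq_zero G hW hy _ hz
    rw [smul_sub, sub_eq_zero, smul_smul] at hcz
    have hmem : c * s ∈ a := by
      show (c * s) • x ∈ N
      rw [hcz]
      exact N.smul_mem c hm
    refine Opens.mem_iSup.mpr ⟨⟨c * s, hmem⟩, (X.mem_basicOpen _ y hy).mpr ?_⟩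
    rw [map_mul]
    exact hc.mul hs
  have := hW.iSup_basicOpen_eq_self_iff.mp hcov
  rwa [Ideal.span_eq] at this

variable (K : X.IdealSheafData)

/-- sections killed by the unit of a closed subscheme -/
theorem mem_of_unit_app_eq_zero {G : X.Modules} [G.IsQuasicoherent] {W : X.Opens} (hW : IsAffineOpen W)
    (x : Γ(G, W))
    (hx : ((Scheme.Modules.pullbackPushforwardAdjunction K.subschemeι).unit.app G).app W x = 0) :
    x ∈ K.ideal ⟨W, hW⟩ • (⊤ : Submodule Γ(X, W) Γ(G, W)) := by
  refine mem_smul_of_germ hW _ x fun y hy => CohDev.mem_smul_of_unit_eq_zero K G hW hy _ ?_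
  exact (stalkLin_germ _ W y hy x).trans ((congrArg _ hx).trans (map_zero _))

/-- sections of a module killed by an ideal sheaf -/
theorem smul_eq_zero_of_mem {Z : X.Modules} {W : X.affineOpens} (hZ : ClSub.KilledByIdeal K Z)
    {M : X.Modules} (f : M ⟶ Z) {x : Γ(M, W.1)}
    (hx : x ∈ K.ideal W • (⊤ : Submodule Γ(X, W.1) Γ(M, W.1))) : f.app W.1 x = 0 := by
  refine Submodule.smul_induction_on hx (fun r hr m _ => ?_) (fun s t hs ht => by rw [map_add, hs, ht, add_zero])
  rw [Scheme.Modules.Hom.app_smul]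
  exact hZ W r hr _

/-- the quotient `M / K M` -/
def Q (M : X.Modules) : X.Modules := cokernel (Dual3.idealMulι K M)

/-- the projection -/
def π (M : X.Modules) : M ⟶ Q K M := cokernel.π _

instance epi_π (M : X.Modules) : Epi (π K M) := inferInstanceAs (Epi (cokernel.π _))

theorem π_app_eq_zero_iff {M : X.Modules} [M.IsQuasicoherent] {W : X.affineOpens} (x : Γ(M, W.1))
    (hQ : ClSub.KilledByIdeal K (Q K M)) :
    (π K M).app W.1 x = 0 ↔ x ∈ K.ideal W • (⊤ : Submodule Γ(X, W.1) Γ(M, W.1)) := by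
  refine ⟨fun h => mem_of_unit_app_eq_zero K W.2 x ?_, fun h => smul_eq_zero_of_mem K hQ _ h⟩
  let η := (Scheme.Modules.pullbackPushforwardAdjunction K.subschemeι).unit.app M
  have e : π K M ≫ cokernel.desc (Dual3.idealMulι K M) η (kernel.condition η) = η := cokernel.π_desc _ _ _
  show η.app W.1 x = 0
  rw [← e]
  exact (FormalFun.app_comp _ _ _ _).trans ((congrArg _ h).trans (map_zero _))

theorem comp_eq_zero_of_killed {G Q : X.Modules} (p : G ⟶ Q) (h : ClSub.KilledByIdeal K Q) :
    Dual3.idealMulι K G ≫ p = 0 := by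
  let adj := Scheme.Modules.pullbackPushforwardAdjunction K.subschemeι
  haveI : IsIso (adj.unit.app Q) := (ClUnit.isIso_unit_iff K.subschemeι Q).mpr fun V a ha s ↦
    h V a (by rwa [Scheme.IdealSheafData.ker_subschemeι] at ha) s
  rw [← cancel_mono (adj.unit.app Q), zero_comp, Category.assoc,
    show p ≫ adj.unit.app Q = adj.unit.app G ≫
      (Scheme.Modules.pushforward K.subschemeι).map ((Scheme.Modules.pullback K.subschemeι).map p)
      from adj.unit.naturality p, ← Category.assoc,
    show Dual3.idealMulι K G ≫ adj.unit.app G = 0 from kernel.condition _, zero_comp]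

theorem killed_Q (M : X.Modules) : ClSub.KilledByIdeal K (Q K M) := by
  let η := (Scheme.Modules.pullbackPushforwardAdjunction K.subschemeι).unit.app M
  have h : Mono (Abelian.factorThruCoimage η) := inferInstance
  exact @CohDev.killed_of_mono _ K _ _ (Abelian.factorThruCoimage η) h (ProperFin.killedByIdeal_push K _)

theorem isCoh_Q [AlgebraicGeometry.IsNoetherian X] {M : X.Modules} (hM : Coh.IsCoh M) : Coh.IsCoh (Q K M) :=
  CohDev.isCoh_cokernel _ (CohDev.isCoh_idealMul K hM).1 hM

theorem exists_desc {M Z : X.Modules} (f : M ⟶ Z) (hZ : ClSub.KilledByIdeal K Z) :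
    ∃ g : Q K M ⟶ Z, π K M ≫ g = f :=
  ⟨cokernel.desc _ f (comp_eq_zero_of_killed K f hZ), cokernel.π_desc _ _ _⟩

section Base

variable {A : Type u} [CommRing A] [X.Over (Spec (CommRingCat.of A))]

/-- The ideal sheaf `I O_X`. -/
def baseIdeal (X : Scheme.{u}) [X.Over (Spec (CommRingCat.of A))] (I : Ideal A) : X.IdealSheafData :=
  Scheme.IdealSheafData.ofIdealTop (I.map (Coh.toGlobal (X ↘ Spec (CommRingCat.of A))))

theorem baseIdeal_ideal (I : Ideal A) (W : X.affineOpens) :
    (baseIdeal X I).ideal W = I.map (FormalFun.gA (A := A) W.1) := by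
  exact Ideal.map_map _ _

/-- sections of the kernel of `M ⟶ M / I^n M` over an affine open -/
theorem modPowπ_app_eq_zero_iff (I : Ideal A) (n : ℕ) (M : X.Modules) [M.IsQuasicoherent] {W : X.Opens}
    (hW : IsAffineOpen W) (x : Γ(M, W)) :
    (Formal.modPowπ I n M).app W x = 0 ↔
      x ∈ (I.map (FormalFun.gA (A := A) W)) ^ n • (⊤ : Submodule Γ(X, W) Γ(M, W)) := by
  rw [← Ideal.map_pow]
  constructor
  · intro h
    let K := baseIdeal X (I ^ n)
    rw [← baseIdeal_ideal (I ^ n) ⟨W, hW⟩]
    refine mem_of_unit_app_eq_zero K hW x ?_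
    let η := (Scheme.Modules.pullbackPushforwardAdjunction K.subschemeι).unit.app M
    have hk : ∀ a ∈ I ^ n, Formal.smulMod A M a ≫ η = 0 := by
      intro a ha
      refine QCohGen.Noeth.eq_zero_of_cover _ fun y => ?_
      obtain ⟨V, hV, hy, -⟩ := exists_isAffineOpen_mem_and_subset (X := X) (Opens.mem_top y)
      refine ⟨⟨V, hV⟩, hy, fun t => ?_⟩
      rw [FormalFun.app_comp, FormalFun.smulMod_app, Scheme.Modules.Hom.app_smul]
      refine ProperFin.killedByIdeal_push K _ ⟨V, hV⟩ _ ?_ _
      rw [baseIdeal_ideal]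
      exact Ideal.mem_map_of_mem _ ha
    obtain ⟨g, hg⟩ : ∃ g, Formal.modPowπ I n M ≫ g = η := ⟨cokernel.desc _ η (Sigma.hom_ext _ _ fun a => by
        rw [comp_zero, Formal.smulFamily, Sigma.ι_desc_assoc]
        exact hk a.1 a.2), cokernel.π_desc _ _ _⟩
    show η.app W x = 0
    rw [← hg, FormalFun.app_comp, h, map_zero]
  · intro h
    refine Submodule.smul_induction_on h (fun r hr m _ => ?_) (fun s t hs ht => by rw [map_add, hs, ht, add_zero])
    induction hr using Submodule.span_induction with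
    | mem r hr =>
      obtain ⟨a, ha, rfl⟩ := hr
      refine (congrArg ((Formal.modPowπ I n M).app W) (FormalFun.smulMod_app M a W m).symm).trans ?_
      refine (FormalFun.app_comp _ _ W m).symm.trans ?_
      rw [show Formal.smulMod A M a ≫ Formal.modPowπ I n M = 0 from FormalFun.smulMod_comp_π M ha]
      rfl
    | zero => rw [zero_smul, map_zero]
    | add r s _ _ hr hs => rw [add_smul, map_add, hr, hs, add_zero]
    | smul s r _ hr => rw [smul_eq_mul, mul_smul, Scheme.Modules.Hom.app_smul, hr, smul_zero]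

end Base

end Groth.Agent.FormalExist.IdealQuot
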