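import Groth.Agent.FormalExist.Cover
import Groth.Agent.FormalExist.Formal
import Groth.Agent.S0060

/-!
# Algebraization of coherent formal modules on schemes with an ample module, proper over a complete base
-/

set_option autoImplicit false

universe u

open CategoryTheory Limits AlgebraicGeometry Opposite TopologicalSpace
open Groth.Agent

noncomputable section

namespace Groth.Agent.FormalExist.Proj

variable {A : Type u} [CommRing A] {X : Scheme.{u}} [X.Over (Spec (CommRingCat.of A))] {I : Ideal A}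

/-- Compatible maps into a system killed by the powers of `I` factor through the completion. -/
theorem exists_desc (M : X.Modules) {G : ℕᵒᵖ ⥤ X.Modules}
    (hk : ∀ n, Formal.KilledBy (I ^ (n + 1)) (G.obj (op n))) (g : ∀ n, M ⟶ G.obj (op n))
    (hg : ∀ n, g (n + 1) ≫ G.map (homOfLE (Nat.le_succ n)).op = g n) :
    ∃ α : Formal.completion I M ⟶ G, ∀ n, Formal.modPowπ I (n + 1) M ≫ α.app (op n) = g n := by
  choose a ha using fun n => (Formal61.Sys.isModQuot_modPowπ I (n + 1) M).exists_desc_of_killedBy (g n) (hk n)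
  refine ⟨NatTrans.ofOpSequence a fun n => ?_, ha⟩
  refine (cancel_epi (Formal.modPowπ I (n + 1 + 1) M)).1 ?_
  refine (Category.assoc _ _ _).symm.trans (Eq.trans ?_ (Category.assoc _ _ _))
  refine (congrArg (· ≫ a n) (Formal61.Sys.modPowπ_comp_completion_map I M (Nat.le_succ n))).trans ?_
  exact ((ha n).trans (hg n).symm).trans (congrArg (· ≫ _) (ha (n + 1)).symm)

theorem algebraize [IsNoetherianRing A] [IsAdicComplete I A] [IsProper (X ↘ Spec (CommRingCat.of A))]
    {L : X.Modules} (hL : CohB1.IsAmple L) (G : ℕᵒᵖ ⥤ X.Modules) (hG : Formal.IsCohFormal I G) :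
    ∃ M : X.Modules, Coh.IsCoh M ∧ Nonempty (Formal.completion I M ≅ G) := by
  haveI := FormalFun.isLocallyNoetherian_of_proper A X
  haveI := FormalFun.compactSpace_of_proper A X
  haveI : IsNoetherian X := ⟨⟩
  -- a cover of `G`
  obtain ⟨d₁, hd₁⟩ := FormalFun.FormalVanish.exists_bound hG hL
  obtain ⟨d₂, hd₂⟩ := AmpleLib.eventually_globallyGenerated hL (hG.1 0).1 (hG.1 0).2
  haveI : ∀ n, Epi (G.map (homOfLE (Nat.le_succ n)).op) := fun n => FormalFun.FormalVanish.epi_tr hG n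
  obtain ⟨M₀, g₀, hM₀, hg₀, hc₀⟩ := Cover.exists_cover G hL.1 (max d₁ d₂) 0 (hG.1 0)
    (fun n _ => hd₁ n _ (le_max_left _ _) 1 one_pos) (hd₂ _ (le_max_right _ _))
  have hepi₀ := FormalExist.Formal.epi_all G hG.2.1 (fun n => FormalFun.FormalVanish.epi_tr hG n) 0
    (fun n _ => FormalExist.Formal.kernel_killed hG n) g₀ hg₀ hc₀
  obtain ⟨α, hα⟩ := exists_desc M₀ hG.2.1 g₀ hg₀
  have hαepi : ∀ n, Epi (α.app (op n)) := fun n => by
    haveI : Epi (Formal.modPowπ I (n + 1) M₀ ≫ α.app (op n)) := (hα n).symm ▸ hepi₀ n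
    exact epi_of_epi (Formal.modPowπ I (n + 1) M₀) _
  have hF := FormalExist.Formal.isCohFormal_completion I hM₀
  -- a cover of the kernels
  obtain ⟨c, hc⟩ := FormalExist.Formal.exists_ker_killed α hF hG hαepi
  obtain ⟨r, a, hspan⟩ := Submodule.fg_iff_exists_fin_generating_family.mp (IsNoetherian.noetherian I)
  have hspan' : I = Ideal.span (Set.range a) := hspan.symm
  obtain ⟨𝒰, _⟩ := FormalFun.exists_affCov (X := X)
  obtain ⟨d₃, hd₃⟩ := FormalFun.GrSys.uniform_vanishing (X ↘ Spec (CommRingCat.of A)) hL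
    (FormalExist.Formal.sys α hF hG 𝒰 a (fun l => hspan'.ge (Ideal.subset_span ⟨l, rfl⟩)) hspan')
  have hkc : Coh.IsCoh ((FormalExist.Formal.ker α).obj (op c)) := CohDev.isCoh_kernel _ (hF.1 c) (hG.1 c).1
  obtain ⟨d₄, hd₄⟩ := AmpleLib.eventually_globallyGenerated hL hkc.1 hkc.2
  haveI : ∀ n, Epi ((FormalExist.Formal.ker α).map (homOfLE (Nat.le_succ n)).op) := fun n =>
    FormalExist.Formal.ker_epi_tr α hF hG hαepi n
  obtain ⟨M₁, g₁, hM₁, hg₁, hc₁⟩ := Cover.exists_cover (FormalExist.Formal.ker α) hL.1 (max d₃ d₄) c hkc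
    (fun n _ => by
      obtain ⟨e, -⟩ := FormalExist.Formal.exists_iso_kerτ α n
      exact FormalFun.subsingleton_HH_iso' ((FormalFun.twist L (max d₃ d₄)).mapIso e.symm) 1
        (hd₃ _ (le_max_left _ _) n 1 one_pos))
    (hd₄ _ (le_max_right _ _))
  have hk₁ : ∀ n, Formal.KilledBy (I ^ (n + 1)) ((FormalExist.Formal.ker α).obj (op n)) := fun n =>
    Formal61.Sys.killedBy_of_mono (FormalExist.Formal.kι α (op n)) (hF.2.1 n)
  have hepi₁ := FormalExist.Formal.epi_all (FormalExist.Formal.ker α) hk₁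
    (fun n => FormalExist.Formal.ker_epi_tr α hF hG hαepi n) c hc g₁ hg₁ hc₁
  obtain ⟨ψ, hψ⟩ := exists_desc M₁ hF.2.1 (fun n => g₁ n ≫ FormalExist.Formal.kι α (op n)) fun n => by
    rw [← hg₁ n, Category.assoc, Category.assoc, FormalExist.Formal.ker_map_ι]
  obtain ⟨φ, hφ, -⟩ := Groth.Agent.S0060.result A I X M₁ M₀ hM₁ hM₀ ψ
  have hfac : ∀ n, φ ≫ Formal.modPowπ I (n + 1) M₀ = g₁ n ≫ FormalExist.Formal.kι α (op n) := fun n =>
    (hφ n).symm.trans (hψ n)
  -- the quotient
  have hz : ∀ n, φ ≫ g₀ n = 0 := fun n => by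
    rw [← hα n]
    exact (Category.assoc _ _ _).symm.trans ((congrArg (· ≫ α.app (op n)) (hfac n)).trans
      ((Category.assoc _ _ _).trans ((congrArg (g₁ n ≫ ·) (FormalExist.Formal.kι_app α _)).trans comp_zero)))
  let q : ∀ n, cokernel φ ⟶ G.obj (op n) := fun n => cokernel.desc φ (g₀ n) (hz n)
  have hq : ∀ n, Formal61.Sys.IsModQuot (I ^ (n + 1)) (q n) := fun n => by
    haveI : Epi (q n) := by
      haveI : Epi (cokernel.π φ ≫ q n) := (cokernel.π_desc φ _ (hz n)).symm ▸ hepi₀ n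
      exact epi_of_epi (cokernel.π φ) _
    refine Formal61.Sys.IsModQuot.mk' ((Formal61.Sys.smulFamily_comp_eq_zero_iff _).1
      (Formal61.Sys.comp_eq_zero_of_killedBy (hG.2.1 n) _)) fun Z v hv => ?_
    obtain ⟨v', hv'⟩ := (Formal61.Sys.isModQuot_modPowπ I (n + 1) M₀).exists_desc (cokernel.π φ ≫ v)
      fun a ha => by rw [← Category.assoc, FormalFun.smulMod_natural, Category.assoc, hv a ha, comp_zero]
    have hv0 : FormalExist.Formal.kι α (op n) ≫ v' = 0 := by
      haveI := hepi₁ n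
      refine (cancel_epi (g₁ n)).1 ?_
      rw [comp_zero]
      exact (Category.assoc _ _ _).symm.trans ((congrArg (· ≫ v') (hfac n).symm).trans ((Category.assoc _ _ _).trans
        ((congrArg (φ ≫ ·) hv').trans ((cokernel.condition_assoc φ v).trans zero_comp))))
    haveI := hαepi n
    refine ⟨Abelian.epiDesc (α.app (op n)) v' hv0, ?_⟩
    rw [← cancel_epi (cokernel.π φ), cokernel.π_desc_assoc, ← hv', ← hα n]
    exact (Category.assoc _ _ _).trans (congrArg (_ ≫ ·) (Abelian.comp_epiDesc (α.app (op n)) v' hv0))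
  have hqc : ∀ n, q (n + 1) ≫ G.map (homOfLE (Nat.le_succ n)).op = q n := fun n => by
    rw [← cancel_epi (cokernel.π φ), cokernel.π_desc_assoc, cokernel.π_desc, hg₀]
  obtain ⟨e, -⟩ := Formal61.Sys.exists_completion_iso (cokernel φ) q hq hqc
  exact ⟨cokernel φ, CohDev.isCoh_cokernel φ hM₁.1 hM₀, ⟨e⟩⟩

end Groth.Agent.FormalExist.Proj
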