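import Groth.Agent.FormalExist.CompHelp
import Groth.Agent.FormalExist.Alpha
import Groth.Agent.FormalExist.Proj
import Groth.Agent.FormalExist.BaseChange
import Groth.Agent.ProjMorph.Ample

/-!
# The map to the completion of the direct image is an isomorphism away from the exceptional locus, uniformly
-/

set_option autoImplicit false

universe u

open CategoryTheory Limits AlgebraicGeometry Opposite TopologicalSpace
open Groth.Agent

noncomputable section

namespace Groth.Agent.FormalExist.Local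

open Tricky CompHelp

section Rebased

variable {A B : Type u} [CommRing A] [CommRing B] [IsNoetherianRing B] {φ : A →+* B} {X : Scheme.{u}}
  [X.Over (Spec (CommRingCat.of A))] [X.Over (Spec (CommRingCat.of B))]
  [IsProper (X ↘ Spec (CommRingCat.of B))]

/-- Full faithfulness in terms of systems of quotient maps, after changing the base. -/
theorem existsUnique_hom (hc : Rebase.Compat φ X) (I : Ideal A) [IsAdicComplete (I.map φ) B] {M N : X.Modules}
    (hM : Coh.IsCoh M) (hN : Coh.IsCoh N) {G G' : ℕᵒᵖ ⥤ X.Modules} (τ : G ⟶ G')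
    (qM : ∀ n, M ⟶ G.obj (op n)) (qN : ∀ n, N ⟶ G'.obj (op n))
    (hqM : ∀ n, Formal61.Sys.IsModQuot (I ^ (n + 1)) (qM n)) (hqM' : ∀ n, qM (n + 1) ≫ tr1 G n = qM n)
    (hqN : ∀ n, Formal61.Sys.IsModQuot (I ^ (n + 1)) (qN n)) (hqN' : ∀ n, qN (n + 1) ≫ tr1 G' n = qN n) :
    ∃! f : M ⟶ N, ∀ n, f ≫ qN n = qM n ≫ τ.app (op n) := by
  have hM' : ∀ n, Formal61.Sys.IsModQuot ((I.map φ) ^ (n + 1)) (qM n) := fun n => by
    rw [← Ideal.map_pow]; exact (Rebase.isModQuot_iff hc _ _).2 (hqM n)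
  have hN' : ∀ n, Formal61.Sys.IsModQuot ((I.map φ) ^ (n + 1)) (qN n) := fun n => by
    rw [← Ideal.map_pow]; exact (Rebase.isModQuot_iff hc _ _).2 (hqN n)
  obtain ⟨eM, heM⟩ := Formal61.Sys.exists_completion_iso (I := I.map φ) (G := G) M qM hM' hqM'
  obtain ⟨eN, heN⟩ := Formal61.Sys.exists_completion_iso (I := I.map φ) (G := G') N qN hN' hqN'
  have key : ∀ (f : M ⟶ N) (n : ℕ),
      (Formal.modPowπ (I.map φ) (n + 1) M ≫ (eM.hom ≫ τ ≫ eN.inv).app (op n) =
        f ≫ Formal.modPowπ (I.map φ) (n + 1) N) ↔ f ≫ qN n = qM n ≫ τ.app (op n) := by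
    intro f n
    have h1 : Formal.modPowπ (I.map φ) (n + 1) M ≫ (eM.hom ≫ τ ≫ eN.inv).app (op n) =
        (qM n ≫ τ.app (op n)) ≫ eN.inv.app (op n) := by
      rw [← heM n, NatTrans.comp_app, NatTrans.comp_app]
      simp only [Category.assoc]
      rfl
    rw [h1]
    constructor
    · intro h
      have h2 := congrArg (· ≫ eN.hom.app (op n)) h
      simp only [Category.assoc] at h2
      refine Eq.trans ?_ (h2.symm.trans ?_)
      · exact congrArg (f ≫ ·) (heN n).symm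
      · exact congrArg (qM n ≫ ·) ((congrArg (τ.app (op n) ≫ ·) (eN.inv_hom_id_app (op n))).trans (Category.comp_id _))
    · intro h
      rw [← h, ← heN n, Category.assoc, Category.assoc]
      exact congrArg (f ≫ ·) ((congrArg (_ ≫ ·) (eN.hom_inv_id_app (op n))).trans (Category.comp_id _))
  obtain ⟨f, hf, hu⟩ := Groth.Agent.S0060.result B (I.map φ) X M N hM hN (eM.hom ≫ τ ≫ eN.inv)
  exact ⟨f, fun n => (key f n).1 (hf n), fun g hg => hu g fun n => (key g n).2 (hg n)⟩

theorem hom_ext (hc : Rebase.Compat φ X) (I : Ideal A) [IsAdicComplete (I.map φ) B] {M N : X.Modules}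
    (hM : Coh.IsCoh M) (hN : Coh.IsCoh N) {G' : ℕᵒᵖ ⥤ X.Modules}
    (qN : ∀ n, N ⟶ G'.obj (op n)) (hqN : ∀ n, Formal61.Sys.IsModQuot (I ^ (n + 1)) (qN n))
    (hqN' : ∀ n, qN (n + 1) ≫ tr1 G' n = qN n) {f g : M ⟶ N} (h : ∀ n, f ≫ qN n = g ≫ qN n) : f = g := by
  obtain ⟨τ, hτ⟩ := exists_desc_completion (I := I) (G := G') M
    (fun n => Formal61.Sys.IsModQuot.killedBy (hqN n)) (fun n => g ≫ qN n)
    (fun n => by rw [Category.assoc, hqN'])
  exact (existsUnique_hom hc I hM hN τ (cπ I M) qN (fun n => Formal61.Sys.isModQuot_modPowπ I (n + 1) M)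
    (fun n => cπ_trM M (Nat.le_succ n)) hqN hqN').unique (fun n => (h n).trans (hτ n).symm) (fun n => (hτ n).symm)

/-- Systems of quotient maps with the same target determine the module. -/
theorem exists_iso (hc : Rebase.Compat φ X) (I : Ideal A) [IsAdicComplete (I.map φ) B] {M N : X.Modules}
    (hM : Coh.IsCoh M) (hN : Coh.IsCoh N) {G : ℕᵒᵖ ⥤ X.Modules}
    (qM : ∀ n, M ⟶ G.obj (op n)) (qN : ∀ n, N ⟶ G.obj (op n))
    (hqM : ∀ n, Formal61.Sys.IsModQuot (I ^ (n + 1)) (qM n)) (hqM' : ∀ n, qM (n + 1) ≫ tr1 G n = qM n)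
    (hqN : ∀ n, Formal61.Sys.IsModQuot (I ^ (n + 1)) (qN n)) (hqN' : ∀ n, qN (n + 1) ≫ tr1 G n = qN n) :
    ∃ e : M ≅ N, ∀ n, e.hom ≫ qN n = qM n := by
  obtain ⟨f, hf, -⟩ := existsUnique_hom hc I hM hN (𝟙 G) qM qN hqM hqM' hqN hqN'
  obtain ⟨g, hg, -⟩ := existsUnique_hom hc I hN hM (𝟙 G) qN qM hqN hqN' hqM hqM'
  have hf' : ∀ n, f ≫ qN n = qM n := fun n => (hf n).trans (Category.comp_id _)
  have hg' : ∀ n, g ≫ qM n = qN n := fun n => (hg n).trans (Category.comp_id _)
  exact ⟨⟨f, g, hom_ext hc I hM hM qM hqM hqM' (fun n => by rw [Category.assoc, hg', hf', Category.id_comp]),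
    hom_ext hc I hN hN qN hqN hqN' (fun n => by rw [Category.assoc, hf', hg', Category.id_comp])⟩, hf'⟩

end Rebased

/-- A map of modules on an affine scheme, bijective on a basic open, has uniformly torsion kernel and cokernel. -/
theorem exists_uniform {S : Scheme.{u}} [IsAffine S] [IsNoetherianRing Γ(S, ⊤)] {M N : S.Modules}
    (hM : Coh.IsCoh M) (hN : Coh.IsCoh N) (f : M ⟶ N) (r : Γ(S, ⊤))
    (hb : Function.Bijective (f.app (S.basicOpen r))) :
    ∃ e : ℕ, (∀ x : Γ(M, ⊤), f.app ⊤ x = 0 → r ^ e • x = 0) ∧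
      ∀ y : Γ(N, ⊤), ∃ x : Γ(M, ⊤), f.app ⊤ x = r ^ e • y := by
  haveI := hM.1
  haveI : SheafOfModules.IsFiniteType.{u} M := hM.2
  haveI := hN.1
  haveI : SheafOfModules.IsFiniteType.{u} N := hN.2
  haveI := QCoh.finite_sections_of_isFiniteType M (isAffineOpen_top S)
  haveI := QCoh.finite_sections_of_isFiniteType N (isAffineOpen_top S)
  let L : Γ(M, ⊤) →ₗ[Γ(S, ⊤)] Γ(N, ⊤) :=
    { toFun := f.app ⊤
      map_add' := map_add _
      map_smul' := fun a x => Scheme.Modules.Hom.app_smul f a x }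
  obtain ⟨e₁, he₁⟩ := exists_uniform_pow (⊥ : Submodule Γ(S, ⊤) Γ(M, ⊤)) r
  obtain ⟨e₂, he₂⟩ := exists_uniform_pow (LinearMap.range L) r
  have hlM := QCoh.isLocalizingAt_of_qcqs M (isAffineOpen_top S).isCompact (isAffineOpen_top S).isQuasiSeparated r
  have hlN := QCoh.isLocalizingAt_of_qcqs N (isAffineOpen_top S).isCompact (isAffineOpen_top S).isQuasiSeparated r
  refine ⟨max e₁ e₂, fun x hx => ?_, fun y => ?_⟩
  · have h0 : QCoh.res M (S.basicOpen_le r) x = 0 := by
      apply hb.1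
      rw [QCoh.app_res, hx, map_zero, map_zero]
    obtain ⟨k, hk⟩ := hlM.eq_zero x h0
    have h1 : r ^ e₁ • x = 0 := he₁ x ⟨k, hk⟩
    rw [← Nat.sub_add_cancel (le_max_left e₁ e₂), pow_add, mul_smul, h1, smul_zero]
  · obtain ⟨z, hz⟩ := hb.2 (QCoh.res N (S.basicOpen_le r) y)
    obtain ⟨k, x, hx⟩ := hlM.surj z
    have h0 : QCoh.res N (S.basicOpen_le r) (r ^ k • y - L x) = 0 := by
      rw [map_sub, QCoh.res_smul, map_pow]
      have h1 : QCoh.res N (S.basicOpen_le r) (L x) = QCoh.rres (S.basicOpen_le r) r ^ k • QCoh.res N (S.basicOpen_le r) y := by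
        refine (QCoh.app_res f _ x).symm.trans ?_
        rw [hx, Scheme.Modules.Hom.app_smul, hz]
      rw [h1, sub_self]
    obtain ⟨l, hl⟩ := hlN.eq_zero _ h0
    rw [smul_sub, sub_eq_zero, smul_smul, ← pow_add, ← L.map_smul] at hl
    obtain ⟨x', hx'⟩ : r ^ e₂ • y ∈ LinearMap.range L := he₂ y ⟨l + k, ⟨_, hl.symm⟩⟩
    refine ⟨r ^ (max e₁ e₂ - e₂) • x', ?_⟩
    rw [Scheme.Modules.Hom.app_smul, show f.app ⊤ x' = r ^ e₂ • y from hx', smul_smul, ← pow_add,
      Nat.sub_add_cancel (le_max_right e₁ e₂)]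

variable {A : Type u} [CommRing A] {Z Y : Scheme.{u}} [Z.Over (Spec (CommRingCat.of A))]
  [Y.Over (Spec (CommRingCat.of A))] [AlgebraicGeometry.IsNoetherian Z] (h : Y ⟶ Z) [IsProper h]

/-- Kernel and cokernel of `α` are uniformly killed by a power of any `a` whose basic open lies in the open
over which `h` is an isomorphism. -/
theorem exists_pow_killed (I : Ideal A) (hh : h ≫ (Z ↘ Spec (CommRingCat.of A)) = Y ↘ Spec (CommRingCat.of A))
    {G : ℕᵒᵖ ⥤ Z.Modules} (hG : Formal.IsCohFormal I G) {F' : Y.Modules} (hF' : Coh.IsCoh F')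
    (eF : Formal.completion I F' ≅ G ⋙ Scheme.Modules.pullback h)
    (α : G ⟶ Formal.completion I ((Scheme.Modules.pushforward h).obj F'))
    (v : ∀ n, (Formal.completion I ((Scheme.Modules.pushforward h).obj F')).obj (op n) ⟶
      (Scheme.Modules.pushforward h).obj ((Scheme.Modules.pullback h).obj (G.obj (op n))))
    (hv : ∀ n, cπ I ((Scheme.Modules.pushforward h).obj F') n ≫ v n =
      (Scheme.Modules.pushforward h).map (Formal.modPowπ I (n + 1) F' ≫ eF.hom.app (op n)))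
    (hα : ∀ n, α.app (op n) ≫ v n = (Scheme.Modules.pullbackPushforwardAdjunction h).unit.app (G.obj (op n)))
    (U : Z.Opens) [IsIso (h ∣_ U)] {V : Z.Opens} (hV : IsAffineOpen V) (a : Γ(Z, V)) (ha : Z.basicOpen a ≤ U) :
    ∃ e : ℕ, ∀ n, (∀ x : Γ(G.obj (op n), V), (α.app (op n)).app V x = 0 → a ^ e • x = 0) ∧
      ∀ y : Γ((Formal.completion I ((Scheme.Modules.pushforward h).obj F')).obj (op n), V),
        ∃ x : Γ(G.obj (op n), V), (α.app (op n)).app V x = a ^ e • y := by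
  haveI : IsNoetherianRing Γ(Z, V) := IsLocallyNoetherian.component_noetherian ⟨V, hV⟩
  let φ : A →+* R (A := A) I V := (algebraMap Γ(Z, V) (R (A := A) I V)).comp (FormalFun.gA (A := A) V)
  haveI : IsNoetherianRing (R (A := A) I V) := RegLoc.Completion.isNoetherianRing_adicCompletion' _
  haveI hcomp : IsAdicComplete (I.map φ) (R (A := A) I V) := by
    show IsAdicComplete (I.map ((algebraMap Γ(Z, V) (R (A := A) I V)).comp (FormalFun.gA (A := A) V))) _
    rw [← Ideal.map_map]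
    exact AdicCompletion.isAdicComplete_self _ (IsNoetherian.noetherian _)
  let S : Scheme.{u} := Spec (CommRingCat.of (R (A := A) I V))
  let g : S ⟶ Z := q I hV
  letI iSA : S.Over (Spec (CommRingCat.of A)) := ⟨g ≫ (Z ↘ Spec (CommRingCat.of A))⟩
  letI iSR : S.Over (Spec (CommRingCat.of (R (A := A) I V))) := ⟨𝟙 S⟩
  haveI : IsProper (S ↘ Spec (CommRingCat.of (R (A := A) I V))) := inferInstanceAs (IsProper (𝟙 S))
  have hcS : Rebase.Compat φ S := by
    show 𝟙 S ≫ Spec.map (CommRingCat.ofHom φ) = g ≫ (Z ↘ Spec (CommRingCat.of A))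
    rw [Category.id_comp]
    refine Eq.trans ?_ (congrArg (_ ≫ ·) (Basic.fromSpec_str hV)).symm |>.trans (Category.assoc _ _ _).symm
    exact (Spec.map_comp _ _)
  haveI : AlgebraicGeometry.Flat g := FormalFun.flat_specTo hV _ (RingHom.flat_algebraMap_iff.mpr inferInstance)
  let Y' : Scheme.{u} := Limits.pullback h g
  let p : Y' ⟶ Y := pullback.fst h g
  let k : Y' ⟶ S := pullback.snd h g
  have H : IsPullback p k h g := IsPullback.of_hasPullback h g
  letI iYA : Y'.Over (Spec (CommRingCat.of A)) := ⟨k ≫ (S ↘ Spec (CommRingCat.of A))⟩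
  letI iYR : Y'.Over (Spec (CommRingCat.of (R (A := A) I V))) := ⟨k⟩
  haveI hkp : IsProper k := inferInstanceAs (IsProper (pullback.snd h g))
  haveI : IsProper (Y' ↘ Spec (CommRingCat.of (R (A := A) I V))) := hkp
  have hcY : Rebase.Compat φ Y' := by
    show k ≫ Spec.map (CommRingCat.ofHom φ) = k ≫ (S ↘ Spec (CommRingCat.of A))
    refine congrArg (k ≫ ·) ?_
    exact (Category.id_comp _).symm.trans hcS
  have hp : p ≫ (Y ↘ Spec (CommRingCat.of A)) = Y' ↘ Spec (CommRingCat.of A) := by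
    show _ = k ≫ g ≫ (Z ↘ Spec (CommRingCat.of A))
    rw [← hh]
    exact H.w_assoc _
  -- the module on `S`
  let gs := Scheme.Modules.pullback g
  let GR : ℕᵒᵖ ⥤ S.Modules := G ⋙ gs
  have hGR : Formal.IsCohFormal I GR := Formal61.Pullback.isCohFormal_pullback g rfl hG
  obtain ⟨MR, hMR, ⟨e0⟩⟩ := Proj.algebraize (X := S) (I := I.map φ) ProjMorph.isAmple_structureModule GR
    ((Rebase.isCohFormal_iff hcS I GR).2 hGR)
  obtain ⟨er, -⟩ := Rebase.exists_completion_iso hcS I MR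
  let eR : Formal.completion I MR ≅ GR := er.symm ≪≫ e0
  let qM : ∀ n, MR ⟶ GR.obj (op n) := fun n => cπ I MR n ≫ eR.hom.app (op n)
  have hqM : ∀ n, Formal61.Sys.IsModQuot (I ^ (n + 1)) (qM n) := fun n =>
    QuotLem.comp_iso (Formal61.Sys.isModQuot_modPowπ I (n + 1) MR) (eR.app (op n))
  have hqM' : ∀ n, qM (n + 1) ≫ tr1 GR n = qM n := fun n =>
    (Category.assoc _ _ _).trans ((congrArg (_ ≫ ·) (eR.hom.naturality _).symm).trans
      ((Category.assoc _ _ _).symm.trans (congrArg (· ≫ _) (cπ_trM MR (Nat.le_succ n)))))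
  -- the pullback of the target
  let Hm := (Scheme.Modules.pushforward h).obj F'
  have hHc : Coh.IsCoh Hm := Alpha.isCoh_push h hF'
  haveI := hHc.1
  let qH : ∀ n, gs.obj Hm ⟶ (Formal.completion I Hm ⋙ gs).obj (op n) := fun n => gs.map (cπ I Hm n)
  have hqH : ∀ n, Formal61.Sys.IsModQuot (I ^ (n + 1)) (qH n) := fun n =>
    Formal61.Pullback.isModQuot_pullback g rfl (Formal61.Sys.isModQuot_modPowπ I (n + 1) Hm)
  have hqH' : ∀ n, qH (n + 1) ≫ tr1 (Formal.completion I Hm ⋙ gs) n = qH n := fun n =>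
    (gs.map_comp _ _).symm.trans (congrArg gs.map (cπ_trM Hm (Nat.le_succ n)))
  have hgH : Coh.IsCoh (gs.obj Hm) := ZClosLib.CohDescent.isCoh_pullback g _ hHc
  obtain ⟨a₀, ha₀, -⟩ := existsUnique_hom hcS I hMR hgH (Functor.whiskerRight α gs) qM qH hqM hqM' hqH hqH'
  -- the two modules on `Y'`
  let ps := Scheme.Modules.pullback p
  let ks := Scheme.Modules.pullback k
  let kf := Scheme.Modules.pushforward k
  let PG : ℕᵒᵖ ⥤ Y'.Modules := G ⋙ Scheme.Modules.pullback h ⋙ ps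
  let qF : ∀ n, ps.obj F' ⟶ PG.obj (op n) := fun n =>
    ps.map (Formal.modPowπ I (n + 1) F' ≫ eF.hom.app (op n))
  have hqF : ∀ n, Formal61.Sys.IsModQuot (I ^ (n + 1)) (qF n) := fun n =>
    Formal61.Pullback.isModQuot_pullback p hp
      (QuotLem.comp_iso (Formal61.Sys.isModQuot_modPowπ I (n + 1) F') (eF.app (op n)))
  have hqF' : ∀ n, qF (n + 1) ≫ tr1 PG n = qF n := fun n =>
    (ps.map_comp _ _).symm.trans (congrArg ps.map ((Category.assoc _ _ _).trans
      ((congrArg (_ ≫ ·) (eF.hom.naturality _).symm).trans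
      ((Category.assoc _ _ _).symm.trans (congrArg (· ≫ _) (cπ_trM F' (Nat.le_succ n)))))))
  let κ := BaseChange.κ H.w
  let qΦ : ∀ n, ks.obj MR ⟶ PG.obj (op n) := fun n => ks.map (qM n) ≫ κ.hom.app (G.obj (op n))
  have hqΦ : ∀ n, Formal61.Sys.IsModQuot (I ^ (n + 1)) (qΦ n) := fun n =>
    QuotLem.comp_iso (Formal61.Pullback.isModQuot_pullback k rfl (hqM n)) (κ.app (G.obj (op n)))
  have hqΦ' : ∀ n, qΦ (n + 1) ≫ tr1 PG n = qΦ n := fun n =>
    (Category.assoc _ _ _).trans ((congrArg (_ ≫ ·)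
      (κ.hom.naturality (tr1 G n)).symm).trans ((Category.assoc _ _ _).symm.trans
        (congrArg (· ≫ _) ((ks.map_comp _ _).symm.trans (congrArg ks.map (hqM' n))))))
  have hpF : Coh.IsCoh (ps.obj F') := ZClosLib.CohDescent.isCoh_pullback p _ hF'
  have hkM : Coh.IsCoh (ks.obj MR) := ZClosLib.CohDescent.isCoh_pullback k _ hMR
  obtain ⟨φΦ, hφΦ⟩ := exists_iso hcY I hkM hpF qΦ qF hqΦ hqΦ' hqF hqF'
  -- comparison with the unit
  haveI := hF'.1
  haveI hθi : IsIso (BaseChange.θ H.w F') := BaseChange.isIso_θ H F'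
  let θF : gs.obj Hm ≅ kf.obj (ps.obj F') := @asIso _ _ _ _ (BaseChange.θ H.w F') hθi
  let adj := Scheme.Modules.pullbackPushforwardAdjunction k
  have hcmp : a₀ ≫ BaseChange.θ H.w F' = adj.unit.app MR ≫ kf.map φΦ.hom := by
    refine ((adj.homEquiv _ _).symm.injective) (hom_ext hcY I hkM hpF qF hqF hqF' fun n => ?_)
    refine (Adjunction.homEquiv_naturality_right_symm _ _ _).symm.trans
      (Eq.trans ?_ (Adjunction.homEquiv_naturality_right_symm _ _ _))
    refine congrArg (adj.homEquiv _ _).symm ?_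
    refine Eq.trans ?_ (((Category.assoc _ _ _).trans (congrArg (_ ≫ ·)
      ((kf.map_comp _ _).symm.trans (congrArg kf.map (hφΦ n))))).symm)
    refine (Category.assoc _ _ _).trans ((congrArg (a₀ ≫ ·)
      (BaseChange.θ_natural H.w (Formal.modPowπ I (n + 1) F' ≫ eF.hom.app (op n))).symm).trans ?_)
    rw [← hv n, Functor.map_comp]
    refine (Category.assoc _ _ _).symm.trans ((congrArg (· ≫ BaseChange.θ H.w _)
      ((Category.assoc _ _ _).symm.trans ((congrArg (· ≫ gs.map (v n)) (ha₀ n)).trans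
        ((Category.assoc _ _ _).trans (congrArg (qM n ≫ ·)
          ((gs.map_comp _ _).symm.trans (congrArg gs.map (hα n)))))))).trans ?_)
    refine (Category.assoc _ _ _).trans ((congrArg (qM n ≫ ·) (BaseChange.κ_spec H.w (G.obj (op n)))).trans ?_)
    refine (Category.assoc _ _ _).symm.trans ?_
    rw [Functor.map_comp]
    refine Eq.trans ?_ (Category.assoc _ _ _)
    exact congrArg (· ≫ kf.map (κ.hom.app (G.obj (op n)))) (adj.unit.naturality (qM n))
  -- bijectivity on the basic open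
  have hle : (⊤ : S.Opens) ≤ g ⁻¹ᵁ V := top_le I hV
  let a' : Γ(S, ⊤) := g.appLE V ⊤ hle a
  have hD : S.basicOpen a' ≤ g ⁻¹ᵁ U := by
    show S.basicOpen (g.appLE V ⊤ hle a) ≤ _
    rw [Scheme.basicOpen_appLE]
    exact inf_le_right.trans (g.preimage_mono ha)
  have hDa : IsAffineOpen (S.basicOpen a') := (isAffineOpen_top S).basicOpen a'
  haveI := isIso_restrict_of_isPullback h H U
  haveI := hMR.1
  have hb : Function.Bijective (a₀.app (S.basicOpen a')) := by
    have ha₀' : a₀ = adj.unit.app MR ≫ (kf.mapIso φΦ ≪≫ θF.symm).hom := by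
      show a₀ = adj.unit.app MR ≫ kf.map φΦ.hom ≫ θF.inv
      rw [← Category.assoc, ← hcmp, Category.assoc]
      exact ((congrArg (a₀ ≫ ·) θF.hom_inv_id).trans (Category.comp_id _)).symm
    rw [ha₀']
    show Function.Bijective fun x => (adj.unit.app MR ≫ (kf.mapIso φΦ ≪≫ θF.symm).hom).app _ x
    simp only [FormalFun.app_comp]
    refine (ConcreteCategory.bijective_of_isIso _).comp ?_
    exact bijective_unit_app k (g ⁻¹ᵁ U) MR hDa hD
  haveI : IsNoetherianRing Γ(S, ⊤) :=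
    isNoetherianRing_of_ringEquiv _ (Scheme.ΓSpecIso (CommRingCat.of (R (A := A) I V))).commRingCatIsoToRingEquiv.symm
  obtain ⟨e, he₁, he₂⟩ := exists_uniform hMR hgH a₀ a' hb
  refine ⟨2 * e, fun n => ?_⟩
  haveI := (hG.1 n).1
  haveI := (hGR.1 n).1
  haveI hHn : ((Formal.completion I Hm).obj (op n)).IsQuasicoherent :=
    ((FormalExist.Formal.isCohFormal_completion I hHc).1 n).1
  have hbG := bijective_unitSec I hV (G.obj (op n)) (hG.2.1 n)
  have hbH := bijective_unitSec I hV ((Formal.completion I Hm).obj (op n))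
    (Formal61.Sys.killedBy_modPow I (n + 1) Hm)
  have hnat : ∀ {M N : Z.Modules} (f : M ⟶ N) (x : Γ(M, V)),
      (gs.map f).app ⊤ (LimTop.unitSec g M hle x) = LimTop.unitSec g N hle (f.app V x) := by
    intro M N f x
    rw [LimTop.unitSec_apply, LimTop.unitSec_apply, QCoh.app_res]
    refine congrArg (QCoh.res (gs.obj N) hle) ?_
    exact (congrArg (fun χ : M ⟶ _ => Scheme.Modules.Hom.app χ V x)
      ((Scheme.Modules.pullbackPushforwardAdjunction g).unit.naturality f)).symm.trans (FormalFun.app_comp _ _ _ _) |>.symm |>.symm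
  have hsm : ∀ {M : Z.Modules} (m : ℕ) (x : Γ(M, V)),
      LimTop.unitSec g M hle (a ^ m • x) = a' ^ m • LimTop.unitSec g M hle x := by
    intro M m x
    refine (LimTop.unitSec_smul g M hle _ x).trans ?_
    show (g.appLE V ⊤ hle (a ^ m) : Γ(S, ⊤)) • LimTop.unitSec g M hle x = _
    rw [map_pow]
  constructor
  · intro x hx
    haveI : Epi (qM n) := (hqM n).epi
    obtain ⟨xt, hxt⟩ := QCoh.app_surjective_of_epi (qM n) (isAffineOpen_top S) (LimTop.unitSec g _ hle x)
    have h0 : (qH n).app ⊤ (a₀.app ⊤ xt) = 0 := by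
      rw [← FormalFun.app_comp, ha₀ n, FormalFun.app_comp, hxt]
      exact (hnat (α.app (op n)) x).trans ((congrArg _ hx).trans (map_zero _))
    have hmem := (Tricky.app_eq_zero_iff (hqH n) ⟨⊤, isAffineOpen_top S⟩ _).1 h0
    have hP : ∀ t ∈ (I.map (FormalFun.gA (A := A) (⊤ : S.Opens))) ^ (n + 1) •
        (⊤ : Submodule Γ(S, ⊤) Γ(gs.obj Hm, ⊤)),
        ∃ s : Γ(MR, ⊤), a₀.app ⊤ s = a' ^ e • t ∧ (qM n).app ⊤ s = 0 := by
      intro t ht
      refine Submodule.smul_induction_on ht (fun r hr t _ => ?_) fun t t' ⟨s, hs, hs0⟩ ⟨s', hs', hs0'⟩ =>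
        ⟨s + s', by rw [map_add, hs, hs', smul_add], by rw [map_add, hs0, hs0', add_zero]⟩
      obtain ⟨s, hs⟩ := he₂ t
      refine ⟨r • s, by rw [Scheme.Modules.Hom.app_smul, hs, smul_comm],
        (Tricky.app_eq_zero_iff (hqM n) ⟨⊤, isAffineOpen_top S⟩ _).2 (Submodule.smul_mem_smul hr trivial)⟩
    obtain ⟨s, hs, hs0⟩ := hP _ hmem
    have h1 : a' ^ e • (a' ^ e • xt - s) = 0 := he₁ _ (by
      rw [map_sub, Scheme.Modules.Hom.app_smul, hs, sub_self])
    apply hbG.1
    show LimTop.unitSec g _ hle (a ^ (2 * e) • x) = LimTop.unitSec g _ hle 0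
    rw [map_zero, hsm, ← hxt, ← Scheme.Modules.Hom.app_smul]
    rw [smul_sub, sub_eq_zero, smul_smul, ← pow_add, ← two_mul] at h1
    rw [h1, Scheme.Modules.Hom.app_smul, hs0, smul_zero]
  · intro y
    haveI : Epi (cπ I Hm n) := inferInstance
    obtain ⟨yt, rfl⟩ := QCoh.app_surjective_of_epi (cπ I Hm n) hV y
    obtain ⟨s, hs⟩ := he₂ (LimTop.unitSec g Hm hle yt)
    obtain ⟨x', hx'⟩ := hbG.2 ((qM n).app ⊤ s)
    refine ⟨a ^ e • x', hbH.1 ?_⟩
    show LimTop.unitSec g _ hle ((α.app (op n)).app V (a ^ e • x')) = LimTop.unitSec g _ hle (a ^ (2 * e) • _)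
    rw [Scheme.Modules.Hom.app_smul, hsm, hsm, two_mul, pow_add, mul_smul]
    refine congrArg (a' ^ e • ·) ?_
    refine (hnat (α.app (op n)) x').symm.trans ?_
    refine (congrArg ((gs.map (α.app (op n))).app ⊤) hx').trans ?_
    refine (FormalFun.app_comp _ _ _ _).symm.trans ?_
    refine (congrArg (fun χ => Scheme.Modules.Hom.app χ ⊤ s) (ha₀ n)).symm.trans ?_
    rw [FormalFun.app_comp, hs, Scheme.Modules.Hom.app_smul]
    exact congrArg (a' ^ e • ·) (hnat (cπ I Hm n) yt)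

end Groth.Agent.FormalExist.Local
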