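import Groth.Agent.FormalExist.ProLim

/-!
# A Mittag-Leffler system with adic limit is pro-isomorphic to an adic system
-/

set_option autoImplicit false

universe u

open CategoryTheory CategoryTheory.Limits Opposite
open Groth.Agent

noncomputable section

namespace Groth.Agent.FormalExist.ProBuild

variable {A : Type u} [CommRing A] (X : ℕᵒᵖ ⥤ ModuleCat.{u} A)

open ProLim

theorem range_stable (hX : ARSys.IsML X) :
    ∃ r : ℕ → ℕ, ∀ n q (h : n + r n ≤ q),
      LinearMap.range (ARSys.tr X (Nat.le_add_right n (r n))).hom =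
        LinearMap.range (ARSys.tr X ((Nat.le_add_right n (r n)).trans h)).hom := by
  choose r hr using hX
  refine ⟨r, fun n q h => ?_⟩
  obtain ⟨s, rfl⟩ := Nat.exists_eq_add_of_le ((Nat.le_add_right n (r n)).trans h)
  have h1 := congrArg (ModuleCat.subobjectModule _) (hr n s (by omega))
  rw [imageSubobject_range, imageSubobject_range] at h1
  exact h1.symm

theorem mem_range_π (hX : ARSys.IsML X) :
    ∃ r : ℕ → ℕ, ∀ n q (h : n + r n ≤ q) (x : X.obj (op q)),
      (ARSys.tr X ((Nat.le_add_right n (r n)).trans h)).hom x ∈ LinearMap.range (limit.π X (op n)).hom := by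
  obtain ⟨r, hr⟩ := range_stable X hX
  refine ⟨r, fun n q h x => ?_⟩
  let S : ∀ j, Submodule A (X.obj (op j)) := fun j => LinearMap.range (ARSys.tr X (Nat.le_add_right j (r j))).hom
  have hstep : ∀ {j p : ℕ} (hjp : j ≤ p) (y : X.obj (op j)), y ∈ S j → ∃ z ∈ S p, (ARSys.tr X hjp).hom z = y := by
    intro j p hjp y hy
    let M := max (j + r j) (p + r p)
    have hy' := (hr j M (le_max_left _ _)).le hy
    obtain ⟨u, rfl⟩ := hy'
    exact ⟨_, (hr p M (le_max_right _ _)).ge ⟨u, rfl⟩, tr_tr X hjp _ u⟩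
  let y₀ := (ARSys.tr X ((Nat.le_add_right n (r n)).trans h)).hom x
  have hy₀ : y₀ ∈ S n := (hr n q h).ge ⟨x, rfl⟩
  choose g hg hg' using fun (j : ℕ) (y : X.obj (op (n + j))) (hy : y ∈ S (n + j)) =>
    hstep (Nat.le_succ (n + j)) y hy
  let s : ∀ j, {y : X.obj (op (n + j)) // y ∈ S (n + j)} :=
    fun j => Nat.rec (motive := fun j => {y : X.obj (op (n + j)) // y ∈ S (n + j)})
      ⟨y₀, hy₀⟩ (fun j p => ⟨g j p.1 p.2, hg j p.1 p.2⟩) j
  have hs : ∀ p q (h : p ≤ q), (ARSys.tr X (Nat.add_le_add_left h n)).hom (s q).1 = (s p).1 := by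
    intro p q h
    induction q, h using Nat.le_induction with
    | base => exact congrArg (fun φ => φ.hom (s p).1) (X.map_id _)
    | succ q hq ih =>
      refine (tr_tr X (Nat.add_le_add_left hq n) (Nat.le_succ (n + q)) (s (q + 1)).1).symm.trans ?_
      refine (congrArg _ ?_).trans ih
      exact hg' q (s q).1 (s q).2
  obtain ⟨z, hz⟩ := exists_of_compat (X := X) (fun j => (ARSys.tr X (Nat.le_add_left j n)).hom (s j).1)
    fun a b hab => by
      rw [tr_tr, ← tr_tr X (Nat.le_add_left a n) (Nat.add_le_add_left hab n), hs a b hab]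
  refine ⟨z, (hz n).trans ?_⟩
  exact hs 0 n (Nat.zero_le n)

/-- Under Mittag-Leffler the projection of the limit and some transition map have the same image. -/
theorem exists_factor (hX : ARSys.IsML X) (n : ℕ) :
    ∃ (r : ℕ) (R : ModuleCat.{u} A) (p : limit X ⟶ R) (ι : R ⟶ X.obj (op n)) (q : X.obj (op (n + r)) ⟶ R),
      Epi p ∧ p ≫ ι = limit.π X (op n) ∧ q ≫ ι = ARSys.tr X (Nat.le_add_right n r) := by
  obtain ⟨r, hr⟩ := mem_range_π X hX
  refine ⟨r n, ModuleCat.of A (LinearMap.range (limit.π X (op n)).hom),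
    ModuleCat.ofHom (limit.π X (op n)).hom.rangeRestrict, ModuleCat.ofHom (LinearMap.range (limit.π X (op n)).hom).subtype,
    ModuleCat.ofHom ((ARSys.tr X (Nat.le_add_right n (r n))).hom.codRestrict _ fun x => hr n _ le_rfl x),
    (ModuleCat.epi_iff_surjective _).mpr (LinearMap.surjective_rangeRestrict _),
    ModuleCat.hom_ext (LinearMap.ext fun x => rfl), ModuleCat.hom_ext (LinearMap.ext fun x => rfl)⟩

variable (I : Ideal A)

/-- `k ↦ M / I^(k+1) M` for the limit `M`. -/
def Q : ℕᵒᵖ ⥤ ModuleCat.{u} A :=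
  Functor.ofOpSequence (X := fun k => ModuleCat.of A (↑(limit X) ⧸ (I ^ (k + 1) • (⊤ : Submodule A ↑(limit X)))))
    fun k => ModuleCat.ofHom (Submodule.mapQ _ _ LinearMap.id (by
      rw [Submodule.comap_id]
      exact Submodule.smul_mono_left (Ideal.pow_le_pow_right (Nat.le_succ (k + 1)))))

/-- the projection to `M / I^(k+1) M` -/
def qπ (k : ℕ) : ↑(limit X) →ₗ[A] (Q X I).obj (op k) := (I ^ (k + 1) • (⊤ : Submodule A ↑(limit X))).mkQ

theorem qπ_surjective (k : ℕ) : Function.Surjective (qπ X I k) := Submodule.mkQ_surjective _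

theorem qπ_eq_zero {k : ℕ} {z : ↑(limit X)} : qπ X I k z = 0 ↔ z ∈ I ^ (k + 1) • (⊤ : Submodule A ↑(limit X)) :=
  Submodule.Quotient.mk_eq_zero _

theorem qπ_tr {p q : ℕ} (h : p ≤ q) (z : ↑(limit X)) : (ARSys.tr (Q X I) h).hom (qπ X I q z) = qπ X I p z := by
  induction q, h using Nat.le_induction with
  | base => exact congrArg (fun φ => φ.hom (qπ X I p z)) ((Q X I).map_id _)
  | succ q hq ih =>
    refine (tr_tr (Q X I) hq (Nat.le_succ q) _).symm.trans ((congrArg _ ?_).trans ih)
    exact congrArg (fun φ => φ.hom (qπ X I (q + 1) z)) (Functor.ofOpSequence_map_homOfLE_succ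
      (X := fun k => ModuleCat.of A (↑(limit X) ⧸ (I ^ (k + 1) • (⊤ : Submodule A ↑(limit X))))) _ q)

theorem Q_surjective (k : ℕ) : Function.Surjective (ARSys.tr (Q X I) (Nat.le_succ k)).hom := by
  intro y
  obtain ⟨z, rfl⟩ := qπ_surjective X I k y
  exact ⟨qπ X I (k + 1) z, qπ_tr X I _ z⟩

theorem Q_killed (k : ℕ) (a : A) (ha : a ∈ I ^ (k + 1)) (y : (Q X I).obj (op k)) : a • y = 0 := by
  obtain ⟨z, rfl⟩ := qπ_surjective X I k y
  rw [← map_smul]
  exact (qπ_eq_zero X I).mpr (Submodule.smul_mem_smul ha trivial)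

theorem Q_ker (k : ℕ) : LinearMap.ker (ARSys.tr (Q X I) (Nat.le_succ k)).hom = I ^ (k + 1) • ⊤ := by
  ext y
  obtain ⟨z, rfl⟩ := qπ_surjective X I (k + 1) y
  rw [LinearMap.mem_ker, qπ_tr, qπ_eq_zero, ← LinearMap.range_eq_top.mpr (qπ_surjective X I (k + 1)),
    ← Submodule.map_top, ← Submodule.map_smul'']
  refine ⟨fun h => Submodule.mem_map_of_mem h, ?_⟩
  rintro ⟨z', hz', he⟩
  have h1 : z - z' ∈ I ^ (k + 1 + 1) • (⊤ : Submodule A ↑(limit X)) :=
    (qπ_eq_zero X I).mp (by rw [map_sub, he, sub_self])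
  rw [show z = z' + (z - z') by abel]
  exact add_mem hz' (Submodule.smul_mono_left (Ideal.pow_le_pow_right (Nat.le_succ _)) h1)

theorem exists_pro (hk : ∀ n, ∀ a ∈ I ^ (n + 1), ∀ x : X.obj (op n), a • x = 0) (hX : ARSys.IsML X)
    (hb : ∀ k : ℕ, ∃ n : ℕ, LinearMap.ker (limit.π X (op n)).hom ≤ I ^ k • (⊤ : Submodule A ↑(limit X)))
    (hc : ∀ n : ℕ, Module.Finite A ↥(LinearMap.range (limit.π X (op n)).hom)) :
    (∀ k, Module.Finite A ((Q X I).obj (op k))) ∧ Algz.IsProIsomorphic X (Q X I) := by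
  classical
  obtain ⟨r, hr⟩ := mem_range_π X hX
  choose n₀ hn₀ using fun k => hb (k + 1)
  let N : ℕ → ℕ := fun k => (Finset.range (k + 1)).sup n₀ + k
  have hNk : ∀ k, k ≤ N k := fun k => Nat.le_add_left _ _
  have hNm : Monotone N := fun p q h =>
    Nat.add_le_add (Finset.sup_mono (Finset.range_mono (by omega))) h
  have hN : ∀ k z, (limit.π X (op (N k))).hom z = 0 → qπ X I k z = 0 := fun k z hz => by
    refine (qπ_eq_zero X I).mpr (hn₀ k (LinearMap.mem_ker.mpr ?_))
    rw [← tr_π ((Finset.le_sup (Finset.self_mem_range_succ k)).trans (Nat.le_add_right _ _) : n₀ k ≤ N k) z, hz,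
      map_zero]
  have hfin : ∀ k, Module.Finite A ((Q X I).obj (op k)) := fun k => by
    let f := (limit.π X (op (N k))).hom
    haveI := hc (N k)
    haveI : Module.Finite A (↑(limit X) ⧸ LinearMap.ker f) := Module.Finite.equiv f.quotKerEquivRange.symm
    refine Module.Finite.of_surjective ((LinearMap.ker f).liftQ (qπ X I k) fun z hz => hN k z hz) fun y => ?_
    obtain ⟨z, rfl⟩ := qπ_surjective X I k y
    exact ⟨Submodule.Quotient.mk z, rfl⟩
  let m : ℕ → ℕ := fun k => (Finset.range (k + 1)).sup fun i => N i + r (N i)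
  have hm : Monotone m := fun p q h => Finset.sup_mono (Finset.range_mono (by omega))
  have hmN : ∀ k, N k + r (N k) ≤ m k := fun k =>
    Finset.le_sup (f := fun i => N i + r (N i)) (Finset.self_mem_range_succ k)
  have hmN' : ∀ k, N k ≤ m k := fun k => (Nat.le_add_right _ _).trans (hmN k)
  have hle : ∀ k, k ≤ m k := fun k => (hNk k).trans (hmN' k)
  choose f hf using fun k (x : X.obj (op (m k))) => hr (N k) (m k) (hmN k) x
  have key : ∀ k (x : X.obj (op (m k))) (z : ↑(limit X)),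
      (limit.π X (op (N k))).hom z = (ARSys.tr X (hmN' k)).hom x → qπ X I k (f k x) = qπ X I k z := by
    intro k x z hz
    rw [← sub_eq_zero, ← map_sub]
    exact hN k _ (by rw [map_sub, hz, hf k x, sub_self])
  let a' : ∀ k, X.obj (op (m k)) →ₗ[A] (Q X I).obj (op k) := fun k =>
    { toFun := fun x => qπ X I k (f k x)
      map_add' := fun x y => (key k _ (f k x + f k y) (by rw [map_add, map_add, hf, hf])).trans (map_add _ _ _)
      map_smul' := fun c x => (key k _ (c • f k x) (by rw [map_smul, map_smul, hf])).trans (map_smul _ _ _) }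
  let a : DerCA.reindex X hm ⟶ Q X I :=
    { app := fun i => ModuleCat.ofHom (a' i.unop)
      naturality := fun i j g => ModuleCat.hom_ext (LinearMap.ext fun x => by
        obtain ⟨h, rfl⟩ : ∃ h : j.unop ≤ i.unop, g = (homOfLE h).op := ⟨leOfHom g.unop, Subsingleton.elim _ _⟩
        show qπ X I j.unop (f j.unop ((ARSys.tr X (hm h)).hom x)) =
          (ARSys.tr (Q X I) h).hom (qπ X I i.unop (f i.unop x))
        rw [qπ_tr]
        refine key _ _ _ ?_
        rw [← tr_π (hNm h) (f i.unop x), hf i.unop x, tr_tr, tr_tr]) }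
  refine ⟨hfin, m, hm, hle, a, fun n => ?_⟩
  refine ⟨max n (m n), le_max_left _ _, ModuleCat.ofHom
    ((I ^ (max n (m n) + 1) • (⊤ : Submodule A ↑(limit X))).liftQ (limit.π X (op (m n))).hom ?_), ?_, ?_⟩
  · refine Submodule.smul_le.mpr fun c hc z _ => ?_
    rw [LinearMap.mem_ker, map_smul]
    exact hk (m n) c (Ideal.pow_le_pow_right (by omega) hc) _
  · refine ModuleCat.hom_ext (LinearMap.ext fun x => ?_)
    show (limit.π X (op (m n))).hom (f (max n (m n)) x) = (ARSys.tr X (hm (le_max_left n (m n)))).hom x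
    rw [← tr_π ((le_max_right n (m n)).trans (hNk _)) (f (max n (m n)) x), hf _ x, tr_tr]
  · refine ModuleCat.hom_ext (LinearMap.ext fun y => ?_)
    obtain ⟨z, rfl⟩ := qπ_surjective X I (max n (m n)) y
    show qπ X I n (f n ((limit.π X (op (m n))).hom z)) = (ARSys.tr (Q X I) (le_max_left n (m n))).hom _
    rw [qπ_tr]
    exact key _ _ _ (tr_π (hmN' n) z).symm

end Groth.Agent.FormalExist.ProBuild
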