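import Groth.Agent.FormalExist.Basic
import Groth.Agent.FormalExist.Rebase
import Groth.Agent.FormalExist.QuotLem
import Groth.Agent.FormalExist.IdealQuot
import Groth.Agent.Formal61.Pullback
import Groth.Agent.FormalFun.Connected

/-!
# Formal functions for a proper morphism, over an affine open of the target
-/

set_option autoImplicit false

universe u

open CategoryTheory Limits AlgebraicGeometry Opposite TopologicalSpace
open Groth.Agent

noncomputable section

namespace Groth.Agent.FormalExist.PushFF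

variable {A : Type u} [CommRing A] {X Y : Scheme.{u}} [X.Over (Spec (CommRingCat.of A))]
  [Y.Over (Spec (CommRingCat.of A))] (I : Ideal A) (h : Y ⟶ X)

/-- sections over `W` as global sections of the restriction -/
def toW (W : Y.Opens) (N : Y.Modules) :
    Γ(N, W) ≃+ Γ((Scheme.Modules.restrictFunctor W.ι).obj N, ⊤) :=
  { toFun := fun x => QCoh.res N W.ι_image_top.le x
    invFun := fun x => QCoh.res N W.ι_image_top.ge x
    left_inv := fun x => (QCoh.res_res N _ _ x).trans (QCoh.res_self N _ x)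
    right_inv := fun x =>
      (QCoh.res_res N _ _ (show Γ(N, W.ι ''ᵁ ⊤) from x)).trans (QCoh.res_self N _ _)
    map_add' := fun x y => map_add _ x y }

theorem toW_natural (W : Y.Opens) {N N' : Y.Modules} (φ : N ⟶ N') (x : Γ(N, W)) :
    ((Scheme.Modules.restrictFunctor W.ι).map φ).app ⊤ (toW W N x) = toW W N' (φ.app W x) :=
  QCoh.app_res φ _ x

variable [IsLocallyNoetherian X] [IsProper h]

/-- Formal functions on `h⁻¹V`. -/
theorem exists_bound (hh : h ≫ (X ↘ Spec (CommRingCat.of A)) = Y ↘ Spec (CommRingCat.of A))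
    {M : Y.Modules} (hM : Coh.IsCoh M) {V : X.Opens} (hV : IsAffineOpen V) :
    ∃ c, ∀ c', c ≤ c' → ∀ n,
      (∀ x : Γ(M, h ⁻¹ᵁ V), (Formal.modPowπ I (n + c' + 1) M).app (h ⁻¹ᵁ V) x = 0 →
        (show Γ((Scheme.Modules.pushforward h).obj M, V) from x) ∈
          (I.map (FormalFun.gA (A := A) V)) ^ (n + 1) •
            (⊤ : Submodule Γ(X, V) Γ((Scheme.Modules.pushforward h).obj M, V))) ∧
      (∀ y : Γ((Formal.completion I M).obj (op (n + c')), h ⁻¹ᵁ V), ∃ x : Γ(M, h ⁻¹ᵁ V),
        (Formal.modPowπ I (n + 1) M).app (h ⁻¹ᵁ V) x =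
          ((Formal.completion I M).map (homOfLE (Nat.le_add_right n c')).op).app (h ⁻¹ᵁ V) y) := by
  haveI : IsNoetherianRing Γ(X, V) := IsLocallyNoetherian.component_noetherian ⟨V, hV⟩
  let φ := FormalFun.gA (A := A) (X := X) V
  let J := I.map φ
  let W := h ⁻¹ᵁ V
  letI iA : (W : Scheme.{u}).Over (Spec (CommRingCat.of A)) := ⟨W.ι ≫ (Y ↘ Spec (CommRingCat.of A))⟩
  letI iB : (W : Scheme.{u}).Over (Spec (CommRingCat.of Γ(X, V))) := ⟨(h ∣_ V) ≫ hV.isoSpec.hom⟩
  haveI : IsProper ((W : Scheme.{u}) ↘ Spec (CommRingCat.of Γ(X, V))) :=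
    inferInstanceAs (IsProper ((h ∣_ V) ≫ hV.isoSpec.hom))
  haveI := FormalFun.isLocallyNoetherian_of_proper Γ(X, V) (W : Scheme.{u})
  haveI := FormalFun.compactSpace_of_proper Γ(X, V) (W : Scheme.{u})
  have hcompat : Rebase.Compat φ (W : Scheme.{u}) := by
    show ((h ∣_ V) ≫ hV.isoSpec.hom) ≫ Spec.map (CommRingCat.ofHom φ) = W.ι ≫ (Y ↘ Spec (CommRingCat.of A))
    rw [Category.assoc, ← Basic.ι_str hV, ← Category.assoc, morphismRestrict_ι, Category.assoc, hh]
  let R := Scheme.Modules.restrictFunctor W.ι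
  let MW := R.obj M
  have hMW : Coh.IsCoh MW := CohDev.isCoh_of_iso ((Scheme.Modules.restrictFunctorIsoPullback W.ι).app M).symm
    (ZClosLib.CohDescent.isCoh_pullback W.ι _ hM)
  -- the restricted completion is the completion over `Γ(X, V)`
  have hr : ∀ n, Formal61.Sys.IsModQuot (J ^ (n + 1)) (R.map (Formal.modPowπ I (n + 1) M)) := fun n => by
    rw [← Ideal.map_pow]
    refine (Rebase.isModQuot_iff hcompat _ _).2 ?_
    let κ := Scheme.Modules.restrictFunctorIsoPullback W.ι
    have h1 := QuotLem.comp_iso (QuotLem.iso_comp (Formal61.Pullback.isModQuot_pullback W.ι rfl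
      (Formal61.Sys.isModQuot_modPowπ I (n + 1) M)) (κ.app M)) (κ.app _).symm
    have h2 : ((κ.app M).hom ≫ (Scheme.Modules.pullback W.ι).map (Formal.modPowπ I (n + 1) M)) ≫
        (κ.app (Formal.modPow I (n + 1) M)).symm.hom = R.map (Formal.modPowπ I (n + 1) M) := by
      show (κ.hom.app M ≫ _) ≫ κ.inv.app _ = _
      rw [← κ.hom.naturality, Category.assoc, Iso.hom_inv_id_app, Category.comp_id]
    exact h2 ▸ h1
  obtain ⟨e, he⟩ := Formal61.Sys.exists_completion_iso (I := J) (G := Formal.completion I M ⋙ R) MW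
    (fun n => R.map (Formal.modPowπ I (n + 1) M)) hr (fun n => by
      refine (R.map_comp _ _).symm.trans (congrArg R.map ?_)
      exact Formal61.Sys.modPowπ_comp_completion_map I M (Nat.le_succ n))
  have hfin := FormalFun.finiteCoh_of_proper Γ(X, V) (W : Scheme.{u})
  obtain ⟨c₁, hc₁⟩ := FormalFun.kernels_adically_small J hfin hMW 0
  obtain ⟨c₂, hc₂⟩ := FormalFun.mittag_leffler J hfin hMW 0
  refine ⟨max (c₁ + 1) c₂, fun c' hc' n => ⟨fun x hx => ?_, fun y => ?_⟩⟩
  · let z := (FormalFun.Γ0 MW).symm (toW W M x)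
    have h1 : (Formal.modPowπ J (n + c' + 1) MW).app ⊤ (toW W M x) = 0 := by
      refine QCoh.app_injective_of_mono (e.hom.app (op (n + c'))) ⊤ ?_
      refine ((FormalFun.app_comp _ _ _ _).symm.trans
        (congrArg (fun f => Scheme.Modules.Hom.app f ⊤ (toW W M x)) (he (n + c')))).trans ?_
      refine (toW_natural W _ x).trans ?_
      exact (congrArg (toW W _) hx).trans ((map_zero _).trans (map_zero _).symm)
    have h2 : Formal.toHHmodPow J MW 0 (n + c') z = 0 := by
      refine (FormalFun.Γ0 _).injective ?_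
      rw [map_zero]
      exact (FormalFun.Γ0_map _ _).trans ((congrArg _ ((FormalFun.Γ0 MW).apply_symm_apply _)).trans h1)
    have h3 := hc₁ (n + c') (by omega) h2
    have key : ∀ (b : Γ(X, V)) (w : Coh.HH (W : Scheme.{u}) MW 0),
        (toW W M).symm (FormalFun.Γ0 MW (b • w)) = (h.app V b : Γ(Y, W)) • (toW W M).symm (FormalFun.Γ0 MW w) := by
      intro b w
      have e1 : FormalFun.Γ0 MW (b • w) =
          FormalFun.gA (A := Γ(X, V)) (X := (W : Scheme.{u})) ⊤ b • FormalFun.Γ0 MW w := by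
        rw [← FormalFun.hMap_smulMod, ← FormalFun.H_map_eq, FormalFun.Γ0_map, FormalFun.smulMod_app]
      have e2 : FormalFun.gA (A := Γ(X, V)) (X := (W : Scheme.{u})) ⊤ b =
          (show Γ((W : Scheme.{u}), ⊤) from QCoh.rres W.ι_image_top.le (h.app V b)) := by
        show (W : Scheme.{u}).presheaf.map (𝟙 (op (⊤ : (W : Scheme.{u}).Opens)))
          (((h ∣_ V) ≫ hV.isoSpec.hom).appTop ((Scheme.ΓSpecIso _).inv b)) = _
        rw [Scheme.Hom.comp_appTop, IsAffineOpen.isoSpec_hom_appTop, morphismRestrict_appTop,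
          (W : Scheme.{u}).presheaf.map_id]
        simp only [CommRingCat.comp_apply, Iso.inv_hom_id_apply, CommRingCat.id_apply]
        rw [Scheme.Opens.topIso_inv, ← CommRingCat.comp_apply, ← CommRingCat.comp_apply]
        refine congrArg (fun ψ : Γ(X, V) ⟶ Γ(Y, W.ι ''ᵁ ⊤) => ψ.hom b) ?_
        try refine (congrArg ((Scheme.ΓSpecIso Γ(X, V)).inv ≫ ·) (Category.assoc _ _ _)).trans ?_
        try refine (Iso.inv_hom_id_assoc _ _).trans ?_
        refine (h.naturality_assoc _ _).trans ?_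
        exact congrArg (h.app V ≫ ·) (Y.presheaf.map_comp _ _).symm
      rw [e1, e2]
      refine (QCoh.res_smul M W.ι_image_top.ge _ _).trans ?_
      refine congrArg (fun r : Γ(Y, W) => r • (show Γ(M, W) from (toW W M).symm (FormalFun.Γ0 MW w))) ?_
      simp only [Scheme.Opens.ι_appIso]
      exact (QCoh.rres_rres _ _ _).trans (QCoh.rres_self _ _)
    have h4 : z ∈ J ^ (n + 1) • (⊤ : Submodule Γ(X, V) (Coh.HH (W : Scheme.{u}) MW 0)) :=
      Submodule.smul_mono (Ideal.pow_le_pow_right (by omega)) le_rfl h3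
    have h5 : x = (toW W M).symm (FormalFun.Γ0 MW z) := by
      rw [AddEquiv.apply_symm_apply, AddEquiv.symm_apply_apply]
    rw [h5]
    refine Submodule.smul_induction_on h4 (fun b hb w _ => ?_) fun s t hs ht => by
      rw [map_add, map_add]
      exact add_mem hs ht
    rw [key]
    exact (ProperFin.push_smul' h M b _).symm ▸ Submodule.smul_mem_smul hb trivial
  · let y₁ : Γ(Formal.modPow J (n + c' + 1) MW, ⊤) :=
      (e.inv.app (op (n + c'))).app ⊤ (toW W _ y)
    have h1 := hc₂ n (n + c') (Nat.le_add_right n c') (by omega)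
    obtain ⟨z, hz⟩ : ∃ z, Formal.toHHmodPow J MW 0 n z =
        Sheaf.H.map ((SheafOfModules.toSheaf (W : Scheme.{u}).ringCatSheaf).map
          ((Formal.completion J MW).map (homOfLE (Nat.le_add_right n c')).op)) 0 ((FormalFun.Γ0 _).symm y₁) :=
      h1.le ⟨_, rfl⟩
    refine ⟨(toW W M).symm (FormalFun.Γ0 MW z), (toW W _).injective ?_⟩
    rw [← toW_natural, AddEquiv.apply_symm_apply]
    have h2 := congrArg (FormalFun.Γ0 _) hz
    have h3 : (Formal.modPowπ J (n + 1) MW).app ⊤ (FormalFun.Γ0 MW z) =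
        ((Formal.completion J MW).map (homOfLE (Nat.le_add_right n c')).op).app ⊤ y₁ :=
      (FormalFun.Γ0_map _ z).symm.trans (h2.trans ((FormalFun.Γ0_map _ _).trans
        (congrArg _ ((FormalFun.Γ0 _).apply_symm_apply y₁))))
    refine ((congrArg (fun f => Scheme.Modules.Hom.app f ⊤ (FormalFun.Γ0 MW z)) (he n)).symm.trans
      (FormalFun.app_comp _ _ _ _)).trans ?_
    refine (congrArg _ h3).trans ?_
    refine (FormalFun.app_comp _ _ _ _).symm.trans ?_
    refine (congrArg (fun f => Scheme.Modules.Hom.app f ⊤ y₁) (e.hom.naturality _)).trans ?_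
    refine (FormalFun.app_comp _ _ _ _).trans ?_
    refine (congrArg _ ((FormalFun.app_comp _ _ _ _).symm.trans
      (congrArg (fun f => Scheme.Modules.Hom.app f ⊤ (toW W _ y)) (e.inv_hom_id_app _)))).trans ?_
    exact toW_natural W _ y

end Groth.Agent.FormalExist.PushFF
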