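import Groth.Agent.Formal61.Sys
import Groth.Prelude.Def_Algz

/-!
# Pro-morphisms between coherent formal modules are morphisms
-/

set_option autoImplicit false

universe u

open CategoryTheory CategoryTheory.Limits AlgebraicGeometry Opposite
open Groth.Agent

noncomputable section

namespace Groth.Agent.FormalExist.Reindex

variable {A : Type u} [CommRing A] {I : Ideal A} {X : Scheme.{u}} [X.Over (Spec (CommRingCat.of A))]
  {F G : ℕᵒᵖ ⥤ X.Modules}

theorem existsUnique_desc (hF : Formal.IsCohFormal I F) (hG : Formal.IsCohFormal I G) {m : ℕ → ℕ}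
    (hm : Monotone m) (hle : ∀ n : ℕ, n ≤ m n) (π : DerCA.reindex F hm ⟶ F)
    (hπ : ∀ n : ℕ, π.app (op n) = F.map (homOfLE (hle n)).op) (α : DerCA.reindex F hm ⟶ G) :
    ∃! β : F ⟶ G, π ≫ β = α := by
  have hq : ∀ n, Formal61.Sys.IsModQuot (I ^ (n + 1)) (π.app (op n)) := fun n =>
    (hπ n).symm ▸ Formal61.Sys.isModQuot_map hF.2.1 hF.2.2 (hle n)
  choose b hb using fun n => (hq n).exists_desc_of_killedBy (α.app (op n)) (hG.2.1 n)
  refine ⟨NatTrans.ofOpSequence b fun n => ?_, ?_, fun β hβ => ?_⟩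
  · haveI := (hq (n + 1)).epi
    refine (cancel_epi (π.app (op (n + 1)))).1 ?_
    rw [← Category.assoc, ← π.naturality, Category.assoc, hb n, ← Category.assoc, hb (n + 1)]
    exact α.naturality _
  · ext1
    ext1 ⟨n⟩
    exact hb n
  · ext1
    ext1 ⟨n⟩
    haveI := (hq n).epi
    refine (cancel_epi (π.app (op n))).1 ?_
    exact (congrArg (fun γ => NatTrans.app γ (op n)) hβ).trans (hb n).symm

theorem nonempty_iso (hF : Formal.IsCohFormal I F) (hG : Formal.IsCohFormal I G)
    (h : Algz.IsProIsomorphic F G) : Nonempty (F ≅ G) := by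
  obtain ⟨m, hm, hle, a, ha⟩ := h
  let π : DerCA.reindex F hm ⟶ F :=
    { app := fun i => F.map (homOfLE (hle i.unop)).op
      naturality := fun i j f => by
        refine ((F.map_comp _ _).symm.trans ?_).trans (F.map_comp _ _)
        exact congrArg F.map (Subsingleton.elim _ _) }
  obtain ⟨β, hβ, -⟩ := existsUnique_desc hF hG hm hle π (fun n => rfl) a
  have hπβ : ∀ n, F.map (homOfLE (hle n)).op ≫ β.app (op n) = a.app (op n) := fun n =>
    congrArg (fun γ => NatTrans.app γ (op n)) hβ
  haveI : ∀ i, IsIso (β.app i) := fun ⟨n⟩ => by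
    obtain ⟨k, hk, b, hb₁, hb₂⟩ := ha n
    have hkm : n ≤ m k := hk.trans (hle k)
    haveI := (Formal61.Sys.isModQuot_map hG.2.1 hG.2.2 hk).epi
    haveI := (Formal61.Sys.isModQuot_map hF.2.1 hF.2.2 hkm).epi
    obtain ⟨γ, hγ⟩ := (Formal61.Sys.isModQuot_map hG.2.1 hG.2.2 hk).exists_desc_of_killedBy
      (b ≫ F.map (homOfLE (hle n)).op) (hF.2.1 n)
    refine ⟨γ, ?_, ?_⟩
    · refine (cancel_epi (F.map (homOfLE hkm).op)).1 ?_
      have e1 : F.map (homOfLE hkm).op = F.map (homOfLE (hle k)).op ≫ F.map (homOfLE hk).op := by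
        rw [← F.map_comp, ← op_comp, homOfLE_comp]
      have e2 : F.map (homOfLE hkm).op = F.map (homOfLE (hm hk)).op ≫ F.map (homOfLE (hle n)).op := by
        rw [← F.map_comp, ← op_comp, homOfLE_comp]
      rw [Category.comp_id]
      rw [e1, ← Category.assoc, Category.assoc (F.map (homOfLE (hle k)).op), β.naturality, ← Category.assoc,
        hπβ]
      refine (Category.assoc _ _ _).trans ((congrArg (a.app (op k) ≫ ·) hγ).trans ?_)
      exact (Category.assoc _ _ _).symm.trans ((congrArg (· ≫ _) hb₁).trans (e2.symm.trans e1))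
    · refine (cancel_epi (G.map (homOfLE hk).op)).1 ?_
      refine (Category.assoc _ _ _).symm.trans ((congrArg (· ≫ β.app (op n)) hγ).trans ?_)
      refine (Category.assoc _ _ _).trans ((congrArg (b ≫ ·) (hπβ n)).trans (hb₂.trans ?_))
      exact (Category.comp_id _).symm
  haveI : IsIso β := NatIso.isIso_of_isIso_app β
  exact ⟨asIso β⟩

end Groth.Agent.FormalExist.Reindex
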