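import Groth.Agent.FormalExist.Local

/-!
# A power of the ideal of the exceptional locus kills kernels and cokernels
-/

set_option autoImplicit false

universe u

open CategoryTheory Limits AlgebraicGeometry Opposite TopologicalSpace
open Groth.Agent

noncomputable section

namespace Groth.Agent.FormalExist.Step

open Tricky

section Gen

variable {X : Scheme.{u}}

/-- The reduced ideal of the complement of `U`. -/
def cK (U : X.Opens) : X.IdealSheafData := Scheme.IdealSheafData.vanishingIdeal ⟨(U : Set X)ᶜ, U.2.isClosed_compl⟩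

theorem basicOpen_le (U : X.Opens) (V : X.affineOpens) {a : Γ(X, V.1)} (ha : a ∈ (cK U).ideal V) :
    X.basicOpen a ≤ U := by
  intro y hy
  by_contra hyU
  have hV : y ∈ (V.1 : Set X) := X.basicOpen_le a hy
  have h1 : y ∈ ((cK U).support : Set X) ∩ V.1 := by
    refine ⟨?_, hV⟩
    rw [cK, Scheme.IdealSheafData.coe_support_vanishingIdeal]
    exact hyU
  rw [Scheme.IdealSheafData.coe_support_inter] at h1
  exact (X.mem_zeroLocus_iff _ _).1 h1.1 a ha hy

variable [AlgebraicGeometry.IsNoetherian X]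

theorem killed_of_cover (K : X.IdealSheafData) {C : X.Modules} (hC : Coh.IsCoh C)
    (h : ∀ x : X, ∃ V : X.affineOpens, x ∈ V.1 ∧ ∀ r ∈ K.ideal V, ∀ c : Γ(C, V.1), r • c = 0) :
    ClSub.KilledByIdeal K C := by
  haveI := hC.1
  haveI : (kernel (IdealQuot.π K C)).IsQuasicoherent :=
    (CohDev.isCoh_kernel _ hC (IdealQuot.isCoh_Q K hC).1).1
  haveI : Mono (IdealQuot.π K C) := by
    refine Abelian.mono_of_kernel_ι_eq_zero _ (QCohGen.Noeth.eq_zero_of_cover _ fun x => ?_)
    obtain ⟨V, hx, hV⟩ := h x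
    refine ⟨V, hx, fun a => ?_⟩
    have h1 : (IdealQuot.π K C).app V.1 ((kernel.ι (IdealQuot.π K C)).app V.1 a) = 0 := by
      rw [← FormalFun.app_comp, kernel.condition]; rfl
    refine Submodule.smul_induction_on ((IdealQuot.π_app_eq_zero_iff K _ (IdealQuot.killed_Q K C)).1 h1)
      (fun r hr c _ => hV r hr c) fun s t hs ht => by rw [hs, ht, add_zero]
  exact CohDev.killed_of_mono (I := K) (IdealQuot.π K C) (IdealQuot.killed_Q K C)

end Gen

variable {A : Type u} [CommRing A] {Z Y : Scheme.{u}} [Z.Over (Spec (CommRingCat.of A))]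
  [Y.Over (Spec (CommRingCat.of A))] [AlgebraicGeometry.IsNoetherian Z] (h : Y ⟶ Z) [IsProper h]

theorem exists_killed (I : Ideal A) (hh : h ≫ (Z ↘ Spec (CommRingCat.of A)) = Y ↘ Spec (CommRingCat.of A))
    {G : ℕᵒᵖ ⥤ Z.Modules} (hG : Formal.IsCohFormal I G) {F' : Y.Modules} (hF' : Coh.IsCoh F')
    (eF : Formal.completion I F' ≅ G ⋙ Scheme.Modules.pullback h)
    (α : G ⟶ Formal.completion I ((Scheme.Modules.pushforward h).obj F'))
    (v : ∀ n, (Formal.completion I ((Scheme.Modules.pushforward h).obj F')).obj (op n) ⟶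
      (Scheme.Modules.pushforward h).obj ((Scheme.Modules.pullback h).obj (G.obj (op n))))
    (hv : ∀ n, cπ I ((Scheme.Modules.pushforward h).obj F') n ≫ v n =
      (Scheme.Modules.pushforward h).map (Formal.modPowπ I (n + 1) F' ≫ eF.hom.app (op n)))
    (hα : ∀ n, α.app (op n) ≫ v n = (Scheme.Modules.pullbackPushforwardAdjunction h).unit.app (G.obj (op n)))
    (U : Z.Opens) [IsIso (h ∣_ U)] :
    ∃ e : ℕ, ∀ n, ClSub.KilledByIdeal (cK U ^ e) (kernel (α.app (op n))) ∧
      ClSub.KilledByIdeal (cK U ^ e) (cokernel (α.app (op n))) := by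
  classical
  let H := (Scheme.Modules.pushforward h).obj F'
  have hC : Formal.IsCohFormal I (Formal.completion I H) := isCohFormal_completion' (Alpha.isCoh_push h hF')
  obtain ⟨σ, hσ⟩ := isCompact_univ.elim_finite_subcover
    (fun W : Z.affineOpens => ((W : Z.Opens) : Set Z)) (fun W => (W : Z.Opens).isOpen) fun x _ => by
      obtain ⟨W, hW, hx, -⟩ := exists_isAffineOpen_mem_and_subset (X := Z) (Opens.mem_top x)
      exact Set.mem_iUnion.mpr ⟨⟨W, hW⟩, hx⟩
  let good : ∀ V : Z.affineOpens, Γ(Z, V.1) → Prop := fun V r => ∀ n,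
    (∀ x : Γ(G.obj (op n), V.1), (α.app (op n)).app V.1 x = 0 → r • x = 0) ∧
      ∀ y : Γ((Formal.completion I H).obj (op n), V.1),
        ∃ x : Γ(G.obj (op n), V.1), (α.app (op n)).app V.1 x = r • y
  have hp : ∀ V : Z.affineOpens, ∃ e : ℕ, ∀ r ∈ (cK U ^ e).ideal V, good V r := fun V => by
    haveI : IsNoetherianRing Γ(Z, V.1) := IsLocallyNoetherian.component_noetherian V
    let J : Ideal Γ(Z, V.1) :=
      { carrier := {r | good V r}
        zero_mem' := fun n => ⟨fun x _ => zero_smul _ _, fun y => ⟨0, by rw [map_zero, zero_smul]⟩⟩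
        add_mem' := fun {r s} hr hs n => ⟨fun x hx => by rw [add_smul, (hr n).1 x hx, (hs n).1 x hx, add_zero],
          fun y => by
            obtain ⟨x, hx⟩ := (hr n).2 y
            obtain ⟨x', hx'⟩ := (hs n).2 y
            exact ⟨x + x', by rw [map_add, hx, hx', add_smul]⟩⟩
        smul_mem' := fun c r hr n => ⟨fun x hx => by rw [smul_eq_mul, mul_smul, (hr n).1 x hx, smul_zero],
          fun y => by
            obtain ⟨x, hx⟩ := (hr n).2 y
            exact ⟨c • x, by rw [Scheme.Modules.Hom.app_smul, hx, smul_eq_mul, mul_smul]⟩⟩ }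
    have hle : (cK U).ideal V ≤ J.radical := fun a ha => by
      obtain ⟨e, he⟩ := Local.exists_pow_killed h I hh hG hF' eF α v hv hα U V.2 a (basicOpen_le U V ha)
      exact ⟨e, he⟩
    obtain ⟨e, he⟩ := Ideal.exists_pow_le_of_le_radical_of_fg_radical hle (IsNoetherian.noetherian _)
    refine ⟨e, fun r hr => he ?_⟩
    simpa only [Scheme.IdealSheafData.ideal_pow, Pi.pow_apply] using hr
  choose eV heV using hp
  have hgood : ∀ x : Z, ∃ V : Z.affineOpens, x ∈ V.1 ∧ ∀ r ∈ (cK U ^ σ.sup eV).ideal V, good V r := fun x => by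
    obtain ⟨V, hV⟩ := Set.mem_iUnion.mp (hσ (Set.mem_univ x))
    obtain ⟨hVσ, hxV⟩ := Set.mem_iUnion.mp hV
    refine ⟨V, hxV, fun r hr => heV V r ?_⟩
    simp only [Scheme.IdealSheafData.ideal_pow, Pi.pow_apply] at hr ⊢
    exact Ideal.pow_le_pow_right (Finset.le_sup hVσ) hr
  refine ⟨σ.sup eV, fun n => ⟨killed_of_cover _ (CohDev.isCoh_kernel _ (hG.1 n) (hC.1 n).1) fun x => ?_,
    killed_of_cover _ (CohDev.isCoh_cokernel _ (hG.1 n).1 (hC.1 n)) fun x => ?_⟩⟩
  · obtain ⟨V, hx, hV⟩ := hgood x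
    refine ⟨V, hx, fun r hr c => QCoh.app_injective_of_mono (kernel.ι (α.app (op n))) V.1 ?_⟩
    rw [map_zero, Scheme.Modules.Hom.app_smul]
    refine (hV r hr n).1 _ ?_
    rw [← FormalFun.app_comp, kernel.condition]; rfl
  · obtain ⟨V, hx, hV⟩ := hgood x
    refine ⟨V, hx, fun r hr c => ?_⟩
    haveI := (hC.1 n).1
    haveI := (CohDev.isCoh_cokernel (α.app (op n)) (hG.1 n).1 (hC.1 n)).1
    obtain ⟨y, rfl⟩ := QCoh.app_surjective_of_epi (cokernel.π (α.app (op n))) V.2 c
    obtain ⟨x', hx'⟩ := (hV r hr n).2 y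
    rw [← Scheme.Modules.Hom.app_smul, ← hx', ← FormalFun.app_comp, cokernel.condition]
    rfl

end Groth.Agent.FormalExist.Step
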