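import Groth.Agent.NilIso19.Basic
import Groth.Agent.FormalFun.ClosedCut
import Groth.Agent.FormalExist.BaseChange
import Groth.Agent.Formal61.Pullback
import Groth.Agent.ClUnit.Basic
import Groth.Agent.CohDev.Coh
import Groth.Agent.ProperFin.FiniteMap

/-!
# Flat morphisms which are isomorphisms along `V(I)`
-/

set_option autoImplicit false

universe u

open CategoryTheory CategoryTheory.Limits AlgebraicGeometry Opposite
open Groth.Agent

noncomputable section

namespace Groth.Agent.FormalExist.ThickIso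

/-- A flat morphism to an affine scheme which is an isomorphism modulo a nilpotent ideal is an isomorphism. -/
theorem isIso_of_red {R : Type u} [CommRing R] {J : Ideal R} (hJ : IsNilpotent J) {P : Scheme.{u}}
    (p : P ⟶ Spec (CommRingCat.of R)) [Flat p] (h : IsIso (pullback.snd p (NilIso19.red J))) : IsIso p := by
  let hh : Over.mk p ⟶ Over.mk (𝟙 (Spec (CommRingCat.of R))) := Over.homMk p
  haveI : Flat (Over.mk p).hom := ‹Flat p›
  haveI : IsIso ((Over.pullback (NilIso19.red J)).map hh) := by
    have h1 : IsIso (((Over.pullback (NilIso19.red J)).map hh).left) := by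
      have e : ((Over.pullback (NilIso19.red J)).map hh).left ≫ pullback.snd (𝟙 _) (NilIso19.red J) =
          pullback.snd p (NilIso19.red J) := Over.w ((Over.pullback (NilIso19.red J)).map hh)
      haveI : IsIso (pullback.snd (𝟙 (Spec (CommRingCat.of R))) (NilIso19.red J)) := inferInstance
      exact @IsIso.of_isIso_comp_right _ _ _ _ _ _ _ this (e ▸ h)
    haveI : IsIso ((Over.forget _).map ((Over.pullback (NilIso19.red J)).map hh)) := h1
    exact isIso_of_reflects_iso _ (Over.forget _)
  have := NilIso19.isIso_of_red hJ hh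
  exact inferInstanceAs (IsIso ((Over.forget _).map hh))

variable {A : Type u} [CommRing A] (I : Ideal A) {X X' : Scheme.{u}} [X.Over (Spec (CommRingCat.of A))]
  [X'.Over (Spec (CommRingCat.of A))] (f : X' ⟶ X)
  (hf : f ≫ (X ↘ Spec (CommRingCat.of A)) = X' ↘ Spec (CommRingCat.of A))

/-- the thickening -/
abbrev Th (n : ℕ) (Y : Scheme.{u}) [Y.Over (Spec (CommRingCat.of A))] : Scheme.{u} :=
  pullback (Y ↘ Spec (CommRingCat.of A)) (CohB1.specQuot I n)

/-- its inclusion -/
abbrev ti (n : ℕ) (Y : Scheme.{u}) [Y.Over (Spec (CommRingCat.of A))] : Th I n Y ⟶ Y :=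
  pullback.fst (Y ↘ Spec (CommRingCat.of A)) (CohB1.specQuot I n)

instance isClosedImmersion_ti (n : ℕ) (Y : Scheme.{u}) [Y.Over (Spec (CommRingCat.of A))] :
    IsClosedImmersion (ti I n Y) := by
  haveI : IsClosedImmersion (CohB1.specQuot I n) :=
    IsClosedImmersion.spec_of_surjective _ Ideal.Quotient.mk_surjective
  exact MorphismProperty.pullback_fst _ _ ‹_›

theorem isCut_ti (n : ℕ) (Y : Scheme.{u}) [Y.Over (Spec (CommRingCat.of A))] :
    FormalFun.IsCut (ti I n Y) (I ^ (n + 1)) :=
  FormalFun.isCut_of_isPullback (ti I n Y) I n (IsPullback.of_hasPullback _ _)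

/-- the map of thickenings -/
abbrev fn (n : ℕ) : Th I n X' ⟶ Th I n X :=
  pullback.map (X' ↘ Spec (CommRingCat.of A)) (CohB1.specQuot I n) (X ↘ Spec (CommRingCat.of A))
    (CohB1.specQuot I n) f (𝟙 _) (𝟙 _)
    ((Category.comp_id _).trans hf.symm) ((Category.comp_id _).trans (Category.id_comp _).symm)

theorem isPullback_fn (n : ℕ) : IsPullback (fn I f hf n) (ti I n X') (ti I n X) f := by
  have h2 : IsPullback (pullback.snd (X ↘ Spec (CommRingCat.of A)) (CohB1.specQuot I n)) (ti I n X)
      (CohB1.specQuot I n) (X ↘ Spec (CommRingCat.of A)) := (IsPullback.of_hasPullback _ _).flip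
  refine IsPullback.of_right ?_ (pullback.lift_fst _ _ _) h2
  rw [pullback.lift_snd, Category.comp_id, hf]
  exact (IsPullback.of_hasPullback _ _).flip

theorem isIso_fn [Flat f] (hZ : IsIso (fn I f hf 0)) (n : ℕ) : IsIso (fn I f hf n) := by
  haveI : Flat (fn I f hf n) := MorphismProperty.of_isPullback (isPullback_fn I f hf n).flip inferInstance
  refine (IsZariskiLocalAtTarget.iff_of_iSup_eq_top (P := MorphismProperty.isomorphisms Scheme) (f := fn I f hf n)
    (fun U : (Th I n X).affineOpens => U.1) (iSup_affineOpens_eq_top _)).2 fun U => ?_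
  show IsIso (fn I f hf n ∣_ U.1)
  let R := Γ(Th I n X, U.1)
  let s : Spec R ⟶ Th I n X := U.2.fromSpec
  haveI : IsOpenImmersion s := IsAffineOpen.isOpenImmersion_fromSpec _
  suffices h : IsIso (pullback.snd (fn I f hf n) s) by
    have H : IsPullback ((fn I f hf n) ∣_ U.1) ((fn I f hf n) ⁻¹ᵁ U.1).ι U.1.ι (fn I f hf n) :=
      isPullback_morphismRestrict (fn I f hf n) U.1
    have e : U.2.isoSpec.inv ≫ U.1.ι = s := rfl
    let lift : ((fn I f hf n) ⁻¹ᵁ U.1 : Scheme.{u}) ⟶ pullback (fn I f hf n) s :=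
      pullback.lift ((fn I f hf n) ⁻¹ᵁ U.1).ι (((fn I f hf n) ∣_ U.1) ≫ U.2.isoSpec.hom) (by
        rw [Category.assoc, ← e, Iso.hom_inv_id_assoc]; exact H.w.symm)
    haveI : IsIso lift := by
      refine ⟨H.lift (pullback.snd _ s ≫ U.2.isoSpec.inv) (pullback.fst _ s) ?_, ?_, ?_⟩
      · rw [Category.assoc, e]; exact pullback.condition.symm
      · refine H.hom_ext ?_ ?_
        · rw [Category.assoc, H.lift_fst, pullback.lift_snd_assoc, Category.assoc, Iso.hom_inv_id,
            Category.comp_id, Category.id_comp]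
        · rw [Category.assoc, H.lift_snd, pullback.lift_fst, Category.id_comp]
      · refine pullback.hom_ext ?_ ?_
        · rw [Category.assoc, pullback.lift_fst, H.lift_snd, Category.id_comp]
        · rw [Category.assoc, pullback.lift_snd, ← Category.assoc, H.lift_fst, Category.assoc, Iso.inv_hom_id,
            Category.comp_id, Category.id_comp]
    have e2 : (fn I f hf n) ∣_ U.1 = lift ≫ pullback.snd (fn I f hf n) s ≫ U.2.isoSpec.inv := by
      rw [pullback.lift_snd_assoc, Category.assoc, Iso.hom_inv_id, Category.comp_id]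
    rw [e2]
    infer_instance
  let φ : A →+* R := Spec.preimage (s ≫ ti I n X ≫ (X ↘ Spec (CommRingCat.of A))) |>.hom
  have hφ : Spec.map (CommRingCat.ofHom φ) = s ≫ ti I n X ≫ (X ↘ Spec (CommRingCat.of A)) := Spec.map_preimage _
  let J : Ideal R := I.map φ
  have hJ : IsNilpotent J := by
    refine ⟨n + 1, ?_⟩
    show (I.map φ) ^ (n + 1) = 0
    rw [← Ideal.map_pow, Submodule.zero_eq_bot, Ideal.map_eq_bot_iff_le_ker]
    intro a ha
    let ψ : A ⧸ I ^ (n + 1) →+* R :=
      Spec.preimage (s ≫ pullback.snd (X ↘ Spec (CommRingCat.of A)) (CohB1.specQuot I n)) |>.hom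
    have e : φ = ψ.comp (Ideal.Quotient.mk (I ^ (n + 1))) := by
      have : CommRingCat.ofHom φ = CommRingCat.ofHom (Ideal.Quotient.mk (I ^ (n + 1))) ≫ CommRingCat.ofHom ψ :=
        Spec.map_injective (by
          rw [hφ, Spec.map_comp]
          show _ = Spec.map (Spec.preimage (s ≫ pullback.snd _ _)) ≫ CohB1.specQuot I n
          rw [Spec.map_preimage, Category.assoc]
          exact congrArg (s ≫ ·) pullback.condition)
      exact congrArg (fun g => g.hom) this
    rw [RingHom.mem_ker, e, RingHom.comp_apply, Ideal.Quotient.eq_zero_iff_mem.mpr ha, map_zero]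
  refine isIso_of_red hJ _ ?_
  -- the reduction factors through `V(I)`
  let ψ₀ : A ⧸ I ^ (0 + 1) →+* R ⧸ J :=
    Ideal.Quotient.lift _ ((Ideal.Quotient.mk J).comp φ) fun a ha => by
      rw [zero_add, pow_one] at ha
      exact Ideal.Quotient.eq_zero_iff_mem.mpr (Ideal.mem_map_of_mem φ ha)
  let u : Spec (CommRingCat.of (R ⧸ J)) ⟶ Th I 0 X :=
    pullback.lift (NilIso19.red J ≫ s ≫ ti I n X) (Spec.map (CommRingCat.ofHom ψ₀)) (by
      rw [Category.assoc, Category.assoc, ← hφ, ← Spec.map_comp, CohB1.specQuot, ← Spec.map_comp]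
      rfl)
  have hu : u ≫ ti I 0 X = NilIso19.red J ≫ s ≫ ti I n X := pullback.lift_fst _ _ _
  have p1 : IsPullback (pullback.snd (fn I f hf n) s) (pullback.fst (fn I f hf n) s ≫ ti I n X') (s ≫ ti I n X) f :=
    (IsPullback.of_hasPullback _ _).flip.paste_vert (isPullback_fn I f hf n)
  have p2 : IsPullback (pullback.snd (pullback.snd (fn I f hf n) s) (NilIso19.red J))
      (pullback.fst (pullback.snd (fn I f hf n) s) (NilIso19.red J) ≫ pullback.fst (fn I f hf n) s ≫ ti I n X')
      (NilIso19.red J ≫ s ≫ ti I n X) f :=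
    (IsPullback.of_hasPullback _ _).flip.paste_vert p1
  haveI := hZ
  have p3 : IsPullback (pullback.snd (fn I f hf 0) u) (pullback.fst (fn I f hf 0) u ≫ ti I 0 X') (u ≫ ti I 0 X) f :=
    (IsPullback.of_hasPullback _ _).flip.paste_vert (isPullback_fn I f hf 0)
  rw [hu] at p3
  haveI : IsIso (pullback.snd (fn I f hf 0) u) := inferInstance
  rw [← IsPullback.isoIsPullback_hom_fst _ _ p2 p3]
  infer_instance

variable [Flat f]

theorem isIso_unit (hZ : IsIso (fn I f hf 0)) (M : X.Modules) [M.IsQuasicoherent] {n : ℕ}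
    (hM : Formal.KilledBy (I ^ (n + 1)) M) :
    IsIso ((Scheme.Modules.pullbackPushforwardAdjunction f).unit.app M) := by
  haveI := isIso_fn I f hf hZ n
  have H := isPullback_fn I f hf n
  let L := (Scheme.Modules.pullback (ti I n X)).obj M
  haveI : L.IsQuasicoherent := inferInstanceAs ((Scheme.Modules.pullback (ti I n X)).obj M).IsQuasicoherent
  have hη := (isCut_ti I n X).isIso_unit M hM
  have h2 := BaseChange.isIso_θ H L
  have hfu : IsIso ((Scheme.Modules.pullbackPushforwardAdjunction (fn I f hf n)).unit.app L) := by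
    refine (ClUnit.isIso_unit_iff (fn I f hf n) L).mpr fun V a ha s => ?_
    have h0 : a = 0 := by
      rw [Scheme.Hom.ker_apply, RingHom.mem_ker] at ha
      exact (ConcreteCategory.bijective_of_isIso ((fn I f hf n).app V.1)).1 (ha.trans (map_zero _).symm)
    rw [h0, zero_smul]
  have h4 : IsIso (BaseChange.ψ H.w L) := by
    have e : BaseChange.ψ H.w L = (Scheme.Modules.pushforward (ti I n X)).map
        ((Scheme.Modules.pullbackPushforwardAdjunction (fn I f hf n)).unit.app L) ≫
        (((Scheme.Modules.pushforwardComp (fn I f hf n) (ti I n X) ≪≫ Scheme.Modules.pushforwardCongr H.w ≪≫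
          (Scheme.Modules.pushforwardComp (ti I n X') f).symm).app
            ((Scheme.Modules.pullback (fn I f hf n)).obj L)).hom) := by
      simp only [BaseChange.ψ, Iso.trans_hom, Iso.app_hom, NatTrans.comp_app, Iso.symm_hom]
    rw [e]
    infer_instance
  have h3 : (Scheme.Modules.pullbackPushforwardAdjunction f).unit.app ((Scheme.Modules.pushforward (ti I n X)).obj L) ≫
      (Scheme.Modules.pushforward f).map (BaseChange.θ H.w L) = BaseChange.ψ H.w L :=
    (Adjunction.homEquiv_unit (Scheme.Modules.pullbackPushforwardAdjunction f) _ _ _).symm.trans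
      (Equiv.apply_symm_apply _ _)
  have h5 : IsIso ((Scheme.Modules.pullbackPushforwardAdjunction f).unit.app
      ((Scheme.Modules.pushforward (ti I n X)).obj L)) :=
    @IsIso.of_isIso_comp_right _ _ _ _ _ _ _ (Functor.map_isIso _ (BaseChange.θ H.w L)) (h3 ▸ h4)
  have h6 := (Scheme.Modules.pullbackPushforwardAdjunction f).unit.naturality
    ((Scheme.Modules.pullbackPushforwardAdjunction (ti I n X)).unit.app M)
  have h7 : IsIso ((Scheme.Modules.pullbackPushforwardAdjunction f).unit.app M ≫
      (Scheme.Modules.pullback f ⋙ Scheme.Modules.pushforward f).map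
        ((Scheme.Modules.pullbackPushforwardAdjunction (ti I n X)).unit.app M)) :=
    (congrArg (fun g => IsIso g) h6).mp (@IsIso.comp_isIso _ _ _ _ _ _ _ hη h5)
  exact @IsIso.of_isIso_comp_right _ _ _ _ _ _ _ (@Functor.map_isIso _ _ _ _ _ _ _ _ hη) h7

variable [IsNoetherian X] [IsNoetherian X']

theorem exists_model (hZ : IsIso (fn I f hf 0)) (N : X'.Modules) (hN : Coh.IsCoh N) {n : ℕ}
    (hk : Formal.KilledBy (I ^ (n + 1)) N) :
    IsIso ((Scheme.Modules.pullbackPushforwardAdjunction f).counit.app N) ∧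
      Coh.IsCoh ((Scheme.Modules.pushforward f).obj N) := by
  haveI := hN.1
  haveI := isIso_fn I f hf hZ n
  have H := isPullback_fn I f hf n
  haveI : IsLocallyNoetherian (Th I n X') := LocallyOfFiniteType.isLocallyNoetherian (ti I n X')
  haveI : IsLocallyNoetherian (Th I n X) := LocallyOfFiniteType.isLocallyNoetherian (ti I n X)
  let L' := (Scheme.Modules.pullback (ti I n X')).obj N
  let L := (Scheme.Modules.pushforward (fn I f hf n)).obj L'
  let M := (Scheme.Modules.pushforward (ti I n X)).obj L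
  have hL' : Coh.IsCoh L' := ZClosLib.CohDescent.isCoh_pullback (ti I n X') _ hN
  have hL : Coh.IsCoh L := ProperFin.isCoh_push_of_isFinite (fn I f hf n) _ hL'
  have hM : Coh.IsCoh M := ProperFin.isCoh_push_of_isFinite (ti I n X) _ hL
  haveI := hM.1
  haveI := hL.1
  have hMk : Formal.KilledBy (I ^ (n + 1)) M := fun a ha => (isCut_ti I n X).push_smulMod ha L
  have hu := isIso_unit I f hf hZ M hMk
  have hη := (isCut_ti I n X').isIso_unit N hk
  haveI := BaseChange.isIso_θ H L
  haveI : IsIso (Scheme.Modules.pullbackPushforwardAdjunction (fn I f hf n)).counit :=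
    (Scheme.Modules.pullbackPushforwardAdjunction (fn I f hf n)).counit_isIso_of_R_fully_faithful
  let e : (Scheme.Modules.pullback f).obj M ≅ N :=
    asIso (BaseChange.θ H.w L) ≪≫ (Scheme.Modules.pushforward (ti I n X')).mapIso
      (asIso ((Scheme.Modules.pullbackPushforwardAdjunction (fn I f hf n)).counit.app L')) ≪≫ (@asIso _ _ _ _ _ hη).symm
  let adj := Scheme.Modules.pullbackPushforwardAdjunction f
  have h1 : IsIso (adj.counit.app ((Scheme.Modules.pullback f).obj M)) := by
    have ht := adj.left_triangle_components M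
    haveI : IsIso (adj.unit.app M) := hu
    haveI : IsIso ((Scheme.Modules.pullback f).map (adj.unit.app M)) := Functor.map_isIso _ _
    haveI : IsIso ((Scheme.Modules.pullback f).map (adj.unit.app M) ≫
        adj.counit.app ((Scheme.Modules.pullback f).obj M)) := by rw [ht]; infer_instance
    exact IsIso.of_isIso_comp_left ((Scheme.Modules.pullback f).map (adj.unit.app M)) _
  have h2 : IsIso (adj.counit.app N) := by
    have hn := adj.counit.naturality e.hom
    have h3 : IsIso ((Scheme.Modules.pushforward f ⋙ Scheme.Modules.pullback f).map e.hom ≫ adj.counit.app N) := by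
      rw [hn]
      exact @IsIso.comp_isIso _ _ _ _ _ _ _ h1 (Iso.isIso_hom e)
    exact @IsIso.of_isIso_comp_left _ _ _ _ _ _ _ (Functor.map_isIso _ e.hom) h3
  exact ⟨h2, CohDev.isCoh_of_iso ((@asIso _ _ _ _ (adj.unit.app M) hu) ≪≫
    (Scheme.Modules.pushforward f).mapIso e) hM⟩

theorem pullback_map_bijective (hZ : IsIso (fn I f hf 0)) {M N : X.Modules} [N.IsQuasicoherent] {n : ℕ}
    (hN : Formal.KilledBy (I ^ (n + 1)) N) :
    Function.Bijective (fun φ : M ⟶ N => (Scheme.Modules.pullback f).map φ) := by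
  let adj := Scheme.Modules.pullbackPushforwardAdjunction f
  have h := isIso_unit I f hf hZ N hN
  have e : (fun φ : M ⟶ N => (Scheme.Modules.pullback f).map φ) =
      (adj.homEquiv M _).symm ∘ fun φ => φ ≫ adj.unit.app N := funext fun φ => by
    rw [Function.comp_apply, Equiv.eq_symm_apply]
    exact (adj.homEquiv_unit (f := _)).trans (adj.unit.naturality φ).symm
  rw [e]
  exact (Equiv.bijective _).comp ⟨fun a b hab => (cancel_mono (adj.unit.app N)).1 hab,
    fun g => ⟨g ≫ inv (adj.unit.app N), by simp⟩⟩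

theorem main (hZ : IsIso (fn I f hf 0)) :
    (∀ G₁ G₂ : ℕᵒᵖ ⥤ X.Modules, Formal.IsCohFormal I G₁ → Formal.IsCohFormal I G₂ →
      Function.Bijective (fun φ : G₁ ⟶ G₂ => Functor.whiskerRight φ (Scheme.Modules.pullback f))) ∧
    (∀ G' : ℕᵒᵖ ⥤ X'.Modules, Formal.IsCohFormal I G' →
      ∃ G : ℕᵒᵖ ⥤ X.Modules, Formal.IsCohFormal I G ∧ Nonempty (G ⋙ Scheme.Modules.pullback f ≅ G')) := by
  let adj := Scheme.Modules.pullbackPushforwardAdjunction f
  constructor
  · intro G₁ G₂ h₁ h₂
    have hb : ∀ i : ℕᵒᵖ, Function.Bijective (fun φ : G₁.obj i ⟶ G₂.obj i => (Scheme.Modules.pullback f).map φ) :=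
      fun i => haveI := (h₂.1 i.unop).1; pullback_map_bijective I f hf hZ (h₂.2.1 i.unop)
    refine ⟨fun φ φ' h => NatTrans.ext (funext fun i => (hb i).1 (congrArg (fun ψ => NatTrans.app ψ i) h)), fun ψ => ?_⟩
    choose g hg using fun i => (hb i).2 (ψ.app i)
    refine ⟨{ app := g, naturality := fun i j k => ?_ }, NatTrans.ext (funext hg)⟩
    haveI := (h₂.1 j.unop).1
    refine (pullback_map_bijective I f hf hZ (h₂.2.1 j.unop)).1 ?_
    simp only [Functor.map_comp]
    exact ((congrArg (_ ≫ ·) (hg j)).trans (ψ.naturality k)).trans (congrArg (· ≫ _) (hg i)).symm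
  · intro G' hG'
    let G := G' ⋙ Scheme.Modules.pushforward f
    have hε : ∀ i, IsIso ((Functor.whiskerLeft G' adj.counit).app i) := fun i =>
      (exists_model I f hf hZ (G'.obj i) (hG'.1 i.unop) (hG'.2.1 i.unop)).1
    haveI := NatIso.isIso_of_isIso_app (Functor.whiskerLeft G' adj.counit)
    let e : G ⋙ Scheme.Modules.pullback f ≅ G' :=
      Functor.associator _ _ _ ≪≫ asIso (Functor.whiskerLeft G' adj.counit) ≪≫ G'.rightUnitor
    have hcoh : ∀ n, Coh.IsCoh (G.obj (op n)) := fun n =>
      (exists_model I f hf hZ (G'.obj (op n)) (hG'.1 n) (hG'.2.1 n)).2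
    have hk : ∀ n, Formal.KilledBy (I ^ (n + 1)) (G.obj (op n)) := fun n a ha => by
      show Formal.smulMod A ((Scheme.Modules.pushforward f).obj (G'.obj (op n))) a = 0
      rw [← Formal61.Pullback.pushforward_smulMod f hf, hG'.2.1 n a ha, Functor.map_zero]
    refine ⟨G, ⟨hcoh, hk, fun n => ?_⟩, ⟨e⟩⟩
    haveI := adj.leftAdjoint_preservesColimits.{0, 0}
    let τ := G.map (homOfLE (Nat.le_succ n)).op
    have hq : Formal61.Sys.IsModQuot (I ^ (n + 1)) (G'.map (homOfLE (Nat.le_succ n)).op) := hG'.2.2 n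
    have he : (Scheme.Modules.pullback f).map τ =
        e.hom.app (op (n + 1)) ≫ G'.map (homOfLE (Nat.le_succ n)).op ≫ e.inv.app (op n) := by
      rw [← Category.assoc, ← e.hom.naturality, Category.assoc, Iso.hom_inv_id_app, Category.comp_id]
      rfl
    haveI : Epi τ := by
      haveI := hq.epi
      have hC : Coh.IsCoh (cokernel τ) := CohDev.isCoh_cokernel τ (hcoh (n + 1)).1 (hcoh n)
      haveI := hC.1
      have hu := isIso_unit I f hf hZ (cokernel τ) (Formal61.Sys.killedBy_of_epi (cokernel.π τ) (hk n))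
      refine Abelian.epi_of_cokernel_π_eq_zero _ ?_
      rw [← cancel_mono (adj.unit.app (cokernel τ)), zero_comp]
      refine (adj.unit.naturality (cokernel.π τ)).trans ?_
      haveI : Epi ((Scheme.Modules.pullback f).map τ) := by
        rw [he]
        haveI : Epi (e.hom.app (op (n + 1))) := @IsIso.epi_of_iso _ _ _ _ _ (Iso.isIso_hom (e.app _))
        haveI : Epi (e.inv.app (op n)) := @IsIso.epi_of_iso _ _ _ _ _ (Iso.isIso_inv (e.app _))
        exact epi_comp _ _
      have h0 : (Scheme.Modules.pullback f).map (cokernel.π τ) = 0 := by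
        rw [← cancel_epi ((Scheme.Modules.pullback f).map τ), ← Functor.map_comp, cokernel.condition,
          Functor.map_zero, comp_zero]
      rw [Functor.comp_map, h0, Functor.map_zero, comp_zero]
    refine Formal61.Sys.IsModQuot.mk' ((Formal61.Sys.smulFamily_comp_eq_zero_iff _).1
      (Formal61.Sys.comp_eq_zero_of_killedBy (hk n) _)) fun Z v hv => ?_
    obtain ⟨v', rfl⟩ := (Formal61.Sys.isModQuot_modPowπ I (n + 1) _).exists_desc v hv
    let Z' := Formal.modPow I (n + 1) (G.obj (op (n + 1)))
    let p := Formal.modPowπ I (n + 1) (G.obj (op (n + 1)))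
    have hZ' : Coh.IsCoh Z' := by
      haveI := (hcoh (n + 1)).1
      haveI : (∐ fun _ : ↥(I ^ (n + 1)) => G.obj (op (n + 1))).IsQuasicoherent := inferInstance
      exact CohDev.isCoh_cokernel _ this (hcoh (n + 1))
    haveI := hZ'.1
    have hkZ : Formal.KilledBy (I ^ (n + 1)) Z' := Formal61.Sys.killedBy_modPow I (n + 1) _
    obtain ⟨w, hw⟩ := hq.exists_desc_of_killedBy (e.inv.app (op (n + 1)) ≫ (Scheme.Modules.pullback f).map p)
      (Formal61.Pullback.killedBy_pullback f hf hkZ)
    obtain ⟨w₀, hw₀⟩ := (pullback_map_bijective I f hf hZ (M := G.obj (op n)) hkZ).2 (e.hom.app (op n) ≫ w)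
    refine ⟨w₀ ≫ v', ?_⟩
    rw [← Category.assoc]
    refine congrArg (· ≫ v') ((pullback_map_bijective I f hf hZ (M := G.obj (op (n + 1))) hkZ).1 ?_)
    show (Scheme.Modules.pullback f).map (τ ≫ w₀) = (Scheme.Modules.pullback f).map p
    rw [Functor.map_comp, show (Scheme.Modules.pullback f).map w₀ = _ from hw₀, he]
    simp only [Category.assoc, Iso.inv_hom_id_app_assoc]
    rw [hw]
    exact Iso.hom_inv_id_app_assoc e _ _

end Groth.Agent.FormalExist.ThickIso
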