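import Groth.Agent.FormalExist.Base
import Groth.Agent.FormalExist.QuotLem
import Groth.Agent.Formal61.GenFin
import Groth.Agent.FormalFun.Connected
import Groth.Agent.FormalTors.Basic
import Groth.Prelude.Def_Formal2

/-!
# Formal modules only depend on the zero locus of the ideal
-/

set_option autoImplicit false

universe u

open CategoryTheory CategoryTheory.Limits AlgebraicGeometry Opposite TopologicalSpace
open Groth.Agent

noncomputable section

namespace Groth.Agent.FormalExist.ZeroLocus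

variable {A : Type u} [CommRing A] {X : Scheme.{u}} [X.Over (Spec (CommRingCat.of A))]

theorem basicOpen_gA (W : X.Opens) (a : A) :
    X.basicOpen (FormalFun.gA (A := A) W a) =
      W ⊓ (X ↘ Spec (CommRingCat.of A)) ⁻¹ᵁ (PrimeSpectrum.basicOpen a) := by
  rw [← Formal61.GenFin.gA_res (le_top : W ≤ ⊤) a, Scheme.basicOpen_res, FormalFun.basicOpen_gA_top]

theorem map_le_radical {I J : Ideal A}
    (hV : (fun x : X => (X ↘ Spec (CommRingCat.of A)) x) ⁻¹' PrimeSpectrum.zeroLocus (J : Set A) ⊆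
      (fun x : X => (X ↘ Spec (CommRingCat.of A)) x) ⁻¹' PrimeSpectrum.zeroLocus (I : Set A))
    (W : X.affineOpens) :
    I.map (FormalFun.gA (A := A) W.1) ≤ (J.map (FormalFun.gA (A := A) W.1)).radical := by
  rw [Ideal.map_le_iff_le_comap]
  intro a ha
  rw [Ideal.mem_comap, Ideal.radical_eq_sInf, Ideal.mem_sInf]
  rintro P ⟨hJP, hP⟩
  let p : PrimeSpectrum Γ(X, W.1) := ⟨P, hP⟩
  have key : ∀ b : A, FormalFun.gA (A := A) W.1 b ∈ P ↔
      (X ↘ Spec (CommRingCat.of A)) (W.2.fromSpec p) ∉ PrimeSpectrum.basicOpen b := by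
    intro b
    have h1 : (W.2.fromSpec p) ∈ X.basicOpen (FormalFun.gA (A := A) W.1 b) ↔
        p ∈ PrimeSpectrum.basicOpen (FormalFun.gA (A := A) W.1 b) := by
      rw [← W.2.fromSpec_preimage_basicOpen]
      rfl
    rw [basicOpen_gA] at h1
    have hpW : W.2.fromSpec p ∈ (W.1 : Set X) := W.2.range_fromSpec ▸ Set.mem_range_self p
    constructor
    · intro hb hm
      exact h1.mp ⟨hpW, hm⟩ hb
    · intro hb
      by_contra hn
      exact hb (h1.mpr hn).2
  have hx : W.2.fromSpec p ∈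
      (fun x : X => (X ↘ Spec (CommRingCat.of A)) x) ⁻¹' PrimeSpectrum.zeroLocus (J : Set A) := by
    intro b hb
    by_contra hn
    exact (key b).mp (hJP (Ideal.mem_map_of_mem _ hb)) hn
  exact (key a).mpr fun hm => hm (hV hx ha)

/-- `I^(c k) O ⊆ J^k O` for all `k`, as a statement about coherent modules. -/
def Bound (I J : Ideal A) (X : Scheme.{u}) [X.Over (Spec (CommRingCat.of A))] (c : ℕ) : Prop :=
  1 ≤ c ∧ ∀ (k : ℕ) (M : X.Modules), Coh.IsCoh M → Formal.KilledBy (J ^ k) M → Formal.KilledBy (I ^ (c * k)) M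

theorem exists_bound [AlgebraicGeometry.IsNoetherian X] {I J : Ideal A}
    (hV : (fun x : X => (X ↘ Spec (CommRingCat.of A)) x) ⁻¹' PrimeSpectrum.zeroLocus (J : Set A) ⊆
      (fun x : X => (X ↘ Spec (CommRingCat.of A)) x) ⁻¹' PrimeSpectrum.zeroLocus (I : Set A)) :
    ∃ c, Bound I J X c := by
  obtain ⟨σ, hσ⟩ := FormalTors.exists_finite_cover X
  have hp : ∀ W : X.affineOpens, ∃ e, (I.map (FormalFun.gA (A := A) W.1)) ^ e ≤ J.map (FormalFun.gA (A := A) W.1) :=
    fun W => by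
      haveI : IsNoetherianRing Γ(X, W.1) := IsLocallyNoetherian.component_noetherian W
      exact Ideal.exists_pow_le_of_le_radical_of_fg_radical (map_le_radical hV W) (IsNoetherian.noetherian _)
  choose e he using hp
  refine ⟨σ.sup e + 1, Nat.le_add_left 1 _, fun k M hM hk a ha => ?_⟩
  haveI := hM.1
  refine QCohGen.Noeth.eq_zero_of_cover _ fun x => ?_
  obtain ⟨W, hW, hxW⟩ := hσ x
  refine ⟨W, hxW, fun m => ?_⟩
  rw [FormalFun.smulMod_app]
  refine Base.killed_of_killedBy hk W _ ?_ m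
  rw [Base.pow_ideal]
  have h1 := Ideal.mem_map_of_mem (FormalFun.gA (A := A) W.1) ha
  rw [Ideal.map_pow, pow_mul] at h1
  rw [Ideal.map_pow]
  refine Ideal.pow_right_mono ?_ k h1
  exact (Ideal.pow_le_pow_right ((Finset.le_sup hW).trans (Nat.le_succ _))).trans (he W)

variable {I J : Ideal A} {c : ℕ}

/-- the re-indexing -/
def m (c n : ℕ) : ℕ := c * (n + 1)

theorem le_m (hc : Bound I J X c) (n : ℕ) : n ≤ m c n :=
  (Nat.le_succ n).trans (Nat.le_mul_of_pos_left (n + 1) hc.1)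

theorem m_mono (c : ℕ) {p q : ℕ} (h : p ≤ q) : m c p ≤ m c q := Nat.mul_le_mul_left c (Nat.add_le_add_right h 1)

variable (J c) in
/-- the terms of the new system -/
abbrev obj' (G : ℕᵒᵖ ⥤ X.Modules) (n : ℕ) : X.Modules := Formal.modPow J (n + 1) (G.obj (op (m c n)))

variable (J c) in
/-- the projections to the new system -/
abbrev q (G : ℕᵒᵖ ⥤ X.Modules) (n : ℕ) : G.obj (op (m c n)) ⟶ obj' J c G n :=
  Formal.modPowπ J (n + 1) (G.obj (op (m c n)))

theorem killed_obj (G : ℕᵒᵖ ⥤ X.Modules) (n : ℕ) : Formal.KilledBy (J ^ (n + 1)) (obj' J c G n) :=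
  Formal61.Sys.killedBy_modPow J (n + 1) _

variable (J c) in
/-- transition maps -/
def step (G : ℕᵒᵖ ⥤ X.Modules) (n : ℕ) : obj' J c G (n + 1) ⟶ obj' J c G n :=
  ((Formal61.Sys.isModQuot_modPowπ J (n + 1 + 1) _).exists_desc_of_killedBy
    (G.map (homOfLE (m_mono c (Nat.le_succ n))).op ≫ q J c G n)
    (Formal61.Sys.killedBy_mono (Ideal.pow_le_pow_right (Nat.le_succ _)) (killed_obj G n))).choose

theorem q_step (G : ℕᵒᵖ ⥤ X.Modules) (n : ℕ) :
    q J c G (n + 1) ≫ step J c G n = G.map (homOfLE (m_mono c (Nat.le_succ n))).op ≫ q J c G n :=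
  ((Formal61.Sys.isModQuot_modPowπ J (n + 1 + 1) _).exists_desc_of_killedBy
    (G.map (homOfLE (m_mono c (Nat.le_succ n))).op ≫ q J c G n)
    (Formal61.Sys.killedBy_mono (Ideal.pow_le_pow_right (Nat.le_succ _)) (killed_obj G n))).choose_spec

variable (J c) in
/-- the new system -/
def sys (G : ℕᵒᵖ ⥤ X.Modules) : ℕᵒᵖ ⥤ X.Modules := Functor.ofOpSequence (step J c G)

theorem sys_map (G : ℕᵒᵖ ⥤ X.Modules) (n : ℕ) :
    (sys J c G).map (homOfLE (Nat.le_succ n)).op = step J c G n :=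
  Functor.ofOpSequence_map_homOfLE_succ (step J c G) n

variable (J c) in
/-- the projections, typed into the new system -/
def π (G : ℕᵒᵖ ⥤ X.Modules) (n : ℕ) : G.obj (op (m c n)) ⟶ (sys J c G).obj (op n) := q J c G n

theorem isModQuot_π (G : ℕᵒᵖ ⥤ X.Modules) (n : ℕ) : Formal61.Sys.IsModQuot (J ^ (n + 1)) (π J c G n) :=
  Formal61.Sys.isModQuot_modPowπ J (n + 1) _

instance epi_π (G : ℕᵒᵖ ⥤ X.Modules) (n : ℕ) : Epi (π J c G n) := (isModQuot_π G n).epi

theorem killed_sys (G : ℕᵒᵖ ⥤ X.Modules) (n : ℕ) : Formal.KilledBy (J ^ (n + 1)) ((sys J c G).obj (op n)) :=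
  killed_obj G n

theorem isCoh_sys_obj [AlgebraicGeometry.IsNoetherian X] (G : ℕᵒᵖ ⥤ X.Modules) (n : ℕ)
    (h : Coh.IsCoh (G.obj (op (m c n)))) : Coh.IsCoh ((sys J c G).obj (op n)) := by
  haveI := h.1
  haveI : (∐ fun _ : ↥(J ^ (n + 1)) => G.obj (op (m c n))).IsQuasicoherent := inferInstance
  exact CohDev.isCoh_cokernel _ this h

/-- descent to the new system -/
def lift (G : ℕᵒᵖ ⥤ X.Modules) {n : ℕ} {Z : X.Modules} (φ : G.obj (op (m c n)) ⟶ Z)
    (hZ : Formal.KilledBy (J ^ (n + 1)) Z) : (sys J c G).obj (op n) ⟶ Z :=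
  ((isModQuot_π (J := J) G n).exists_desc_of_killedBy φ hZ).choose

theorem π_lift (G : ℕᵒᵖ ⥤ X.Modules) {n : ℕ} {Z : X.Modules} (φ : G.obj (op (m c n)) ⟶ Z)
    (hZ : Formal.KilledBy (J ^ (n + 1)) Z) : π J c G n ≫ lift G φ hZ = φ :=
  ((isModQuot_π (J := J) G n).exists_desc_of_killedBy φ hZ).choose_spec

theorem π_step (G : ℕᵒᵖ ⥤ X.Modules) (n : ℕ) :
    π J c G (n + 1) ≫ (sys J c G).map (homOfLE (Nat.le_succ n)).op =
      G.map (homOfLE (m_mono c (Nat.le_succ n))).op ≫ π J c G n :=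
  (congrArg (q J c G (n + 1) ≫ ·) (sys_map G n)).trans (q_step G n)

attribute [local irreducible] sys π lift

theorem π_tr (G : ℕᵒᵖ ⥤ X.Modules) {p r : ℕ} (h : p ≤ r) :
    π J c G r ≫ (sys J c G).map (homOfLE h).op = G.map (homOfLE (m_mono c h)).op ≫ π J c G p := by
  induction r, h using Nat.le_induction with
  | base =>
    rw [show ((sys J c G).map (homOfLE (le_refl p)).op) = 𝟙 _ from (sys J c G).map_id _,
      show G.map (homOfLE (m_mono c (le_refl p))).op = 𝟙 _ from G.map_id _]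
    exact (Category.comp_id _).trans (Category.id_comp _).symm
  | succ r hr ih =>
    have e1 : (sys J c G).map (homOfLE (hr.trans (Nat.le_succ r))).op =
        (sys J c G).map (homOfLE (Nat.le_succ r)).op ≫ (sys J c G).map (homOfLE hr).op := by
      rw [← Functor.map_comp, ← op_comp, homOfLE_comp]
    rw [e1, ← Category.assoc, π_step, Category.assoc, ih, ← Category.assoc, ← Functor.map_comp, ← op_comp,
      homOfLE_comp]

variable [AlgebraicGeometry.IsNoetherian X]

theorem isModQuot_comp (hc : Bound I J X c) {G : ℕᵒᵖ ⥤ X.Modules} (hG : Formal.IsCohFormal I G) {r n : ℕ}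
    (h : m c n ≤ r) :
    Formal61.Sys.IsModQuot (J ^ (n + 1)) (G.map (homOfLE h).op ≫ π J c G n) := by
  have h1 := Formal61.Sys.isModQuot_map hG.2.1 hG.2.2 h
  haveI := h1.epi
  haveI : Epi (G.map (homOfLE h).op ≫ π J c G n) := epi_comp _ _
  refine Formal61.Sys.IsModQuot.mk' ((Formal61.Sys.smulFamily_comp_eq_zero_iff _).1
    (Formal61.Sys.comp_eq_zero_of_killedBy (killed_sys G n) _)) fun Z v hv => ?_
  obtain ⟨v', rfl⟩ := (Formal61.Sys.isModQuot_modPowπ J (n + 1) _).exists_desc v hv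
  have hcoh : Coh.IsCoh (Formal.modPow J (n + 1) (G.obj (op r))) := by
    haveI := (hG.1 r).1
    haveI : (∐ fun _ : ↥(J ^ (n + 1)) => G.obj (op r)).IsQuasicoherent := inferInstance
    exact CohDev.isCoh_cokernel _ this (hG.1 r)
  obtain ⟨w, hw⟩ := h1.exists_desc_of_killedBy (Formal.modPowπ J (n + 1) (G.obj (op r)))
    (Formal61.Sys.killedBy_mono (Ideal.pow_le_pow_right (Nat.le_succ _))
      (hc.2 (n + 1) _ hcoh (Formal61.Sys.killedBy_modPow J (n + 1) _)))
  refine ⟨lift G w (Formal61.Sys.killedBy_modPow J (n + 1) _) ≫ v', ?_⟩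
  rw [Category.assoc, ← Category.assoc (π J c G n), π_lift, ← Category.assoc, hw]

theorem isCohFormal_sys (hc : Bound I J X c) {G : ℕᵒᵖ ⥤ X.Modules} (hG : Formal.IsCohFormal I G) :
    Formal.IsCohFormal J (sys J c G) := by
  refine ⟨fun n => isCoh_sys_obj G n (hG.1 _), fun n => killed_sys G n, fun n => ?_⟩
  refine Formal61.Sys.IsModQuot.of_comp (π := π J c G (n + 1)) (J' := J ^ (n + 1)) ?_
  rw [π_tr]
  exact isModQuot_comp hc hG (m_mono c (Nat.le_succ n))

variable (J c) in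
/-- functoriality -/
def mapSys {G G' : ℕᵒᵖ ⥤ X.Modules} (α : G ⟶ G') : sys J c G ⟶ sys J c G' :=
  NatTrans.ofOpSequence (fun n => lift G (α.app (op (m c n)) ≫ π J c G' n) (killed_sys G' n)) fun n => by
    rw [← cancel_epi (π J c G (n + 1)), ← Category.assoc, π_step, Category.assoc, π_lift, ← Category.assoc,
      α.naturality, Category.assoc, ← π_step, ← Category.assoc (π J c G (n + 1)), π_lift, Category.assoc]

theorem π_mapSys {G G' : ℕᵒᵖ ⥤ X.Modules} (α : G ⟶ G') (n : ℕ) :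
    π J c G n ≫ (mapSys J c α).app (op n) = α.app (op (m c n)) ≫ π J c G' n :=
  π_lift G _ _

attribute [local irreducible] mapSys

variable (I J) in
/-- the functor -/
def T (hc : Bound I J X c) : Formal2.CohFormalCat I X ⥤ Formal2.CohFormalCat J X where
  obj G := ⟨sys J c G.obj, isCohFormal_sys hc G.property⟩
  map {G G'} α := ObjectProperty.homMk (mapSys J c α.hom)
  map_id G := by
    refine InducedCategory.hom_ext (NatTrans.ext (funext fun ⟨n⟩ => ?_))
    rw [← cancel_epi (π J c G.obj n)]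
    exact (π_mapSys _ n).trans ((Category.id_comp _).trans (Category.comp_id _).symm)
  map_comp {G G' G''} α β := by
    refine InducedCategory.hom_ext (NatTrans.ext (funext fun ⟨n⟩ => ?_))
    rw [← cancel_epi (π J c G.obj n)]
    refine (π_mapSys _ n).trans ?_
    show (α.hom.app (op (m c n)) ≫ β.hom.app (op (m c n))) ≫ π J c G''.obj n =
      π J c G.obj n ≫ (mapSys J c α.hom).app (op n) ≫ (mapSys J c β.hom).app (op n)
    rw [Category.assoc, ← π_mapSys β.hom, ← Category.assoc, ← π_mapSys α.hom, Category.assoc]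

variable {d : ℕ}

/-- the composite projection -/
abbrev Q (c d : ℕ) (I J : Ideal A) (G : ℕᵒᵖ ⥤ X.Modules) (n : ℕ) :
    G.obj (op (m c (m d n))) ⟶ (sys I d (sys J c G)).obj (op n) :=
  π J c G (m d n) ≫ π I d (sys J c G) n

theorem isModQuot_Q (hd : Bound J I X d) {G : ℕᵒᵖ ⥤ X.Modules} (hG : Formal.IsCohFormal I G) (n : ℕ) :
    Formal61.Sys.IsModQuot (I ^ (n + 1)) (Q c d I J G n) := by
  haveI : Epi (Q c d I J G n) := epi_comp _ _
  refine Formal61.Sys.IsModQuot.mk' ((Formal61.Sys.smulFamily_comp_eq_zero_iff _).1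
    (Formal61.Sys.comp_eq_zero_of_killedBy (killed_sys (J := I) (c := d) _ n) _)) fun Z v hv => ?_
  obtain ⟨v', rfl⟩ := (Formal61.Sys.isModQuot_modPowπ I (n + 1) _).exists_desc v hv
  have hcoh : Coh.IsCoh (Formal.modPow I (n + 1) (G.obj (op (m c (m d n))))) := by
    haveI := (hG.1 (m c (m d n))).1
    haveI : (∐ fun _ : ↥(I ^ (n + 1)) => G.obj (op (m c (m d n)))).IsQuasicoherent := inferInstance
    exact CohDev.isCoh_cokernel _ this (hG.1 _)
  refine ⟨lift (sys J c G) (lift G (Formal.modPowπ I (n + 1) (G.obj (op (m c (m d n)))))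
    (Formal61.Sys.killedBy_mono (Ideal.pow_le_pow_right (Nat.le_succ _))
      (hd.2 (n + 1) _ hcoh (Formal61.Sys.killedBy_modPow I (n + 1) _))))
    (Formal61.Sys.killedBy_modPow I (n + 1) _) ≫ v', ?_⟩
  rw [Category.assoc, ← Category.assoc (π I d _ n), π_lift, ← Category.assoc, π_lift]

theorem Q_step (G : ℕᵒᵖ ⥤ X.Modules) (n : ℕ) :
    Q c d I J G (n + 1) ≫ (sys I d (sys J c G)).map (homOfLE (Nat.le_succ n)).op =
      G.map (homOfLE (m_mono c (m_mono d (Nat.le_succ n)))).op ≫ Q c d I J G n := by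
  rw [Category.assoc, π_step, ← Category.assoc, π_tr, Category.assoc]

/-- the component of the comparison -/
def compIso (hc : Bound I J X c) (hd : Bound J I X d) {G : ℕᵒᵖ ⥤ X.Modules} (hG : Formal.IsCohFormal I G) (n : ℕ) :
    (sys I d (sys J c G)).obj (op n) ≅ G.obj (op n) :=
  ((isModQuot_Q (c := c) hd hG n).existsUnique_iso
    (Formal61.Sys.isModQuot_map hG.2.1 hG.2.2 ((le_m hd n).trans (le_m hc _)))).choose

theorem Q_compIso (hc : Bound I J X c) (hd : Bound J I X d) {G : ℕᵒᵖ ⥤ X.Modules} (hG : Formal.IsCohFormal I G) (n : ℕ) :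
    Q c d I J G n ≫ (compIso hc hd hG n).hom = G.map (homOfLE ((le_m hd n).trans (le_m hc _))).op :=
  ((isModQuot_Q (c := c) hd hG n).existsUnique_iso
    (Formal61.Sys.isModQuot_map hG.2.1 hG.2.2 ((le_m hd n).trans (le_m hc _)))).choose_spec

attribute [local irreducible] compIso

/-- the comparison map -/
def objHom (hc : Bound I J X c) (hd : Bound J I X d) {G : ℕᵒᵖ ⥤ X.Modules} (hG : Formal.IsCohFormal I G) :
    sys I d (sys J c G) ⟶ G :=
  NatTrans.ofOpSequence (fun n => (compIso hc hd hG n).hom) fun n => by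
    haveI := (isModQuot_Q (c := c) hd hG (n + 1)).epi
    rw [← cancel_epi (Q c d I J G (n + 1)), ← Category.assoc, Q_step, Category.assoc, Q_compIso,
      ← Category.assoc (Q c d I J G (n + 1)), Q_compIso, ← Functor.map_comp, ← Functor.map_comp, ← op_comp,
      ← op_comp, homOfLE_comp, homOfLE_comp]

/-- the comparison on objects -/
def objIso (hc : Bound I J X c) (hd : Bound J I X d) {G : ℕᵒᵖ ⥤ X.Modules} (hG : Formal.IsCohFormal I G) :
    sys I d (sys J c G) ≅ G :=
  haveI : ∀ i, IsIso ((objHom hc hd hG).app i) := fun ⟨n⟩ => Iso.isIso_hom (compIso hc hd hG n)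
  haveI := NatIso.isIso_of_isIso_app (objHom hc hd hG)
  asIso (objHom hc hd hG)

theorem objIso_natural (hc : Bound I J X c) (hd : Bound J I X d) {G G' : ℕᵒᵖ ⥤ X.Modules}
    (hG : Formal.IsCohFormal I G) (hG' : Formal.IsCohFormal I G') (α : G ⟶ G') :
    mapSys I d (mapSys J c α) ≫ (objIso hc hd hG').hom = (objIso hc hd hG).hom ≫ α := by
  refine NatTrans.ext (funext fun ⟨n⟩ => ?_)
  haveI := (isModQuot_Q (c := c) hd hG n).epi
  rw [← cancel_epi (Q c d I J G n)]
  show Q c d I J G n ≫ (mapSys I d (mapSys J c α)).app (op n) ≫ (compIso hc hd hG' n).hom =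
    Q c d I J G n ≫ (compIso hc hd hG n).hom ≫ α.app (op n)
  rw [← Category.assoc (Q c d I J G n) (compIso hc hd hG n).hom, Q_compIso, α.naturality]
  have e1 : Q c d I J G n ≫ (mapSys I d (mapSys J c α)).app (op n) = α.app (op (m c (m d n))) ≫ Q c d I J G' n := by
    rw [Category.assoc, π_mapSys, ← Category.assoc, π_mapSys, Category.assoc]
  rw [← Category.assoc, e1, Category.assoc, Q_compIso]

/-- `T` and `T'` compose to the identity -/
def roundTrip (hc : Bound I J X c) (hd : Bound J I X d) :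
    T I J hc ⋙ T J I hd ≅ 𝟭 (Formal2.CohFormalCat I X) :=
  NatIso.ofComponents (fun G => ObjectProperty.isoMk _ (objIso hc hd G.property)) fun {G G'} α =>
    InducedCategory.hom_ext (objIso_natural hc hd G.property G'.property α.hom)

theorem nonempty_equivalence {I J : Ideal A}
    (hV : (fun x : X => (X ↘ Spec (CommRingCat.of A)) x) ⁻¹' PrimeSpectrum.zeroLocus (I : Set A) =
      (fun x : X => (X ↘ Spec (CommRingCat.of A)) x) ⁻¹' PrimeSpectrum.zeroLocus (J : Set A)) :
    Nonempty (Formal2.CohFormalCat I X ≌ Formal2.CohFormalCat J X) := by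
  obtain ⟨c, hc⟩ := exists_bound (I := I) (J := J) hV.ge
  obtain ⟨d, hd⟩ := exists_bound (I := J) (J := I) hV.le
  exact ⟨CategoryTheory.Equivalence.mk (T I J hc) (T J I hd) (roundTrip hc hd).symm (roundTrip hd hc)⟩

end Groth.Agent.FormalExist.ZeroLocus
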